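import Cfsg.Agent.H73.Asch.Line2

/-!
The local data from which the criterion kills the bad involution `u` (notes/aschbacher.md v3,
P3 and P4): a Sylow two-subgroup `R` of `C(E)` at `x` with an odd group `A` fixing only `u` in it,
a subgroup `K` of index two without conjugates of `u`, the conjugates of `u` under `N(E)` fused in
`C(E)`, and the transitivity of `A` on `E#`.
-/

set_option autoImplicit false

namespace Cfsg.Agent.H6.Asch

open Subgroup MulAction
open Cfsg.Agent.H14.Asch
open scoped commutatorElement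

universe u v

variable {G : Type u} [Group G] {Ω : Type v} [MulAction G Ω]

/-- The stabiliser of `x` in the normaliser of `E`. -/
def normAt (x : Ω) (E : Subgroup G) : Subgroup G := stabilizer G x ⊓ normalizer (E : Set G)

/-- The stabiliser of `x` in the centraliser of `E`. -/
def centAt (x : Ω) (E : Subgroup G) : Subgroup G := stabilizer G x ⊓ centralizer (E : Set G)

/-- The elements fixing `x` and `y`, centralising `u` and normalising `E`. -/
def pairNorm (u : G) (x y : Ω) (E : Subgroup G) : Subgroup G :=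
  pairStab G x y ⊓ (normAt x E ⊓ centralizer ({u} : Set G))

/-- The odd core of `pairNorm u x y E`. -/
def core (u : G) (x y : Ω) (E : Subgroup G) : Subgroup G :=
  (Cfsg.oddCore (pairNorm u x y E)).map (pairNorm u x y E).subtype

/-- The data for the transfer kill of `u`; `y` is a second fixed point. -/
structure Chain (u : G) (x y : Ω) (E R K A : Subgroup G) : Prop where
  fix' : u • y = y
  ne : y ≠ x
  R_two : IsPGroup 2 R
  R_le : R ≤ centAt x E
  R_max : ∀ P : Subgroup G, IsPGroup 2 P → P ≤ centAt x E → R ≤ P → P ≤ R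
  u_mem : u ∈ R
  A_odd : Odd (Nat.card A)
  A_le : A ≤ normAt x E ⊓ normalizer (R : Set G)
  A_commute : ∀ a ∈ A, Commute a u
  A_fix : ∀ g ∈ R, (∀ a ∈ A, Commute a g) → g ∈ zpowers u
  K_le : K ≤ R
  K_cases : ∀ g ∈ R, g ∈ K ∨ g * u ∈ K
  u_notMem : u ∉ K
  K_invariant : ∀ a ∈ A, ∀ k ∈ K, a * k * a⁻¹ ∈ K
  K_notConj : ∀ g : G, g * u * g⁻¹ ∉ K
  /-- CLASS: conjugation by `N(E)` at `x` is induced on `u` by `C(E)` at `x`. -/
  fused : ∀ g ∈ normAt x E, ∃ c ∈ centAt x E, g * u * g⁻¹ = c * u * c⁻¹
  /-- The two-elements centralising `u` and `E` and fixing both points are powers of `u`. -/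
  pair : ∀ t ∈ centAt x E, Commute t u → t • y = y → (∃ n : ℕ, orderOf t = 2 ^ n) → t ∈ zpowers u
  /-- `A` acts on `E` through `core u x y E`. -/
  A_image : ∀ a ∈ A, ∃ b ∈ core u x y E, b⁻¹ * a ∈ centAt x E
  /-- `A` is transitive on the non-trivial elements of `E`. -/
  trans : ∀ a ∈ E, ∀ b ∈ E, a ≠ 1 → b ≠ 1 → ∃ k ∈ A, k * a * k⁻¹ = b

end Cfsg.Agent.H6.Asch
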