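import Cfsg.Agent.H6.Asch.Chain
import Cfsg.Agent.H51.Asch.Chain
import Cfsg.Agent.H51.Asch.Core

/-!
The data of the local kill from the chain of P4 (notes/aschbacher.md v3), for lines with `Q = E`.
-/

set_option autoImplicit false

namespace Cfsg.Agent.H6.Asch

open Subgroup MulAction
open Cfsg.Agent.H14.Asch
open Cfsg.Agent.H73.Asch (Line2 RankOnePairs)
open Cfsg.Agent.H51.Asch (ShapeOneChain HasTranslation coreStab)
open scoped commutatorElement

universe u v

variable {G : Type u} [Group G] [Finite G] {Ω : Type v} [MulAction G Ω] [Finite Ω] {D : Set G}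
  {u : G} {x y : Ω} {E R A : Subgroup G}

/-- The data of the kill from the chain of a line with `Q = E`, given the fusion of `u`. -/
theorem chain_of_shapeOne (h : Crit G Ω D) (hP : RankOnePairs (G := G) Ω)
    (hl : Line2 D u x E E) (hT : HasTranslation u x E) (hy : u • y = y) (hyx : y ≠ x)
    (c : ShapeOneChain D u x E R A) (hA : A ≤ core u x y E)
    (hfused : ∀ g ∈ normAt x E, ∃ k ∈ centAt x E, g * u * g⁻¹ = k * u * k⁻¹) :
    Chain u x y E R ⁅R, A⁆ A where
  fix' := hy
  ne := hyx
  R_two := c.maxTwo.1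
  R_le := c.maxTwo.2.1
  R_max := fun P h1 h2 h3 => (c.maxTwo.2.2 P h1 h2 h3).le
  u_mem := c.torus.u_mem
  A_odd := c.torus.odd
  A_le := le_inf (fun a ha => mem_inf.mpr ⟨mem_stabilizer_iff.mpr (c.torus_fix a ha),
    c.torus.normE ha⟩) c.torus.normM
  A_commute := fun a ha => mul_inv_eq_iff_eq_mul.mp (c.torus.fix a ha)
  A_fix := fun _ hg hgA => c.mem_zpowers_of_commute hg hgA
  K_le := c.torus.commutator_le
  K_cases := fun _ hg => c.torus.mem_or_mul_mem hg
  u_notMem := c.torus.u_notMem_commutator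
  K_invariant := fun _ ha k hk =>
    (mem_normalizer_iff.mp (normalizer_commutator_ge_right R A ha) k).mp hk
  K_notConj := c.no_conj
  fused := hfused
  pair := fun t ht htu hty ⟨n, hn⟩ => c.mem_zpowers_of_fix h hP hl hT hy hyx ht htu hty
    (IsPGroup.of_card (n := n) (by rw [Nat.card_zpowers, hn]))
  A_image := fun a ha => ⟨a, hA ha, by rw [inv_mul_cancel]; exact one_mem _⟩
  trans := fun a ha b hb ha1 hb1 => c.torus.trans a ha ha1 b hb hb1

/-- The data of the kill exist for a line with `Q = E` with a translation and fused `u`. -/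
theorem exists_chain_of_shapeOne (h : Crit G Ω D) (hP : RankOnePairs (G := G) Ω)
    (hl : Line2 D u x E E) (hT : HasTranslation u x E) (hy : u • y = y) (hyx : y ≠ x)
    (hfused : ∀ g ∈ normAt x E, ∃ k ∈ centAt x E, g * u * g⁻¹ = k * u * k⁻¹) :
    ∃ R K A : Subgroup G, Chain u x y E R K A := by
  obtain ⟨R, A, c, hA⟩ := H51.Asch.exists_chain_core h hP hl hT hy hyx
  exact ⟨R, ⁅R, A⁆, A, chain_of_shapeOne h hP hl hT hy hyx c hA hfused⟩

end Cfsg.Agent.H6.Asch
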