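import Cfsg.Agent.H6.Asch.Steps
import Cfsg.Agent.H26.Asch.ClassShapeOne
import Cfsg.Agent.H29.Asch.ShapeExists

/-!
The local step of the criterion for every shape of line, from four statements: the residue of the
class analysis, lines without translations, and the data of the kill for lines of shapes two and
three. Together with the rank theorem they give the criterion.
-/

set_option autoImplicit false
set_option linter.style.haveILetI false

namespace Cfsg.Agent.H6.Asch

open Subgroup MulAction
open Cfsg.Agent.H14.Asch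
open Cfsg.Agent.H73.Asch (RankTwoBad Line2 RankOnePairs NoBad HasLines2 liftSet crit_liftSet
  noBad_of_generated)
open Cfsg.Agent.H51.Asch (HasTranslation)
open Cfsg.Agent.H26.Asch (ClassResidue)

universe u v

variable (Ω : Type v)

/-- The residue of the class analysis keeps `u` outside the commutator subgroup. -/
def ResidueStep {G : Type u} [Group G] [MulAction G Ω] (D : Set G) : Prop :=
  RankOnePairs (G := G) Ω → ∀ (u : G) (x y : Ω) (E Q R K N A : Subgroup G), Line2 D u x E Q →
    u • y = y → y ≠ x → HasTranslation u x E → ClassResidue u x E R K N A → u ∉ commutator G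

/-- A line without translations keeps `u` outside the commutator subgroup. -/
def NoTranslationStep {G : Type u} [Group G] [MulAction G Ω] (D : Set G) : Prop :=
  RankOnePairs (G := G) Ω → ∀ (u : G) (x : Ω) (E Q : Subgroup G), Line2 D u x E Q →
    ¬ HasTranslation u x E → u ∉ commutator G

/-- The data of the kill, or the residue, for lines of shape two. -/
def ShapeTwoStep {G : Type u} [Group G] [MulAction G Ω] (D : Set G) : Prop :=
  RankOnePairs (G := G) Ω → ∀ (u : G) (x y : Ω) (E Q : Subgroup G), Line2 D u x E Q →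
    u • y = y → y ≠ x → HasTranslation u x E → Squaring Q E → ¬ Q ≤ E →
      ∃ R K A : Subgroup G, Chain u x y E R K A ∨ ∃ N : Subgroup G, ClassResidue u x E R K N A

/-- The data of the kill, or the residue, for lines of shape three. -/
def ShapeThreeStep {G : Type u} [Group G] [MulAction G Ω] (D : Set G) : Prop :=
  RankOnePairs (G := G) Ω → ∀ (u : G) (x y : Ω) (E Q A₀ : Subgroup G), Line2 D u x E Q →
    u • y = y → y ≠ x → HasTranslation u x E → A₀ ≤ lineGroup D u ⊓ pairStab G x y →
    IsCyclic A₀ → ShapeData (Q ⊔ zpowers u) Q E A₀ u → Twisted A₀ E Q → ¬ Q ≤ E →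
      ∃ R K A : Subgroup G, Chain u x y E R K A ∨ ∃ N : Subgroup G, ClassResidue u x E R K N A

variable {Ω} {G : Type u} [Group G] [Finite G] [MulAction G Ω] [Finite Ω] {D : Set G}

/-- **The local step.** -/
theorem chain_or_not_mem (h : Crit G Ω D) (hres : ResidueStep Ω D) (hno : NoTranslationStep Ω D)
    (h2 : ShapeTwoStep Ω D) (h3 : ShapeThreeStep Ω D) (hP : RankOnePairs (G := G) Ω) (t : G)
    (x : Ω) (E Q : Subgroup G) (hl : Line2 D t x E Q) :
    (∃ (y : Ω) (R K A : Subgroup G), Chain t x y E R K A) ∨ t ∉ commutator G := by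
  by_cases hT : HasTranslation t x E
  swap
  · exact Or.inr (hno hP t x E Q hl hT)
  obtain ⟨y, hy, hyx⟩ : ∃ y, t • y = y ∧ y ≠ x := by
    obtain ⟨-, ⟨a, b, hab, ha, hb⟩, -⟩ := hl.bad
    by_cases hax : a = x
    · exact ⟨b, hb, fun e => hab (hax.trans e.symm)⟩
    · exact ⟨a, ha, hax⟩
  have finish : (∃ R K A : Subgroup G, Chain t x y E R K A ∨
      ∃ N : Subgroup G, ClassResidue t x E R K N A) →
      (∃ (y : Ω) (R K A : Subgroup G), Chain t x y E R K A) ∨ t ∉ commutator G := by
    rintro ⟨R, K, A, hc | ⟨N, hN⟩⟩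
    · exact Or.inl ⟨y, R, K, A, hc⟩
    · exact Or.inr (hres hP t x y E Q R K N A hl hy hyx hT hN)
  by_cases hQE : Q ≤ E
  · obtain rfl := le_antisymm hQE hl.E_le
    exact finish (H26.Asch.exists_chain_or_residue_shapeOne h hP hl hT hy hyx)
  obtain ⟨A₀, hA₀, hcyc, -, hd, hshape⟩ := H29.Asch.exists_shapeBase h hP hl hT hy hyx
  rcases hshape with e | hs | htw
  · exact absurd e.le hQE
  · exact finish (h2 hP t x y E Q hl hy hyx hT hs hQE)
  · exact finish (h3 hP t x y E Q A₀ hl hy hyx hT hA₀ hcyc hd htw hQE)

/-- **The criterion in a group generated by the members**, from the rank theorem and the four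
local statements. -/
theorem noBad_generated_of_local (h : Crit G Ω D) (hgen : closure D = ⊤)
    (hpairs : (∀ t : G, orderOf t = 2 → ∀ a b : Ω, a ≠ b → t • a = a → t • b = b →
      RankTwoBad Ω D t) → RankOnePairs (G := G) Ω)
    (hres : ResidueStep Ω D) (hno : NoTranslationStep Ω D) (h2 : ShapeTwoStep Ω D)
    (h3 : ShapeThreeStep Ω D) : NoBad Ω D :=
  noBad_generated_of_two h hgen hpairs fun hP => chain_or_not_mem h hres hno h2 h3 hP

end Cfsg.Agent.H6.Asch
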