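import Cfsg.Agent.H6.Asch.ResidueAbelian
import Cfsg.Agent.H72.Asch.ShapeTwoClass
import Cfsg.Agent.H72.Asch.ResidueSmall
import Cfsg.Agent.H72.Asch.InvertDet
import Cfsg.Agent.H1.Asch.Fusion

/-!
The residue for a line of shape two with `Q` strictly above `E`: `u` is outside `G'`.

The transfer argument, for several layers with `Q` in the second centre. Let `S` be a maximal
2-subgroup of `classGroup x E R` over `R` and `v` a conjugate of `u` in `S`. By control of fusion
`v = k u k⁻¹` with `k` fixing `x`, so a 2-element at `x` centralising `v` has order at most four.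
An involution moving `E`, or lying in `⁅R, A⁆`, centralises an element of `⁅R, A⁆` of order at least
eight; so `v ∈ ⁅R, A⁆ u`, and `v` inverts `F = Φ ∩ Z₂ ≅ (Z/4)^3`. The classes generate `R` and
`E = Ω₁(Φ)`, so `S` is a Sylow 2-subgroup of the stabiliser of `x`, of odd index in `G`, and the
determinant on `F` is a character of `S` taking the value `-1` at every conjugate of `u` in `S`.
-/

set_option autoImplicit false
set_option linter.style.haveILetI false
set_option linter.unusedSectionVars false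

namespace Cfsg.Agent.H6.Asch

open Subgroup MulAction
open Cfsg.Agent.H14.Asch
open Cfsg.Agent.H39 (mul_self_of_orderOf_eq_two)
open Cfsg.Agent.H73.Asch (Line2 RankOnePairs)
open Cfsg.Agent.H26.Asch (classGroup ClassData ClassResidue mem_centAt')
open Cfsg.Agent.H51.Asch (nxt nxt_le norm_nxt inf_norm coreStab HasTranslation MaxTwo
  exists_maxTwo_ge)
open scoped commutatorElement

universe u v

variable {G : Type u} [Group G] [Finite G] {Ω : Type v} [MulAction G Ω] [Finite Ω] {D : Set G}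
  {u : G} {x y : Ω} {E Q R A A₀ N : Subgroup G}

/-- The transfer, for several layers with `Q` in the second centre. -/
theorem residue_transfer (h : Crit G Ω D) (hP : RankOnePairs (G := G) Ω) (hl : Line2 D u x E Q)
    (hT : HasTranslation u x E) (hy : u • y = y) (hyx : y ≠ x)
    (res : ClassResidue u x E R ⁅R, A⁆ N A) (hd : ShapeData R Q E A u) (hs : Squaring Q E)
    (hQE : ¬ Q ≤ E) (hmulti : u ∉ hd.zTwo) (hQX : Q ≤ hd.zTwo)
    (htorus : ∀ g ∈ normAt x E, Commute g u → ∀ a ∈ A, ∃ b ∈ A,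
      b⁻¹ * (g * a * g⁻¹) ∈ centAt x E) :
    u ∉ commutator G := by
  classical
  haveI : Fact (Nat.Prime 2) := ⟨Nat.prime_two⟩
  haveI := h.trans
  have d := res.data
  set C := classGroup x E R with hC
  set K := ⁅R, A⁆ with hK
  have huu : u * u = 1 := hd.sq_u
  have hRC : R ≤ C := d.R_le_classGroup
  have hCx : ∀ {g}, g ∈ C → g • x = x := fun hg =>
    mem_stabilizer_iff.mp (mem_inf.mp (mem_inf.mp hg).1).1
  obtain ⟨S, hRS, hS2, hSC, hSmax⟩ := exists_maxTwo_ge d.R_two hRC
  -- a 2-element at `x` centralising a conjugate of `u` in `S` has exponent four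
  have hconj : ∀ (a : G), a * u * a⁻¹ ∈ S → ∀ w : G, w ∈ R → Commute w (a * u * a⁻¹) →
      w ^ 4 = 1 := by
    intro a ha w hw hwv
    have hzx : x ∈ H1.Asch.fixSet (Ω := Ω) (zpowers u) := fun e he =>
      (zpowers_le.mpr (show u ∈ stabilizer G x from hl.fix)) he
    obtain ⟨k, hk, hkt⟩ := H1.Asch.exists_stabilizer_conj h
      (IsPGroup.of_card (n := 1) (by rw [Nat.card_zpowers, hl.bad.1]; rfl)) hzx (a := a)
      fun t ht => (zpowers_le.mpr (show u ∈ (stabilizer G x).comap (MulAut.conj a).toMonoidHom from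
        mem_stabilizer_iff.mpr (hCx (hSC ha)))) ht
    have hku := hkt u (mem_zpowers u)
    have hkx : k • x = x := mem_stabilizer_iff.mp hk
    have h1 := H72.Asch.pow_four_eq_one h hP hl hT hy hyx d res.card_E htorus
      (w := k⁻¹ * w * k) ?_ ?_ ?_
    · have e : (k⁻¹ * w * k⁻¹⁻¹) ^ 4 = 1 := by rwa [inv_inv]
      rw [conj_pow, conj_eq_one_iff] at e
      exact e
    · obtain ⟨n, hn⟩ := (IsPGroup.iff_orderOf (p := 2)).mp d.R_two ⟨w, hw⟩
      rw [orderOf_mk] at hn
      refine ⟨n, ?_⟩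
      rw [← hn]
      have := (MulAut.conj k⁻¹).orderOf_eq w
      rw [MulAut.conj_apply, inv_inv] at this
      exact this
    · rw [mul_smul, mul_smul, hkx, (hCx (hRC hw)), inv_smul_eq_iff, hkx]
    · rw [← hku] at hwv
      have h2 := commute_conj hwv k⁻¹
      rw [inv_inv, show k⁻¹ * (k * u * k⁻¹) * k = u by group] at h2
      exact h2
  -- the conjugates of `u` in `S` lie in `⁅R, A⁆ u`
  have hcoset : ∀ (a : G), a * u * a⁻¹ ∈ S →
      a * u * a⁻¹ ∈ R ∧ a * u * a⁻¹ * u ∈ K := by
    intro a ha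
    set v := a * u * a⁻¹ with hv
    have hv2 : v * v = 1 := by rw [hv, conj_mul, huu, mul_one, mul_inv_cancel]
    have hvE : ∀ e ∈ E, v * e * v⁻¹ = e := by
      intro e he
      by_contra hne
      obtain ⟨w, hw, hwv, hw4⟩ := layers_exists_eight res hd hs hQE hmulti hQX (hSC ha) hv2 he hne
      exact hw4 (hconj a ha w (hd.commutator_le hw) hwv)
    have hvR : v ∈ R := d.R_max (S ⊓ centAt x E) (hS2.to_le inf_le_left) inf_le_right
      (le_inf hRS d.R_le) (mem_inf.mpr ⟨ha, mem_centAt'.mpr ⟨hCx (hSC ha), hvE⟩⟩)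
    refine ⟨hvR, (hd.mem_or_mul_mem hvR).resolve_left fun hvK => ?_⟩
    obtain ⟨w, hw, hwv, hw4⟩ := layers_exists_eight' res hd hs hQE hmulti hQX hvK
    exact hw4 (hconj a ha w (hd.commutator_le hw) hwv)
  -- `S` is a Sylow 2-subgroup of the stabiliser
  obtain ⟨P, hSP, hP2, hPx, hPmax⟩ := exists_maxTwo_ge hS2
    (K := stabilizer G x) (fun s hs' => mem_stabilizer_iff.mpr (hCx (hSC hs')))
  have hSPeq : S = P := by
    by_contra hne
    haveI := hP2.isNilpotent
    have hlt : S.subgroupOf P < ⊤ := lt_top_iff_ne_top.mpr fun e =>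
      hne (le_antisymm hSP (subgroupOf_eq_top.mp e))
    obtain ⟨g, hg, hgS⟩ :=
      SetLike.exists_of_lt (Group.normalizerCondition_of_isNilpotent _ hlt)
    have hgS' : ∀ s, s ∈ S → (g : G) * s * (g : G)⁻¹ ∈ S := fun s hs' =>
      (mem_normalizer_iff.mp hg ⟨s, hSP hs'⟩).mp hs'
    have hgR : ∀ r ∈ R, (g : G) * r * (g : G)⁻¹ ∈ R := by
      intro r hr
      have hle : closure {v | ∃ c ∈ classGroup x E R, c * u * c⁻¹ = v} ≤
          R.comap (MulAut.conj (g : G)).toMonoidHom := (closure_le _).mpr fun v hv => by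
        obtain ⟨c, hc, rfl⟩ := hv
        have hcS : c * u * c⁻¹ ∈ S :=
          hRS ((mem_normalizer_iff.mp (mem_inf.mp hc).2 u).mp hd.u_mem)
        have h2 := hgS' _ hcS
        rw [show (g : G) * (c * u * c⁻¹) * (g : G)⁻¹ = g * c * u * (g * c)⁻¹ by group] at h2
        show (g : G) * (c * u * c⁻¹) * (g : G)⁻¹ ∈ R
        rw [show (g : G) * (c * u * c⁻¹) * (g : G)⁻¹ = g * c * u * (g * c)⁻¹ by group]
        exact (hcoset _ h2).1
      exact hle (layers_generate res hd hs hQE hmulti hQX hr)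
    have hgRn : (g : G) ∈ normalizer (R : Set G) := H39.mem_normalizer_of_conj_mem hgR
    have hgΦ : zpowers (g : G) ≤ normalizer (nxt R R : Set G) :=
      norm_nxt (zpowers_le.mpr hgRn) (zpowers_le.mpr hgRn)
    have hgE : (g : G) ∈ normalizer (E : Set G) := H39.mem_normalizer_of_conj_mem fun e he =>
      layers_omega res hd hs hQE hmulti hQX
        ((mem_normalizer_iff.mp (hgΦ (mem_zpowers _)) e).mp (H72.Asch.E_le_nxt hd hQE he))
        (by rw [conj_mul, hd.sq e he, mul_one, mul_inv_cancel])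
    have hgC : (g : G) ∈ C := mem_inf.mpr ⟨mem_inf.mpr ⟨hPx g.2, hgE⟩, hgRn⟩
    have heq := hSmax (P ⊓ C) (hP2.to_le inf_le_left) inf_le_right (le_inf hSP hSC)
    have hgP : (g : G) ∈ P ⊓ C := mem_inf.mpr ⟨g.2, hgC⟩
    rw [heq] at hgP
    exact hgS (mem_subgroupOf.mpr hgP)
  have hodd : Odd S.index := by
    obtain ⟨Y, hY⟩ := (hS2.comap_subtype (K := stabilizer G x)).exists_le_sylow
    have hSst : S ≤ stabilizer G x := hSPeq ▸ hPx
    have hYS : (Y : Subgroup (stabilizer G x)).map (stabilizer G x).subtype = P :=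
      hPmax _ (Y.isPGroup'.map _) (map_subtype_le _) fun p hp =>
        ⟨⟨p, hPx hp⟩, hY (show p ∈ S from hSPeq.symm ▸ hp), rfl⟩
    have h1 : S.relIndex (stabilizer G x) = (Y : Subgroup (stabilizer G x)).index := by
      rw [hSPeq, ← hYS]
      exact congrArg Subgroup.index
        (comap_map_eq_self_of_injective (stabilizer G x).subtype_injective _)
    rw [← relIndex_mul_index hSst, h1, index_stabilizer_of_transitive]
    refine Nat.odd_mul.mpr ⟨?_, H1.Asch.odd_card_points h⟩
    have := Y.not_dvd_index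
    exact Nat.odd_iff.mpr (by omega)
  -- the determinant on `Φ ∩ Z₂`
  set F : Subgroup G := nxt R R ⊓ hd.zTwo with hF
  have hSF : S ≤ normalizer (F : Set G) := fun s hs' => by
    obtain ⟨hsR, hsE⟩ := residue_norm res hd hs (hSC hs')
    refine H39.mem_normalizer_of_conj_mem fun y hy' => mem_inf.mpr
      ⟨(mem_normalizer_iff.mp (norm_nxt le_rfl le_rfl hsR) y).mp (mem_inf.mp hy').1,
        H72.Asch.conj_mem_zTwo hd hsR hsE (mem_inf.mp hy').2⟩
  obtain ⟨φ, -, hφ⟩ := H72.Asch.exists_det_hom (S := S) (F := F) (E := E) hSF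
    (fun a ha b hb => layers_nxt_comm res hd hs hQE hmulti hQX (mem_inf.mp ha).1 (mem_inf.mp hb).1)
    (fun e he => mem_inf.mpr ⟨H72.Asch.E_le_nxt hd hQE he, hQX (hd.le_E he)⟩) hd.sq res.card_E
    (fun y hy' => (layers_bottom_sq res hd hs hQE hmulti hQX hy').2)
    (fun y hy' h2 => layers_omega res hd hs hQE hmulti hQX (mem_inf.mp hy').1 h2)
    (fun e he => layers_bottom_onto res hd hs hQE hmulti hQX he)
  have hval : ∀ (a : G) (ha : a * u * a⁻¹ ∈ S), φ ⟨_, ha⟩ = -1 := fun a ha => hφ _ fun y hy' => by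
    have hkK := (hcoset a ha).2
    set k := a * u * a⁻¹ * u with hk
    show a * u * a⁻¹ * y * (a * u * a⁻¹)⁻¹ = y⁻¹
    rw [show a * u * a⁻¹ = k * u by rw [hk, mul_assoc _ u u, huu, mul_one], mul_inv_rev, hd.inv_u]
    calc k * u * y * (u * k⁻¹) = k * (u * y * u) * k⁻¹ := by group
      _ = k * y⁻¹ * k⁻¹ := by rw [layers_inv res hd hs hQE hmulti hQX (mem_inf.mp hy').1]
      _ = y⁻¹ := by
        rw [(layers_K_nxt res hd hs hQE hmulti hQX hkK (inv_mem (mem_inf.mp hy').1)).eq,
          mul_inv_cancel_right]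
  have huS : u ∈ S := hRS hd.u_mem
  have hu1 : φ ⟨u, huS⟩ = -1 := by
    have := hval 1 (by rwa [one_mul, inv_one, mul_one])
    simpa using this
  refine H1.Asch.not_mem_commutator_of_map_conj φ hodd huS huu ?_ fun a ha => ?_
  · rw [hu1]; decide
  · rw [hu1]
    have := hval a⁻¹ (by rwa [inv_inv])
    simpa using this

/-- **The residue for `Q` strictly above `E`**: `u` is outside `G'`. -/
theorem residue_not_mem_commutator (h : Crit G Ω D) (hP : RankOnePairs (G := G) Ω)
    (hl : Line2 D u x E Q) (hT : HasTranslation u x E) (hy : u • y = y) (hyx : y ≠ x)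
    (hA₀ : A₀ ≤ lineGroup D u ⊓ pairStab G x y) (hA₀E : A₀ ≤ normalizer (E : Set G))
    (hA₀K : A₀ ≤ normalizer (coreStab x E : Set G)) (hR : MaxTwo (coreStab x E) R)
    (hA : A ≤ A₀ ⊔ coreStab x E) (hd : ShapeData R Q E A u) (hs : Squaring Q E) (hQE : ¬ Q ≤ E)
    (res : ClassResidue u x E R ⁅R, A⁆ N A) : u ∉ commutator G := by
  by_cases hlayer : u ∈ hd.zTwo
  · exact (residue_false_oneLayer res hd hs hQE hlayer
      (H72.Asch.not_centralizes hR hd hT)).elim
  by_cases hQX : Q ≤ hd.zTwo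
  swap
  · exact (residue_false_layers res hd hs hQE hlayer hQX).elim
  refine residue_transfer h hP hl hT hy hyx res hd hs hQE hlayer hQX fun g hg hgu a ha => ?_
  have hAn : A ≤ normAt x E := fun a ha => (mem_inf.mp (res.data.A_le ha)).1
  refine H26.Asch.exists_torus_conj h hl hy hyx hAn
    (fun a ha => H29.Asch.exists_core_image h hl hy hyx hA₀ hA₀E hA₀K (hA ha))
    (fun a ha b hb e _ => ?_)
    (fun a ha b hb ha1 hb1 => hd.trans a ha ha1 b hb hb1) hg hgu ha
  rw [commutatorElement_eq_one_iff_commute.mpr (res.data.A_comm a ha b hb), one_mul, mul_one]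

end Cfsg.Agent.H6.Asch
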