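import Cfsg.Agent.H6.Asch.Dispatch
import Cfsg.Agent.H1.Asch.Pre
import Cfsg.Agent.H30.Asch.NoneProperPerp

/-!
The criterion `Red.Core` from the rank theorem and the four local statements of `Dispatch`.
-/

set_option autoImplicit false
set_option linter.style.haveILetI false

namespace Cfsg.Agent.H6.Asch

open Subgroup MulAction
open Cfsg.Agent.H14.Asch
open Cfsg.Agent.H73.Asch (RankTwoBad RankOnePairs NoBad liftSet crit_liftSet noBad_of_generated)
open Cfsg.Agent.H30.Asch (AllRankTwo)

universe u v

/-- The rank theorem. -/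
def PairsStep (G : Type u) [Group G] [Finite G] (Ω : Type v) [MulAction G Ω] [Finite Ω]
    (D : Set G) : Prop :=
  AllRankTwo Ω D → RankOnePairs (G := G) Ω

/-- **The criterion**, from the rank theorem and the four local statements of the group generated
by the members. -/
theorem noBad_of_local {G : Type u} [Group G] [Finite G] {Ω : Type v} [MulAction G Ω] [Finite Ω]
    {D : Set G} (h : Crit G Ω D)
    (hstep : ∀ {H : Type u} [Group H] [Finite H] [MulAction H Ω] (D' : Set H), Crit H Ω D' →
      PairsStep H Ω D' ∧ ResidueStep Ω D' ∧ NoTranslationStep Ω D' ∧ ShapeTwoStep Ω D' ∧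
        ShapeThreeStep Ω D') : NoBad Ω D := by
  refine noBad_of_generated h fun hgen => ?_
  obtain ⟨hp, hr, hn, h2, h3⟩ := hstep (liftSet D) (crit_liftSet h)
  exact noBad_generated_of_local (crit_liftSet h) hgen hp hr hn h2 h3

/-- `Red.Core` from the rank theorem and the four local statements. -/
theorem core_of_local
    (hstep : ∀ {H : Type u} [Group H] [Finite H] {Ω : Type u} [MulAction H Ω] [Finite Ω]
      (D' : Set H), Crit H Ω D' →
      PairsStep H Ω D' ∧ ResidueStep Ω D' ∧ NoTranslationStep Ω D' ∧ ShapeTwoStep Ω D' ∧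
        ShapeThreeStep Ω D') : H1.Asch.Red.Core.{u} :=
  fun _ _ _ _ _ _ _ h => noBad_of_local h fun D' h' => hstep D' h'

end Cfsg.Agent.H6.Asch
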