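import Cfsg.Agent.H6.Asch.Criterion
import Cfsg.Agent.H6.Asch.ResidueTransfer
import Cfsg.Agent.H73.Asch.PairsStep
import Cfsg.Agent.H73.Asch.NoTranslation

/-!
The criterion from the last three local statements: the residue and the lines without translations
for `Q = E` and `|E| = 8`, and the chain for shape three.
-/

set_option autoImplicit false
set_option linter.style.haveILetI false

namespace Cfsg.Agent.H6.Asch

open Subgroup MulAction
open Cfsg.Agent.H14.Asch
open Cfsg.Agent.H73.Asch (Line2 RankOnePairs NoBad liftSet crit_liftSet noBad_of_generated)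
open Cfsg.Agent.H51.Asch (HasTranslation coreStab)
open Cfsg.Agent.H26.Asch (ClassResidue)
open scoped commutatorElement

universe u v

variable (Ω : Type v)

/-- For `Q = E` the residue of the class analysis keeps `u` outside `G'`. -/
def EqResidueStep {G : Type u} [Group G] [MulAction G Ω] (D : Set G) : Prop :=
  RankOnePairs (G := G) Ω → ∀ (u : G) (x y : Ω) (E R K N A : Subgroup G), Line2 D u x E E →
    u • y = y → y ≠ x → HasTranslation u x E → ClassResidue u x E R K N A → u ∉ commutator G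

/-- For `Q = E` of order eight a line without translations keeps `u` outside `G'`. -/
def EqNoTranslationStep {G : Type u} [Group G] [MulAction G Ω] (D : Set G) : Prop :=
  RankOnePairs (G := G) Ω → ∀ (u : G) (x : Ω) (E : Subgroup G), Line2 D u x E E →
    Nat.card E = 8 → ¬ HasTranslation u x E → u ∉ commutator G

/-- The chain for lines of shape three. -/
def ShapeThreeChain {G : Type u} [Group G] [MulAction G Ω] (D : Set G) : Prop :=
  RankOnePairs (G := G) Ω → ∀ (u : G) (x y : Ω) (E Q A₀ : Subgroup G), Line2 D u x E Q →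
    u • y = y → y ≠ x → HasTranslation u x E → A₀ ≤ lineGroup D u ⊓ pairStab G x y →
    IsCyclic A₀ → ShapeData (Q ⊔ zpowers u) Q E A₀ u → Twisted A₀ E Q → ¬ Q ≤ E →
      ∃ R K A : Subgroup G, Chain u x y E R K A

variable {Ω} {G : Type u} [Group G] [Finite G] [MulAction G Ω] [Finite Ω] {D : Set G}

/-- The chain for lines of shape two, if `u` is in `G'`. -/
theorem chain_shapeTwo (h : Crit G Ω D) (hP : RankOnePairs (G := G) Ω) {u : G} {x y : Ω}
    {E Q : Subgroup G} (hl : Line2 D u x E Q) (hT : HasTranslation u x E) (hy : u • y = y)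
    (hyx : y ≠ x) (hs : Squaring Q E) (hQE : ¬ Q ≤ E) (hu : u ∈ commutator G) :
    ∃ R K A : Subgroup G, Chain u x y E R K A := by
  obtain ⟨A₀, hA₀, hcyc, hA₀K, hd₀, -⟩ := H29.Asch.exists_shapeBase h hP hl hT hy hyx
  have hM := H29.Asch.maxTwo_base h hP hl hT hy hyx
  have hXE : ∀ e ∈ E, ∀ g ∈ coreStab x E, Commute e g := fun e he g hg =>
    (H51.Asch.mem_coreStab.mp hg).2 e he
  obtain ⟨R, A, hR, -, hA, hd⟩ := H29.Asch.exists_chain hd₀ hs hcyc (hM.2.1.trans inf_le_left)
    (fun e he g hg => hXE e he g hg) hA₀K hM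
    fun _ _ hd hMX hAX _ hP' hMP => hd.orbit hs hQE hMX hXE hAX hM hP' hMP
  have hAK : A ≤ normalizer (coreStab x E : Set G) := hA.trans (sup_le hA₀K le_normalizer)
  refine ⟨R, ⁅R, A⁆, A, ?_⟩
  rcases H72.Asch.fused_or_residue_shapeTwo h hl hy hyx hT hA₀ hd₀.normE hA₀K hR hA hd hs hQE with
    hf | ⟨N, res⟩
  · exact H29.Asch.chain_of_shape h hP hl hT hy hyx hA₀ hd₀.normE hA₀K hR hA hd
      (hd.u_notMem_commutator (Or.inl hs))
      (H29.Asch.notMem_commutator_of_shapeTwo h hl hM hd hs hQE hR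
        (hd.fixed hs hQE hR.2.1 hXE hAK hM hR) hf) hf
  · exact absurd hu (residue_not_mem_commutator h hP hl hT hy hyx hA₀ hd₀.normE hA₀K hR hA hd hs
      hQE res)

/-- **The local step.** -/
theorem chain_or_not_mem_final (h : Crit G Ω D) (he : EqResidueStep Ω D)
    (hn : EqNoTranslationStep Ω D) (h3 : ShapeThreeChain Ω D) (hP : RankOnePairs (G := G) Ω)
    (t : G) (x : Ω) (E Q : Subgroup G) (hl : Line2 D t x E Q) :
    (∃ (y : Ω) (R K A : Subgroup G), Chain t x y E R K A) ∨ t ∉ commutator G := by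
  by_cases hmem : t ∈ commutator G
  swap
  · exact Or.inr hmem
  by_cases hT : HasTranslation t x E
  swap
  · exact Or.inr (H73.Asch.noTranslationStep_of_eq h hn hP t x E Q hl hT)
  obtain ⟨y, hy, hyx⟩ : ∃ y, t • y = y ∧ y ≠ x := by
    obtain ⟨-, ⟨a, b, hab, ha, hb⟩, -⟩ := hl.bad
    by_cases hax : a = x
    · exact ⟨b, hb, fun e => hab (hax.trans e.symm)⟩
    · exact ⟨a, ha, hax⟩
  by_cases hQE : Q ≤ E
  · obtain rfl := le_antisymm hQE hl.E_le
    obtain ⟨R, K, A, hc | ⟨N, res⟩⟩ :=
      H26.Asch.exists_chain_or_residue_shapeOne h hP hl hT hy hyx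
    · exact Or.inl ⟨y, R, K, A, hc⟩
    · exact Or.inr (he hP t x y _ R K N A hl hy hyx hT res)
  obtain ⟨A₀, hA₀, hcyc, -, hd, hshape⟩ := H29.Asch.exists_shapeBase h hP hl hT hy hyx
  rcases hshape with e | hs | htw
  · exact absurd e.le hQE
  · exact Or.inl ⟨y, chain_shapeTwo h hP hl hT hy hyx hs hQE hmem⟩
  · exact Or.inl ⟨y, h3 hP t x y E Q A₀ hl hy hyx hT hA₀ hcyc hd htw hQE⟩

/-- **The criterion**, from the three statements. -/
theorem noBad_of_three {G : Type u} [Group G] [Finite G] {Ω : Type v} [MulAction G Ω] [Finite Ω]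
    {D : Set G} (h : Crit G Ω D)
    (hstep : ∀ {H : Type u} [Group H] [Finite H] [MulAction H Ω] (D' : Set H), Crit H Ω D' →
      EqResidueStep Ω D' ∧ EqNoTranslationStep Ω D' ∧ ShapeThreeChain Ω D') : NoBad Ω D := by
  refine noBad_of_generated h fun hgen => ?_
  obtain ⟨he, hn, h3⟩ := hstep (liftSet D) (crit_liftSet h)
  exact noBad_generated_of_two (crit_liftSet h) hgen (H73.Asch.pairsStep (crit_liftSet h))
    fun hP => chain_or_not_mem_final (crit_liftSet h) he hn h3 hP

/-- `Red.Core` from the three statements. -/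
theorem core_of_three
    (hstep : ∀ {H : Type u} [Group H] [Finite H] {Ω : Type u} [MulAction H Ω] [Finite Ω]
      (D' : Set H), Crit H Ω D' →
      EqResidueStep Ω D' ∧ EqNoTranslationStep Ω D' ∧ ShapeThreeChain Ω D') :
    H1.Asch.Red.Core.{u} :=
  fun _ _ _ _ _ _ _ h => noBad_of_three h fun D' h' => hstep D' h'

end Cfsg.Agent.H6.Asch
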