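import Cfsg.Agent.H6.Asch.Final
import Cfsg.Agent.H51.Asch.UnitaryClimb
import Cfsg.Agent.H14.Asch.UnitaryCaseB
import Cfsg.Agent.H72.Asch.UnitaryNoConj
import Cfsg.Agent.H72.Asch.UnitaryScalar
import Cfsg.Agent.H72.Asch.ResidueUnitary
import Cfsg.Agent.H72.Asch.ShapeClasses

/-!
The chain for a line of shape three: the scalars of the torus are transitive on `E`, the climb ends
at a product or a wreathed group, and neither holds a good involution in `⁅R, A⁆`.
-/

set_option autoImplicit false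
set_option linter.style.haveILetI false
set_option linter.unusedSectionVars false

namespace Cfsg.Agent.H6.Asch

open Subgroup MulAction
open Cfsg.Agent.H14.Asch
open Cfsg.Agent.H39 (mul_self_of_orderOf_eq_two)
open Cfsg.Agent.H73.Asch (Line2 RankOnePairs)
open Cfsg.Agent.H51.Asch (HasTranslation coreStab mem_coreStab MaxTwo exists_maxTwo_ge)
open Cfsg.Agent.H51.AschU (UData Split Scalar Scalars Good Wreath)
open scoped commutatorElement

universe u v

variable {G : Type u} [Group G] [Finite G]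

/-- In an abelian group transitive on the involutions of `E` the `(|E| - 1)`-th powers centralise
`E`. -/
theorem conj_pow_card_sub_one {M Q E A : Subgroup G} {u : G} (hd : ShapeData M Q E A u) {b : G}
    (hb : b ∈ A) {e : G} (he : e ∈ E) :
    b ^ (Nat.card E - 1) * e * (b ^ (Nat.card E - 1))⁻¹ = e := by
  classical
  rcases eq_or_ne e 1 with rfl | he1
  · rw [mul_one, mul_inv_cancel]
  let S : Subgroup A :=
    { carrier := {c | (c : G) * e * (c : G)⁻¹ = e}
      one_mem' := by simp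
      mul_mem' := fun {p q} hp hq => by
        show (p : G) * q * e * ((p : G) * q)⁻¹ = e
        rw [mul_inv_rev, show (p : G) * q * e * ((q : G)⁻¹ * (p : G)⁻¹) =
          p * ((q : G) * e * (q : G)⁻¹) * (p : G)⁻¹ by group, hq]
        exact hp
      inv_mem' := fun {p} hp => by
        show (p : G)⁻¹ * e * (p : G)⁻¹⁻¹ = e
        conv_lhs => rw [← (hp : (p : G) * e * (p : G)⁻¹ = e)]
        group }
  haveI : S.Normal := ⟨fun n hn g => by
    rwa [hd.comm g n, mul_inv_cancel_right]⟩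
  have hcE : ∀ c : A, (c : G) * e * (c : G)⁻¹ ∈ E := fun c =>
    (mem_normalizer_iff.mp (hd.normE c.2) e).mp he
  have hidx : S.index = Nat.card {f : E // f ≠ 1} := by
    let F : A ⧸ S → {f : E // f ≠ 1} := Quotient.lift (fun c =>
      ⟨⟨_, hcE c⟩, fun h1 => he1 (conj_eq_one_iff.mp (congrArg Subtype.val h1))⟩) fun c c' hcc => by
        have h1 : ((c⁻¹ * c' : A) : G) * e * ((c⁻¹ * c' : A) : G)⁻¹ = e :=
          QuotientGroup.leftRel_apply.mp hcc
        push_cast at h1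
        refine Subtype.ext (Subtype.ext ?_)
        show (c : G) * e * (c : G)⁻¹ = (c' : G) * e * (c' : G)⁻¹
        conv_lhs => rw [← h1]
        group
    refine Nat.card_eq_of_bijective F ⟨?_, ?_⟩
    · intro p q hpq
      induction p using QuotientGroup.induction_on with | _ c =>
      induction q using QuotientGroup.induction_on with | _ c' =>
      refine QuotientGroup.eq.mpr ?_
      have h1 : (c : G) * e * (c : G)⁻¹ = (c' : G) * e * (c' : G)⁻¹ :=
        congrArg (fun f : {f : E // f ≠ 1} => ((f : E) : G)) hpq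
      show ((c⁻¹ * c' : A) : G) * e * ((c⁻¹ * c' : A) : G)⁻¹ = e
      push_cast
      calc (c : G)⁻¹ * c' * e * ((c : G)⁻¹ * c')⁻¹ = (c : G)⁻¹ * (c' * e * (c' : G)⁻¹) * c := by
            group
        _ = e := by rw [← h1]; group
    · intro f
      obtain ⟨a, ha, hae⟩ := hd.trans e he he1 f f.1.2 fun h1 => f.2 (Subtype.ext h1)
      exact ⟨QuotientGroup.mk ⟨a, ha⟩, Subtype.ext (Subtype.ext hae)⟩
  have hcard : Nat.card {f : E // f ≠ 1} = Nat.card E - 1 := by
    have : Nat.card {f : E // f ≠ 1} + 1 = Nat.card E := by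
      rw [← Finite.card_option, Nat.card_congr (Equiv.optionSubtypeNe (1 : E))]
    omega
  have h1 := S.pow_index_mem ⟨b, hb⟩
  rw [hidx, hcard] at h1
  exact h1

variable {Ω : Type v} [MulAction G Ω] [Finite Ω] {D : Set G} {u : G} {x y : Ω}
  {E Q A₀ : Subgroup G}

/-- The scalars of the torus of a line of shape three are transitive on `E`. -/
theorem scalars_of_twisted (h : Crit G Ω D) (hl : Line2 D u x E Q) (hy : u • y = y) (hyx : y ≠ x)
    (hA₀ : A₀ ≤ lineGroup D u ⊓ pairStab G x y) (hd : ShapeData (Q ⊔ zpowers u) Q E A₀ u)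
    {a₀ : G} (ha₀ : a₀ ∈ A₀) (ha₀E : ∀ e ∈ E, Commute a₀ e)
    (ha₀Q : ∀ q ∈ Q, Commute a₀ q → q ∈ E) : Scalars A₀ E Q := by
  intro e he he1 f hf hf1
  obtain ⟨b, hb, hbe⟩ := hd.trans e he he1 f hf hf1
  obtain ⟨k, hk⟩ : 2 ∣ Nat.card E := by
    have h2 : orderOf (⟨e, he⟩ : E) = 2 :=
      orderOf_eq_prime (Subtype.ext (by push_cast; rw [pow_two]; exact hd.sq e he))
        fun h1 => he1 (congrArg Subtype.val h1)
    exact h2 ▸ orderOf_dvd_natCard _
  refine ⟨(b ^ k) ^ (Nat.card E + 1), pow_mem (pow_mem hb k) _, fun i q hq => ?_, ?_⟩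
  · rw [← pow_mul, mul_comm, pow_mul]
    exact H72.Asch.scalar_pow h hl hy hyx (hA₀ ha₀) ha₀E ha₀Q (hd.normQ ha₀)
      (hA₀ (pow_mem (pow_mem hb k) i)) (hd.normQ (pow_mem (pow_mem hb k) i)) q hq
  · have h4 := hd.four_le
    have e1 : (b ^ k) ^ (Nat.card E + 1) = (b ^ (k + 1)) ^ (Nat.card E - 1) * b := by
      rw [← pow_mul, ← pow_mul, ← pow_succ]
      congr 1
      obtain ⟨j, hj⟩ : ∃ j, Nat.card E - 1 = j := ⟨_, rfl⟩
      rw [hj]
      have : Nat.card E = j + 1 := by omega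
      nlinarith
    rw [e1, mul_inv_rev]
    calc (b ^ (k + 1)) ^ (Nat.card E - 1) * b * e * (b⁻¹ * ((b ^ (k + 1)) ^ (Nat.card E - 1))⁻¹)
        = (b ^ (k + 1)) ^ (Nat.card E - 1) * (b * e * b⁻¹) *
            ((b ^ (k + 1)) ^ (Nat.card E - 1))⁻¹ := by group
      _ = f := by rw [hbe]; exact conj_pow_card_sub_one hd (pow_mem hb _) hf

/-- **The chain for shape three.** -/
theorem shapeThreeChain (h : Crit G Ω D) : ShapeThreeChain Ω D := by
  intro hP u x y E Q A₀ hl hy hyx hT hA₀ hcyc hd₀ htw hQE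
  obtain ⟨a₀, ha₀, ha₀E, ha₀Q⟩ := htw
  have hsc := scalars_of_twisted h hl hy hyx hA₀ hd₀ ha₀ ha₀E ha₀Q
  have hU : UData (Q ⊔ zpowers u) Q E A₀ u a₀ := ⟨hd₀, ha₀, ha₀E, ha₀Q, hsc⟩
  have hbase := H29.Asch.maxTwo_base h hP hl hT hy hyx
  have hXE : ∀ e ∈ E, ∀ g ∈ coreStab x E, Commute e g := fun e he g hg =>
    (mem_coreStab.mp hg).2 e he
  have hax : ∀ a ∈ A₀, a • x = x := fun a ha => (mem_pairStab.mp (mem_inf.mp (hA₀ ha)).2).1
  have hA₀K : A₀ ≤ normalizer (coreStab x E : Set G) := fun a ha =>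
    H39.mem_normalizer_of_conj_mem fun g hg =>
      H51.Asch.conj_mem_coreStab (hax a ha) (hd₀.normE ha) hg
  have hsplit : Split (Q ⊔ zpowers u) Q a₀ := fun g hg => by
    have hau : a₀ * u = u * a₀ := mul_inv_eq_iff_eq_mul.mp (hd₀.fix a₀ ha₀)
    rcases H29.Asch.mem_or_mul_mem_base hd₀ hg with h1 | h1
    · exact ⟨g, h1, 1, one_mem _, (mul_one g).symm⟩
    · exact ⟨g * u, h1, u,
        mem_inf.mpr ⟨hd₀.u_mem, mem_centralizer_singleton_iff.mpr hau.symm⟩,
        by rw [mul_assoc, hd₀.sq_u, mul_one]⟩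
  obtain ⟨R, A, a, hRX, hA, hR, hcase⟩ :=
    hU.exists_top hsplit hcyc (hbase.2.1.trans inf_le_left) hXE hA₀K hbase
  have hd := hR.shape
  have hu : u ∉ ⁅R, A⁆ :=
    hd.u_notMem_commutator (Or.inr ⟨a, hR.mem, hR.centE, hR.free⟩)
  have hinv : ∀ g : G, g * u * g⁻¹ * (g * u * g⁻¹) = 1 := fun g => by
    rw [conj_mul, hd.sq_u, mul_one, mul_inv_cancel]
  -- a conjugate of `u` in `R` is good
  have hgood : ∀ g : G, g * u * g⁻¹ ∈ R → Good R Q E u (g * u * g⁻¹) := fun g hg =>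
    H29.Asch.exists_good h hl hbase (hRX hg) hd.two hRX
  refine ⟨R, ⁅R, A⁆, A, ?_⟩
  rcases hcase with ⟨hmax, hsp⟩ | ⟨M, hw⟩
  · have hno : ∀ g : G, g * u * g⁻¹ ∉ (⁅R, A⁆ : Subgroup G) := fun g hg =>
      H72.Asch.false_of_good hR hsp hg (hinv g) (hgood g (hd.commutator_le hg))
    refine H29.Asch.chain_of_shape h hP hl hT hy hyx hA₀ hd₀.normE hA₀K hmax hA hd hu hno ?_
    rcases H72.Asch.fused_or_residue_twisted h hl hy hyx hT hA₀ hd₀.normE hA₀K hmax hA hd hu hno
      hR.mem hR.centE hR.free hsp with hf | ⟨N, res⟩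
    · exact hf
    · exact (H72.Asch.false_of_residue_unitary hR hsp hQE res).elim
  · have hno : ∀ g : G, g * u * g⁻¹ ∉ (⁅R, A⁆ : Subgroup G) := fun g hg =>
      hw.false_of_good hg (hinv g) (hgood g (hd.commutator_le hg))
    -- `R` is maximal
    have hmax : MaxTwo (coreStab x E) R := by
      refine ⟨hd.two, hRX, fun P hP2 hPX hRP => ?_⟩
      by_contra hne
      haveI : Fact (Nat.Prime 2) := ⟨Nat.prime_two⟩
      haveI := hP2.isNilpotent
      have hlt : R.subgroupOf P < ⊤ := lt_top_iff_ne_top.mpr fun e =>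
        hne (le_antisymm (subgroupOf_eq_top.mp e) hRP)
      obtain ⟨g, hg, hgR⟩ :=
        SetLike.exists_of_lt (Group.normalizerCondition_of_isNilpotent _ hlt)
      have hgu : (g : G) * u * (g : G)⁻¹ ∈ R :=
        (mem_normalizer_iff.mp hg ⟨u, hRP hd.u_mem⟩).mp hd.u_mem
      obtain ⟨r, hr, hru⟩ := hw.exists_conj hgu (hinv g) (hno g)
      set c := r⁻¹ * (g : G) with hc
      have hcP : c ∈ P := P.mul_mem (P.inv_mem (hRP hr)) g.2
      have hcu : Commute c u := mul_inv_eq_iff_eq_mul.mp (by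
        rw [hc, show r⁻¹ * (g : G) * u * (r⁻¹ * (g : G))⁻¹ =
          r⁻¹ * ((g : G) * u * (g : G)⁻¹) * r by group, ← hru]
        group)
      have hmaxB := hbase.2.2 (P ⊓ centralizer ({u} : Set G)) (hP2.to_le inf_le_left)
        (inf_le_inf_right _ hPX) (le_inf ((sup_le hd.le (zpowers_le.mpr hd.u_mem)).trans hRP)
          (hbase.2.1.trans inf_le_right))
      have hcB : c ∈ Q ⊔ zpowers u := by
        rw [← hmaxB]
        exact mem_inf.mpr ⟨hcP, mem_centralizer_singleton_iff.mpr hcu.eq⟩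
      refine hgR (mem_subgroupOf.mpr ?_)
      have h1 := R.mul_mem hr (sup_le hd.le (zpowers_le.mpr hd.u_mem) hcB)
      rwa [hc, mul_inv_cancel_left] at h1
    refine H29.Asch.chain_of_shape h hP hl hT hy hyx hA₀ hd₀.normE hA₀K hmax hA hd hu hno
      fun g hg => ?_
    obtain ⟨hgx, hgE⟩ := mem_inf.mp hg
    have hvX : g * u * g⁻¹ ∈ coreStab x E :=
      H51.Asch.conj_mem_coreStab (mem_stabilizer_iff.mp hgx) hgE (hRX hd.u_mem)
    have hv2 : IsPGroup 2 (zpowers (g * u * g⁻¹)) :=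
      IsPGroup.of_card (n := 1) (by rw [Nat.card_zpowers, H39.orderOf_conj, hl.bad.1]; rfl)
    obtain ⟨c, hc, hcR⟩ := exists_conj_le_of_maximal hd.two hRX
      (fun P h1 h2 h3 => (hmax.2.2 P h1 h2 h3).le) hv2 (zpowers_le.mpr hvX)
    have hw' := hcR _ (mem_zpowers _)
    rw [show c * (g * u * g⁻¹) * c⁻¹ = c * g * u * (c * g)⁻¹ by group] at hw'
    obtain ⟨r, hr, hru⟩ := hw.exists_conj hw' (hinv _) (hno _)
    refine ⟨c⁻¹ * r, mul_mem (inv_mem hc) (hRX hr), ?_⟩
    rw [show c⁻¹ * r * u * (c⁻¹ * r)⁻¹ = c⁻¹ * (r * u * r⁻¹) * c by group, hru]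
    group

end Cfsg.Agent.H6.Asch
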