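import Cfsg.Agent.Coprime.OrbitBound
import Mathlib.LinearAlgebra.Dual.Lemmas

/-!
A group `A` normalising a non-trivial odd abelian group `W` of automorphisms of an elementary
abelian 2-group `V` and centralising no non-trivial element of `W` except by the identity: its order
is at most the dimension of `V`, and if it is odd and equal to the dimension every `W`-invariant
biadditive map on `V` into a group of exponent two is trivial.
-/

set_option autoImplicit false
set_option linter.style.haveILetI false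
set_option linter.unusedSectionVars false

namespace Cfsg.Agent.H6.Asch.EigenOrbit

open Cfsg.Agent.Coprime Weights
open scoped IsMulCommutative

variable {V : Type*} [CommGroup V] [Finite V]

/-- The coefficient field. -/
abbrev F2bar : Type := AlgebraicClosure (ZMod 2)

/-- The automorphisms on the additive functions into the coefficient field. -/
noncomputable def dualRep (V : Type*) [CommGroup V] :
    MulAut V →* Module.End F2bar (Additive V →+ F2bar) where
  toFun a :=
    { toFun := fun f => f.comp (MonoidHom.toAdditive a⁻¹.toMonoidHom)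
      map_add' := fun _ _ => rfl
      map_smul' := fun _ _ => rfl }
  map_one' := LinearMap.ext fun _ => AddMonoidHom.ext fun _ => rfl
  map_mul' a a' := LinearMap.ext fun f => AddMonoidHom.ext fun v => by
    show f (MonoidHom.toAdditive (a * a')⁻¹.toMonoidHom v) = _
    rw [mul_inv_rev]
    rfl

theorem dualRep_apply (a : MulAut V) (f : Additive V →+ F2bar) (v : V) :
    dualRep V a f (Additive.ofMul v) = f (Additive.ofMul (a⁻¹ v)) := rfl

instance : FiniteDimensional F2bar (Additive V →+ F2bar) :=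
  FiniteDimensional.of_injective
    ({ toFun := fun f v => f v, map_add' := fun _ _ => rfl, map_smul' := fun _ _ => rfl } :
      (Additive V →+ F2bar) →ₗ[F2bar] (Additive V → F2bar))
    (fun _ _ h => AddMonoidHom.ext fun v => congrFun h v)

theorem one_le_finrank_range {f : Module.End F2bar (Additive V →+ F2bar)} (hf : f ≠ 0) :
    1 ≤ Module.finrank F2bar (LinearMap.range f) :=
  Submodule.one_le_finrank_iff.mpr fun h => hf (LinearMap.range_eq_bot.mp h)

/-- The homomorphisms into a field of characteristic two separate a group of exponent two. -/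
theorem exists_hom_ne_zero {U : Type*} [CommGroup U] (hU : ∀ a : U, a ^ 2 = 1) {a : U} (ha : a ≠ 1) :
    ∃ f : Additive U →+ F2bar, f (Additive.ofMul a) ≠ 0 := by
  haveI : Fact (Nat.Prime 2) := ⟨Nat.prime_two⟩
  letI : Module (ZMod 2) (Additive U) := AddCommGroup.zmodModule fun v => by
    induction v using Additive.rec with
    | _ b => exact congrArg Additive.ofMul (hU b)
  obtain ⟨g, hg⟩ : ∃ g : Module.Dual (ZMod 2) (Additive U), g (Additive.ofMul a) ≠ 0 := by
    by_contra hc
    push Not at hc
    exact ha (Additive.ofMul.injective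
      ((Module.forall_dual_apply_eq_zero_iff (ZMod 2) _).mp hc))
  refine ⟨(algebraMap (ZMod 2) F2bar).toAddMonoidHom.comp g.toAddMonoidHom, fun h => hg ?_⟩
  exact (algebraMap (ZMod 2) F2bar).injective (h.trans (map_zero _).symm)

section

variable (W A : Subgroup (MulAut V))

/-- The data: `V` elementary, `W` odd abelian non-trivial, `A` normalising `W` fixed point freely. -/
structure Data : Prop where
  exp : ∀ v : V, v ^ 2 = 1
  comm : ∀ a ∈ W, ∀ b ∈ W, a * b = b * a
  odd : Odd (Nat.card W)
  ne : W ≠ ⊥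
  norm : ∀ a ∈ A, ∀ w ∈ W, a * w * a⁻¹ ∈ W
  free : ∀ a ∈ A, a ≠ 1 → ∀ w ∈ W, a * w * a⁻¹ = w → w = 1

variable {W A} (hd : Data W A)
include hd

theorem exists_weights :
    ∃ (_ : IsMulCommutative W) (χ : A → (W →* F2barˣ)), Function.Injective χ ∧
      (∀ a, proj ((dualRep V).comp W.subtype) (χ a) ≠ 0) ∧
      (Odd (Nat.card A) → ∀ a b, (χ a) * (χ b) ≠ 1) := by
  classical
  haveI : Fact (Nat.Prime 2) := ⟨Nat.prime_two⟩
  haveI hcomm : IsMulCommutative W := ⟨⟨fun a b => Subtype.ext (hd.comm a a.2 b b.2)⟩⟩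
  refine ⟨hcomm, ?_⟩
  set τ := (dualRep V).comp W.subtype with hτ
  have hW : (Nat.card W : F2bar) ≠ 0 := fun h => by
    have h2 := (CharP.cast_eq_zero_iff F2bar 2 _).mp h
    exact (Nat.not_even_iff_odd.mpr hd.odd) (even_iff_two_dvd.mpr h2)
  obtain ⟨w₀, hw₀, hw₀1⟩ : ∃ w ∈ W, w ≠ 1 := by
    by_contra hc
    push Not at hc
    exact hd.ne ((Subgroup.eq_bot_iff_forall W).mpr hc)
  have hw₀' : τ ⟨w₀, hw₀⟩ ≠ 1 := fun h => by
    refine hw₀1 (inv_eq_one.mp (MulEquiv.ext fun v => ?_))
    by_contra hv
    obtain ⟨f, hf⟩ := exists_hom_ne_zero hd.exp (a := (w₀⁻¹ v) * v⁻¹) (fun e => hv (by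
      rw [MulAut.one_apply]; exact mul_inv_eq_one.mp e))
    apply hf
    rw [ofMul_mul, map_add, ofMul_inv, map_neg, ← sub_eq_add_neg, sub_eq_zero]
    exact congrArg (fun T : Module.End F2bar (Additive V →+ F2bar) => T f (Additive.ofMul v)) h
  obtain ⟨χ₀, hχ₀, hχ₀1⟩ := exists_proj_ne_zero_of_act_ne_one hW hw₀'
  -- conjugation by the elements of `A`
  let σ : A → (W ≃* W) := fun a =>
    { toFun := fun w => ⟨(a : MulAut V) * w * (a : MulAut V)⁻¹, hd.norm a a.2 w w.2⟩
      invFun := fun w => ⟨(a : MulAut V)⁻¹ * w * (a : MulAut V)⁻¹⁻¹,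
        hd.norm _ (A.inv_mem a.2) w w.2⟩
      left_inv := fun w => Subtype.ext (by simp [mul_assoc])
      right_inv := fun w => Subtype.ext (by simp [mul_assoc])
      map_mul' := fun w w' => Subtype.ext (by simp [mul_assoc]) }
  have hσmul : ∀ a b w, σ (a * b) w = σ a (σ b w) := fun a b w => Subtype.ext (by
    simp [σ, mul_assoc])
  -- only the identity fixes a non-trivial character
  have hfix : ∀ (φ : W →* F2barˣ) (a : A), a ≠ 1 → (∀ w, φ (σ a w) = φ w) → φ = 1 := by
    intro φ a ha hφ
    let g : W →* W := MonoidHom.mk' (fun w => σ a w * w⁻¹) fun w w' => by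
      rw [map_mul, mul_inv, mul_mul_mul_comm]
    have hg : Function.Bijective g := Finite.injective_iff_bijective.mp
      ((injective_iff_map_eq_one g).mpr fun w hw => Subtype.ext
        (hd.free a a.2 (fun e => ha (Subtype.ext e)) w w.2
          (congrArg Subtype.val (mul_inv_eq_one.mp hw))))
    refine MonoidHom.ext fun w => ?_
    obtain ⟨w', rfl⟩ := hg.2 w
    show φ (σ a w' * w'⁻¹) = 1
    rw [map_mul, hφ, map_inv, mul_inv_cancel]
  let χ : A → (W →* F2barˣ) := fun a => χ₀.comp (σ a).symm.toMonoidHom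
  have hne : χ₀ ≠ 1 := fun e => hχ₀1 (by rw [e, MonoidHom.one_apply])
  refine ⟨χ, fun a b hab => ?_, fun a => ?_, fun hodd a b hab => ?_⟩
  · by_contra hne'
    refine hne (hfix χ₀ (b⁻¹ * a) (fun e => hne' (inv_mul_eq_one.mp e).symm) fun w => ?_)
    have h1 := DFunLike.congr_fun hab (σ a w)
    simp only [χ, MonoidHom.coe_comp, Function.comp_apply, MulEquiv.coe_toMonoidHom,
      MulEquiv.symm_apply_apply] at h1
    rw [h1]
    refine congrArg χ₀ ?_
    apply (σ b).injective
    rw [MulEquiv.apply_symm_apply, ← hσmul, mul_inv_cancel_left]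
  · intro h0
    apply hχ₀
    have h1 : dualRep V (a : MulAut V) * proj τ χ₀ =
        proj τ (χ a) * dualRep V (a : MulAut V) := mul_proj_of_conj (fun w => by
      show dualRep V a * dualRep V (w : MulAut V) = dualRep V ((a : MulAut V) * w * (a : MulAut V)⁻¹) *
        dualRep V a
      rw [← map_mul, ← map_mul]
      simp [mul_assoc]) χ₀
    rw [h0, zero_mul] at h1
    calc proj τ χ₀ = dualRep V ((a : MulAut V)⁻¹ * a) * proj τ χ₀ := by
          rw [inv_mul_cancel, map_one, one_mul]
      _ = 0 := by rw [map_mul, mul_assoc, h1, mul_zero]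
  · -- an element of odd order does not invert a non-trivial character
    have hinv : ∀ w, χ₀ ((σ b).symm (σ a w)) = (χ₀ w)⁻¹ := fun w => by
      have h1 := DFunLike.congr_fun hab (σ a w)
      simp only [χ, MonoidHom.mul_apply, MonoidHom.coe_comp, Function.comp_apply,
        MulEquiv.coe_toMonoidHom, MulEquiv.symm_apply_apply, MonoidHom.one_apply] at h1
      exact eq_inv_of_mul_eq_one_right h1
    set c := b⁻¹ * a with hc
    have hinv' : ∀ w, χ₀ (σ c w) = (χ₀ w)⁻¹ := fun w => by
      rw [← hinv]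
      refine congrArg χ₀ ((σ b).injective ?_)
      rw [MulEquiv.apply_symm_apply, ← hσmul, mul_inv_cancel_left]
    by_cases hc1 : c = 1
    · refine hne (MonoidHom.ext fun w => ?_)
      have h1 := hinv' w
      rw [hc1, show σ 1 w = w from Subtype.ext (by simp [σ])] at h1
      have h2 : orderOf (χ₀ w) ∣ 2 := orderOf_dvd_of_pow_eq_one (by
        rw [pow_two]; exact mul_eq_one_iff_eq_inv.mpr h1)
      have h3 : orderOf (χ₀ w) ∣ Nat.card W :=
        (orderOf_map_dvd χ₀ w).trans (orderOf_dvd_natCard w)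
      exact orderOf_eq_one_iff.mp (Nat.eq_one_of_dvd_coprimes
        (Nat.coprime_two_left.mpr hd.odd) h2 h3)
    · refine hne (hfix χ₀ (c * c) (fun e => hc1 ?_) fun w => by rw [hσmul, hinv', hinv', inv_inv])
      rw [← orderOf_eq_one_iff]
      refine Nat.eq_one_of_dvd_coprimes (Nat.coprime_two_left.mpr hodd)
        (orderOf_dvd_of_pow_eq_one (by rw [pow_two]; exact e)) (orderOf_dvd_natCard c)

theorem finrank_dual {n : ℕ} (hn : Nat.card V = 2 ^ n) :
    Module.finrank F2bar (Additive V →+ F2bar) = n := by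
  haveI : Fact (Nat.Prime 2) := ⟨Nat.prime_two⟩
  exact OrbitBound.finrank_hom (Additive V) (fun v => by
    induction v using Additive.rec with
    | _ b => exact congrArg Additive.ofMul (hd.exp b)) hn

/-- **The orbit bound.** -/
theorem card_le {n : ℕ} (hn : Nat.card V = 2 ^ n) : Nat.card A ≤ n := by
  classical
  haveI : Fact (Nat.Prime 2) := ⟨Nat.prime_two⟩
  obtain ⟨hcomm, χ, hinj, hne, -⟩ := exists_weights hd
  have hW : (Nat.card W : F2bar) ≠ 0 := fun h => by
    have h2 := (CharP.cast_eq_zero_iff F2bar 2 _).mp h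
    exact (Nat.not_even_iff_odd.mpr hd.odd) (even_iff_two_dvd.mpr h2)
  haveI := finite_chars (U := W) hW
  letI := Fintype.ofFinite (W →* F2barˣ)
  haveI := Fintype.ofFinite A
  rw [← finrank_dual hd hn, finrank_eq_sum hW ((dualRep V).comp W.subtype), Nat.card_eq_fintype_card]
  calc Fintype.card A = ∑ _a : A, 1 := by simp
    _ ≤ ∑ a : A, Module.finrank F2bar (LinearMap.range (proj ((dualRep V).comp W.subtype) (χ a))) :=
        Finset.sum_le_sum fun a _ => one_le_finrank_range (hne a)
    _ = ∑ φ ∈ Finset.univ.image χ,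
          Module.finrank F2bar (LinearMap.range (proj ((dualRep V).comp W.subtype) φ)) :=
        (Finset.sum_image
          (f := fun φ => Module.finrank F2bar (LinearMap.range (proj ((dualRep V).comp W.subtype) φ)))
          (g := χ) (fun a _ b _ h => hinj h)).symm
    _ ≤ _ := Finset.sum_le_sum_of_subset (Finset.subset_univ _)

/-- In the case of equality with `A` of odd order there is no invariant biadditive map. -/
theorem pairing_eq_one {n : ℕ} (hn : Nat.card V = 2 ^ n) (hA : Nat.card A = n) (hodd : Odd n)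
    {U : Type*} [CommGroup U] (hU : ∀ a : U, a ^ 2 = 1) (β : V →* V →* U)
    (hinv : ∀ w ∈ W, ∀ a b : V, β (w a) (w b) = β a b) (a b : V) : β a b = 1 := by
  classical
  haveI : Fact (Nat.Prime 2) := ⟨Nat.prime_two⟩
  obtain ⟨hcomm, χ, hinj, hne, hpair⟩ := exists_weights hd
  have hW : (Nat.card W : F2bar) ≠ 0 := fun h => by
    have h2 := (CharP.cast_eq_zero_iff F2bar 2 _).mp h
    exact (Nat.not_even_iff_odd.mpr hd.odd) (even_iff_two_dvd.mpr h2)
  haveI := finite_chars (U := W) hW
  letI := Fintype.ofFinite (W →* F2barˣ)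
  haveI := Fintype.ofFinite A
  set τ := (dualRep V).comp W.subtype with hτ
  have hpos : ∀ φ, proj τ φ ≠ 0 → 1 ≤ Module.finrank F2bar (LinearMap.range (proj τ φ)) :=
    fun _ hφ => one_le_finrank_range hφ
  -- the weights are exactly the orbit
  have horbit : ∀ φ, proj τ φ ≠ 0 → ∃ a, χ a = φ := by
    intro φ hφ
    by_contra hc
    push Not at hc
    have hnot : φ ∉ Finset.univ.image χ := fun h => by
      obtain ⟨a, -, ha⟩ := Finset.mem_image.mp h
      exact hc a ha
    have h1 : Fintype.card A + 1 ≤ ∑ ψ ∈ insert φ (Finset.univ.image χ),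
        Module.finrank F2bar (LinearMap.range (proj τ ψ)) := by
      rw [Finset.sum_insert hnot, Finset.sum_image fun a _ b _ h => hinj h, add_comm]
      refine add_le_add (hpos φ hφ) ?_
      calc Fintype.card A = ∑ _a : A, 1 := by simp
        _ ≤ _ := Finset.sum_le_sum fun a _ => hpos _ (hne a)
    have h2 := h1.trans (Finset.sum_le_sum_of_subset (Finset.subset_univ _))
    rw [← finrank_eq_sum hW τ, finrank_dual hd hn, ← Nat.card_eq_fintype_card, hA] at h2
    omega
  have hopp : ∀ φ, proj τ φ ≠ 0 → proj τ φ⁻¹ = 0 := fun φ hφ => by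
    by_contra h
    obtain ⟨a, ha⟩ := horbit φ hφ
    obtain ⟨b, hb⟩ := horbit _ h
    exact hpair (hA ▸ hodd) a b (by rw [ha, hb]; exact MonoidHom.ext fun w => mul_inv_cancel (φ w))
  by_contra hne1
  obtain ⟨f, hf⟩ := exists_hom_ne_zero hU hne1
  let T : V → (Additive V →+ F2bar) := fun v => f.comp (MonoidHom.toAdditive (β v))
  have hT1 : T a ≠ 0 := fun h => hf (DFunLike.congr_fun h (Additive.ofMul b))
  have hTadd : ∀ v v', T (v * v') = T v + T v' := fun v v' => AddMonoidHom.ext fun e => by
    show f (Additive.ofMul (β (v * v') e.toMul)) = _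
    rw [map_mul, MonoidHom.mul_apply, ofMul_mul, map_add]
    rfl
  have hTw : ∀ (w : W) v, τ w (T v) = T ((w : MulAut V) v) := fun w v => AddMonoidHom.ext fun e => by
    show f (Additive.ofMul (β v ((w : MulAut V)⁻¹ e.toMul))) =
      f (Additive.ofMul (β ((w : MulAut V) v) e.toMul))
    congr 2
    conv_rhs => rw [← MulAut.apply_inv_self V (w : MulAut V) e.toMul]
    exact (hinv _ w.2 _ _).symm
  refine hT1 (eq_zero_of_forall_proj hW τ fun φ => ?_)
  by_cases hφ : proj τ φ = 0
  · rw [hφ, LinearMap.zero_apply]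
  refine (Module.forall_dual_apply_eq_zero_iff F2bar _).mp fun ℓ => ?_
  -- the coefficient is a vector of the opposite weight
  let θ : Additive V →+ F2bar := AddMonoidHom.mk' (fun e => ℓ (proj τ φ (T e.toMul))) fun e e' => by
    show ℓ (proj τ φ (T (e.toMul * e'.toMul))) = _
    rw [hTadd, map_add, map_add]
  have hθ : θ ∈ LinearMap.range (proj τ φ⁻¹) := by
    refine (mem_range_iff hW).mpr fun w => AddMonoidHom.ext fun e => ?_
    show ℓ (proj τ φ (T ((w : MulAut V)⁻¹ e.toMul))) =
      ((φ⁻¹ w : F2barˣ) : F2bar) * ℓ (proj τ φ (T e.toMul))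
    have hw : T ((w : MulAut V)⁻¹ e.toMul) = τ w⁻¹ (T e.toMul) := (hTw w⁻¹ e.toMul).symm
    rw [hw, show proj τ φ (τ w⁻¹ (T e.toMul)) = (proj τ φ * τ w⁻¹) (T e.toMul) from rfl,
      proj_mul_act, LinearMap.smul_apply, map_smul, smul_eq_mul, map_inv, MonoidHom.inv_apply]
  rw [hopp φ hφ, LinearMap.range_zero, Submodule.mem_bot] at hθ
  exact DFunLike.congr_fun hθ (Additive.ofMul a)

end

end Cfsg.Agent.H6.Asch.EigenOrbit
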