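import Cfsg.Agent.H30.Asch.NoneProperTranslation
import Cfsg.Agent.H72.Asch.LineNormal
import Cfsg.Agent.Coprime.Action

/-!
The two facts about lines used by the rank theorem: with no element proper the kernel of a line is
trivial, so `Q` is normalised by the elements centralising the involution at the point; an element
of odd order centralising `E` fixes a second point of the line, and these fixed points form an orbit
of its centraliser in `Q` (Glauberman).
-/

set_option autoImplicit false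
set_option linter.style.haveILetI false

namespace Cfsg.Agent.H6.Asch

open Subgroup MulAction
open Cfsg.Agent.H14.Asch
open Cfsg.Agent.H39
open Cfsg.Agent.H73.Asch (RankTwoBad Line2 HasLines2)
open Cfsg.Agent.H30.Asch (Quad NPCtx LineNormal LineFixed)
open scoped Pointwise

universe u v

variable {G : Type u} [Group G] [Finite G] {Ω : Type v} [MulAction G Ω] [Finite Ω] {D : Set G}

/-- With no element proper an element of the line fixing the fixed points of the involution is
trivial. -/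
theorem lineKernel_eq_bot (hc : NPCtx G Ω D) {t w : G} {p q : Ω} (hq : Quad Ω D t w p q) :
    lineGroup D t ⊓ fixingSubgroup G (fixedBy Ω t) = ⊥ := by
  haveI : Fact (Nat.Prime 2) := ⟨Nat.prime_two⟩
  refine H30.Asch.eq_bot_of_normal_fixing hc.crit hc.lines hc.two hc.same hq inf_le_right ?_ ?_
  · rw [← Nat.not_even_iff_odd, even_iff_two_dvd]
    intro h2
    obtain ⟨⟨j, hj⟩, hj2⟩ := exists_prime_orderOf_dvd_card' 2 h2
    rw [Subgroup.orderOf_mk] at hj2
    have hjD : j ∈ D := hc.crit.mem_of_mem_lineGroup hq.bu.1 hq.ne hq.hx.1 hq.hy.1 hj2 hj.1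
    exact hq.ne (hc.crit.eq_of_fixed hjD (H30.Asch.mem_fixing_iff.mp hj.2 p hq.hx.1)
      (H30.Asch.mem_fixing_iff.mp hj.2 q hq.hy.1))
  · intro k hk r hr
    rwa [← (H30.Asch.commute_fixing_of_lineGroup hc.crit hc.lines hc.two hc.same hq hr.1 hk).eq,
      mul_inv_cancel_right]

/-- A two-subgroup of the line at the point lies in `Q`. -/
theorem le_Q_of_two (hc : NPCtx G Ω D) {t w : G} {p q : Ω} (hq : Quad Ω D t w p q)
    {E Q : Subgroup G} (hl : Line2 D t p E Q) {P : Subgroup G} (hP : IsPGroup 2 P)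
    (hPle : P ≤ lineGroup D t ⊓ stabilizer G p) : P ≤ Q := by
  obtain ⟨k, hk, hkfix, hkQ⟩ := H72.Asch.exists_kernel_conj hc.crit hl hP hPle
  have hk1 : k = 1 := Subgroup.mem_bot.mp ((lineKernel_eq_bot hc hq).le
    ⟨hk, H30.Asch.mem_fixing_iff.mpr fun z hz => hkfix z hz⟩)
  rwa [hk1, map_one, one_smul] at hkQ

/-- **Line normal**: elements commuting with the involution at the point normalise `Q`. -/
theorem lineNormal (hc : NPCtx G Ω D) : LineNormal Ω D := by
  intro t w p q E Q hq hl g hgt hgp r hr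
  refine le_Q_of_two hc hq hl (P := Q.map (MulAut.conj g).toMonoidHom) (hl.isPGroup.map _) ?_
    ⟨r, hr, rfl⟩
  rintro _ ⟨z, hz, rfl⟩
  exact mem_inf.mpr ⟨H30.Asch.conj_mem_lineGroup_of_commute hc.crit hgt (hl.Q_le hz).1,
    mul_mem (mul_mem (mem_stabilizer_iff.mpr hgp) (hl.Q_le hz).2)
      (inv_mem (mem_stabilizer_iff.mpr hgp))⟩

omit [Finite Ω] in
/-- **Line fixed**: an element of odd order fixes a second point of the line, and such points are
an orbit of its centraliser in `Q`. -/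
theorem lineFixed : LineFixed Ω D := by
  haveI : Fact (Nat.Prime 2) := ⟨Nat.prime_two⟩
  intro t p E Q hl a₀ hodd hap hat _ hQ
  set S : Set Ω := {c | t • c = c ∧ c ≠ p}
  have hAQ : zpowers a₀ ≤ normalizer (Q : Set G) :=
    zpowers_le.mpr (mem_normalizer_of_conj_mem hQ)
  have hcop : (Nat.card (zpowers a₀)).Coprime (Nat.card Q) := by
    obtain ⟨n, hn⟩ := IsPGroup.iff_card.mp hl.isPGroup
    rw [hn, Nat.card_zpowers]
    exact (Nat.coprime_two_right.mpr hodd).pow_right n
  haveI := hl.isPGroup.isNilpotent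
  have hsolv : Group.IsSolvable (zpowers a₀) ∨ Group.IsSolvable Q := Or.inr inferInstance
  have hstab : zpowers a₀ ≤ stabilizer G p ⊓ centralizer ({t} : Set G) :=
    zpowers_le.mpr ⟨mem_stabilizer_iff.mpr hap, mem_centralizer_singleton_iff.mpr hat.eq⟩
  have hAS : ∀ a ∈ zpowers a₀, ∀ c ∈ S, a • c ∈ S := fun a ha c hc =>
    ⟨smul_fixed_of_commute (mem_centralizer_singleton_iff.mp (hstab ha).2) hc.1,
      fun e => hc.2 (MulAction.injective a (e.trans (mem_stabilizer_iff.mp (hstab ha).1).symm))⟩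
  have hQS : ∀ a ∈ Q, ∀ c ∈ S, a • c ∈ S := fun a ha c hc =>
    ⟨smul_fixed_of_commute (line2_commute hl ha) hc.1,
      fun e => hc.2 (MulAction.injective a (e.trans (line2_smul hl ha).symm))⟩
  have hKS : ∀ c ∈ S, ∀ d ∈ S, ∃ k ∈ Q, k • c = d := fun c hc d hd =>
    hl.trans c d hc.1 hd.1 hc.2 hd.2
  have hne : S.Nonempty := by
    obtain ⟨-, ⟨c, d, hcd, hc, hd⟩, -⟩ := hl.bad
    by_cases hcp : c = p
    · exact ⟨d, hd, fun e => hcd (hcp.trans e.symm)⟩
    · exact ⟨c, hc, hcp⟩
  refine ⟨?_, fun c d hc hcp hac hd hdp had => ?_⟩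
  · obtain ⟨c, hc, hfix⟩ := Coprime.exists_fixed_point hAQ hcop hsolv hne hAS hKS hQS
    exact ⟨c, hc.1, hc.2, hfix a₀ (mem_zpowers a₀)⟩
  · obtain ⟨k, hk, hkc⟩ := hKS c ⟨hc, hcp⟩ d ⟨hd, hdp⟩
    have hall : ∀ {c : Ω}, a₀ • c = c → ∀ a ∈ zpowers a₀, a • c = c := fun {c} hac a ha =>
      mem_stabilizer_iff.mp ((zpowers_le.mpr (mem_stabilizer_iff.mpr hac)) ha)
    obtain ⟨r, hr, hrc⟩ := Coprime.exists_centralizer_smul_eq hAQ hcop hsolv (hall hac) (hall had)
      hk hkc
    exact ⟨r, hr.1, (mem_centralizer_iff.mp hr.2 a₀ (mem_zpowers a₀)).symm, hrc⟩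

end Cfsg.Agent.H6.Asch
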