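import Cfsg.Agent.H74.Asch.EightMain
import Cfsg.Agent.H26.Asch.ClassShapeOne
import Cfsg.Agent.H1.Asch.Fusion
import Cfsg.Agent.H72.Asch.ResidueSmall

/-!
The residue for `Q = E` of order eight: `E⟨u⟩` is a Sylow 2-subgroup of `C(u)` at `x`, every element
of `u K` is a conjugate of `u` and none of `K` is, so the kill of the eight case applies to a Sylow
2-subgroup of `classGroup`.
-/

set_option autoImplicit false
set_option linter.style.haveILetI false
set_option linter.unusedSectionVars false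

namespace Cfsg.Agent.H6.Asch

open Subgroup MulAction
open Cfsg.Agent.H14.Asch
open Cfsg.Agent.H39 (mul_self_of_orderOf_eq_two)
open Cfsg.Agent.H73.Asch (Line2 RankOnePairs)
open Cfsg.Agent.H26.Asch (classGroup ClassData ClassResidue TrivTop mem_centAt')
open Cfsg.Agent.H51.Asch (coreStab mem_coreStab HasTranslation MaxTwo exists_maxTwo_ge ShapeOneChain
  nxt)
open scoped commutatorElement Pointwise

universe u v

variable {G : Type u} [Group G] [Finite G] {Ω : Type v} [MulAction G Ω] [Finite Ω] {D : Set G}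
  {u : G} {x y : Ω} {E Q R K N A : Subgroup G}

/-- For `|E| = 8` with normalised torus image `Q⟨u⟩` is a Sylow 2-subgroup of `C(u)` at `x`. -/
theorem maxTwo_cent_u (h : Crit G Ω D) (hP : RankOnePairs (G := G) Ω) (hl : Line2 D u x E Q)
    (hT : HasTranslation u x E) (hy : u • y = y) (hyx : y ≠ x) (d : ClassData u x E R K N A)
    (hE8 : Nat.card E = 8)
    (htorus : ∀ g ∈ normAt x E, Commute g u → ∀ a ∈ A, ∃ b ∈ A,
      b⁻¹ * (g * a * g⁻¹) ∈ centAt x E) :
    MaxTwo (stabilizer G x ⊓ centralizer ({u} : Set G)) (Q ⊔ zpowers u) := by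
  classical
  haveI : Fact (Nat.Prime 2) := ⟨Nat.prime_two⟩
  have hS := H29.Asch.special_of_line2 h hl
  have hbase := H29.Asch.maxTwo_base h hP hl hT hy hyx
  set B : Subgroup G := stabilizer G x ⊓ centralizer ({u} : Set G) with hB
  have hmemB : ∀ {g : G}, g • x = x → Commute g u → g ∈ B := fun hgx hgu =>
    mem_inf.mpr ⟨mem_stabilizer_iff.mpr hgx, mem_centralizer_singleton_iff.mpr hgu.eq⟩
  obtain ⟨P, hQP, hmax⟩ := exists_maxTwo_ge hbase.1 (K := B) (sup_le
    (fun g hg => hmemB (line2_smul hl hg) (line2_commute hl hg))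
    (zpowers_le.mpr (hmemB hl.fix (Commute.refl u))))
  have hPB : ∀ {g}, g ∈ P → g • x = x ∧ Commute g u := fun hg =>
    ⟨mem_stabilizer_iff.mp (mem_inf.mp (hmax.2.1 hg)).1,
      mem_centralizer_singleton_iff.mp (mem_inf.mp (hmax.2.1 hg)).2⟩
  -- `P` normalises `Q` and `E`
  have hPL : P ⊓ lineGroup D u = Q := by
    refine (eq_of_le_of_card_ge (le_inf (le_sup_left.trans hQP)
      fun g hg => (mem_inf.mp (hl.Q_le hg)).1) ?_).symm
    obtain ⟨g, -, hle⟩ := hl.sylow (P ⊓ lineGroup D u) (hmax.1.to_le inf_le_left) fun t ht =>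
      mem_inf.mpr ⟨(mem_inf.mp ht).2, mem_stabilizer_iff.mpr (hPB (mem_inf.mp ht).1).1⟩
    exact (card_le_of_le hle).trans
      (Nat.card_congr (Subgroup.equivSMul (MulAut.conj g) Q).toEquiv).symm.le
  have hconjQ : ∀ {t g : G}, t ∈ P → g ∈ Q → t * g * t⁻¹ ∈ Q := fun {t g} ht hg => by
    rw [← hPL] at hg ⊢
    obtain ⟨hgx, hgL⟩ := mem_inf.mp hg
    refine mem_inf.mpr ⟨mul_mem (mul_mem ht hgx) (inv_mem ht), ?_⟩
    exact (mem_inf.mp (H29.Asch.conj_lineGroup_stab h (hPB ht).2 (hPB ht).1
      (mem_inf.mpr ⟨hgL, mem_stabilizer_iff.mpr (hPB hgx).1⟩))).1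
  have hPE : ∀ t ∈ P, t ∈ normalizer (E : Set G) := fun t ht =>
    H39.mem_normalizer_of_conj_mem fun e he => hS.omega _ (hconjQ ht (hl.E_le he)) (by
      rw [show t * e * t⁻¹ * (t * e * t⁻¹) = t * (e * e) * t⁻¹ by group, hS.two e he]; group)
  -- `P` centralises `E`
  have hstep : ∀ t ∈ P, (∀ e ∈ E, t * t * e * (t * t)⁻¹ = e) → ∀ e ∈ E, t * e * t⁻¹ = e := by
    intro t ht htt
    refine H72.Asch.fixes_of_norm_torus (A := A) (fun e he => hS.two e he) hE8
      (fun a ha => (mem_inf.mp (mem_inf.mp (d.A_le ha)).1).2) d.A_comm d.trans (hPE t ht)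
      (fun e he => ?_) fun z hz => ?_
    · rw [show t * (t * e * t⁻¹) * t⁻¹ = t * t * e * (t * t)⁻¹ by group, htt e he]
    · obtain ⟨b, hb, hbz⟩ := htorus t
        (mem_inf.mpr ⟨mem_stabilizer_iff.mpr (hPB ht).1, hPE t ht⟩) (hPB ht).2 z hz
      refine ⟨b, hb, fun e he => ?_⟩
      have h1 := (mem_centAt'.mp hbz).2 e he
      calc t * z * t⁻¹ * e * (t * z * t⁻¹)⁻¹
          = b * (b⁻¹ * (t * z * t⁻¹) * e * (b⁻¹ * (t * z * t⁻¹))⁻¹) * b⁻¹ := by group
        _ = b * e * b⁻¹ := by rw [h1]
  have hcent : ∀ (n : ℕ) (t : G), t ∈ P → t ^ (2 ^ n) = 1 → ∀ e ∈ E, t * e * t⁻¹ = e := by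
    intro n
    induction n with
    | zero =>
      intro t _ ht1 e _
      rw [pow_zero, pow_one] at ht1
      rw [ht1]; group
    | succ n ih =>
      intro t ht ht1
      refine hstep t ht (ih (t * t) (mul_mem ht ht) ?_)
      rw [← pow_two, ← pow_mul, ← pow_succ']; exact ht1
  have hPeq : P = Q ⊔ zpowers u := hbase.2.2 P hmax.1 (fun t ht => by
    obtain ⟨k, hk⟩ := hmax.1 ⟨t, ht⟩
    have hk' : t ^ (2 ^ k) = 1 := congrArg Subtype.val hk
    refine mem_inf.mpr ⟨mem_coreStab.mpr ⟨(hPB ht).1, fun e he => ?_⟩,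
      mem_centralizer_singleton_iff.mpr (hPB ht).2.eq⟩
    exact ((mul_inv_eq_iff_eq_mul.mp (hcent k t ht hk' e he) : t * e = e * t)).symm) hQP
  exact hPeq ▸ hmax

/-- **The residue for `Q = E`**: `u` is outside `G'`. -/
theorem eq_residue_not_mem_commutator (h : Crit G Ω D) (hP : RankOnePairs (G := G) Ω)
    (hl : Line2 D u x E E) (hT : HasTranslation u x E) (hy : u • y = y) (hyx : y ≠ x)
    (c : ShapeOneChain D u x E R A) (hA : A ≤ core u x y E)
    (res : ClassResidue u x E R ⁅R, A⁆ (nxt R R) A) : u ∉ commutator G := by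
  classical
  haveI : Fact (Nat.Prime 2) := ⟨Nat.prime_two⟩
  haveI := h.trans
  have htd := c.torus
  have d := res.data
  set K := ⁅R, A⁆ with hK
  set H := stabilizer G x with hH
  set Cl := classGroup x E R with hCl
  have huu : u * u = 1 := htd.sq_u
  have hEK : E ≤ K := htd.le_commutator
  have hClH : Cl ≤ H := fun g hg => (mem_inf.mp (mem_inf.mp hg).1).1
  have hRC : R ≤ Cl := d.R_le_classGroup
  have hAn : A ≤ normAt x E := fun a ha => (mem_inf.mp (d.A_le ha)).1
  have htorus : ∀ g ∈ normAt x E, Commute g u → ∀ a ∈ A, ∃ b ∈ A,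
      b⁻¹ * (g * a * g⁻¹) ∈ centAt x E := by
    intro g hg hgu a ha
    refine H26.Asch.exists_torus_conj h hl hy hyx hAn
      (fun a ha => ⟨a, hA ha, by rw [inv_mul_cancel]; exact one_mem _⟩) (fun a ha b hb e _ => ?_)
      (fun a ha b hb ha1 hb1 => htd.trans a ha ha1 b hb hb1) hg hgu ha
    rw [commutatorElement_eq_one_iff_commute.mpr (d.A_comm a ha b hb), one_mul, mul_one]
  have hmaxB := maxTwo_cent_u h hP hl hT hy hyx d res.card_E htorus
  set W₀ : Subgroup G := E ⊔ zpowers u with hW₀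
  have hEu : ∀ e ∈ E, Commute e u := fun e he => line2_commute hl he
  have hcases : ∀ {g}, g ∈ W₀ → g ∈ E ∨ g * u ∈ E := fun hg =>
    (Cfsg.Agent.H51.Asch.mem_sup_zpowers_involution huu hEu).mp hg
  -- every element of `K u` is a conjugate of `u`
  have hconjK : ∀ k ∈ K, ∃ g : G, g ∈ Cl ∧ g * u * g⁻¹ = k * u := by
    intro k hk
    obtain ⟨g, hg, hgk⟩ := res.orbit k hk
    set n := (g * u * g⁻¹ * u * k⁻¹)⁻¹ with hn
    have hn' : g⁻¹ * n * g ∈ nxt R R := by
      have := d.conj_N (inv_mem hg) ((nxt R R).inv_mem hgk)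
      rwa [inv_inv] at this
    obtain ⟨r, hr, hru⟩ :=
      htd.exists_conj_of_mem htd.u_mem (htd.card_centralized_le le_rfl) hn'
    refine ⟨g * r, mul_mem hg (hRC hr), ?_⟩
    rw [show g * r * u * (g * r)⁻¹ = g * (r * u * r⁻¹) * g⁻¹ by group, hru, hn]
    calc g * (g⁻¹ * (g * u * g⁻¹ * u * k⁻¹)⁻¹ * g * u) * g⁻¹
        = k * u⁻¹ * (g * u⁻¹ * u * g⁻¹) := by group
      _ = k * u := by rw [mul_assoc g, inv_mul_cancel, mul_one, mul_inv_cancel, mul_one, d.u_inv]
  have hinv : ∀ k ∈ K, u * k * u = k⁻¹ := by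
    intro k hk
    obtain ⟨g, -, hgk⟩ := hconjK k hk
    refine eq_inv_of_mul_eq_one_right ?_
    calc k * (u * k * u) = k * u * (k * u) := by group
      _ = 1 := by rw [← hgk, conj_mul, huu, mul_one, mul_inv_cancel]
  have homega : ∀ k ∈ K, k * k = 1 → k ∈ E := by
    intro k hk h2
    have hku : Commute k u := by
      have h1 := hinv k hk
      rw [inv_eq_of_mul_eq_one_right h2] at h1
      calc k * u = u * k * u * u := by rw [h1]
        _ = u * k := by rw [mul_assoc _ u u, huu, mul_one]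
    refine (htd.cent k (htd.commutator_le hk) hku).resolve_right fun hku' => ?_
    have := K.mul_mem (K.inv_mem hk) (hEK hku')
    rw [inv_mul_cancel_left] at this
    exact d.u_notMem this
  have hroots : K = E ∨ ∀ e ∈ E, ∃ k ∈ K, k * k = e := by
    by_cases hKE : K ≤ E
    · exact Or.inl (le_antisymm hKE hEK)
    right
    obtain ⟨k, hk, hkE⟩ := SetLike.not_le_iff_exists.mp hKE
    obtain ⟨j, hj⟩ := IsPGroup.iff_orderOf.mp htd.two ⟨k, htd.commutator_le hk⟩
    rw [orderOf_mk] at hj
    rcases j with _ | _ | j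
    · rw [pow_zero, orderOf_eq_one_iff] at hj
      exact absurd (hj ▸ E.one_mem) hkE
    · refine absurd (homega k hk ?_) hkE
      rw [← pow_two, orderOf_dvd_iff_pow_eq_one.mp (hj ▸ dvd_rfl)]
    set w := k ^ 2 ^ j with hw
    have hw2 : w * w ∈ E := homega _ (K.mul_mem (pow_mem hk _) (pow_mem hk _)) (by
      rw [← pow_add, ← pow_add]
      refine orderOf_dvd_iff_pow_eq_one.mp (dvd_of_eq ?_)
      rw [hj, pow_succ, pow_succ]; omega)
    have hw1 : w * w ≠ 1 := fun e => by
      rw [hw, ← pow_add] at e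
      have h1 := Nat.le_of_dvd (by positivity) (orderOf_dvd_of_pow_eq_one e)
      rw [hj, pow_succ, pow_succ] at h1
      have := Nat.two_pow_pos j
      omega
    intro e he
    by_cases he1 : e = 1
    · exact ⟨1, K.one_mem, by rw [he1, one_mul]⟩
    obtain ⟨a, ha, hae⟩ := htd.trans _ hw2 hw1 e he he1
    exact ⟨a * w * a⁻¹, d.K_invariant a ha w (pow_mem hk _), by rw [conj_mul, hae]⟩
  -- a Sylow 2-subgroup of `classGroup`
  let Z : Subgroup G :=
    { carrier := {g | TrivTop x E R K (nxt R R) g}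
      one_mem' := d.trivTop_of_mem R.one_mem
      mul_mem' := fun hb hc => d.trivTop_mul hb hc
      inv_mem' := fun hb => d.trivTop_inv hb }
  have hRZ : R ≤ Z := fun r hr => d.trivTop_of_mem hr
  have hcardC : Nat.card Cl = 168 * Nat.card Z :=
    res.card_image Z (fun _ hg => hg.1) fun _ => Iff.rfl
  obtain ⟨n, hn⟩ := IsPGroup.iff_card.mp htd.two
  have hZodd : Odd ((R.subgroupOf Z).index) := by
    obtain ⟨Y, hY⟩ := (htd.two.comap_subtype (K := Z)).exists_le_sylow
    have h1 := d.R_max ((Y : Subgroup Z).map Z.subtype) (Y.isPGroup'.map _)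
      (fun g hg => d.centAt_of_trivTop ((map_subtype_le _) hg))
      fun r hr => ⟨⟨r, hRZ hr⟩, hY hr, rfl⟩
    have h2 : R.subgroupOf Z = Y := le_antisymm hY fun z hz => h1 ⟨z, hz, rfl⟩
    rw [h2]
    exact Nat.not_even_iff_odd.mp fun he => Y.not_dvd_index (even_iff_two_dvd.mp he)
  have hcardZ : Nat.card Z = 2 ^ n * (R.subgroupOf Z).index := by
    rw [← hn, ← Nat.card_congr (subgroupOfEquivOfLe hRZ).toEquiv, card_mul_index]
  have hcardC' : Nat.card Cl = 2 ^ (n + 3) * (21 * (R.subgroupOf Z).index) := by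
    rw [hcardC, hcardZ, pow_add]; ring
  obtain ⟨S', hS'card, hRS'⟩ := Sylow.exists_subgroup_card_pow_prime_le 2
    (Dvd.intro _ hcardC'.symm) (R.subgroupOf Cl)
    (by rw [Nat.card_congr (subgroupOfEquivOfLe hRC).toEquiv, hn]) (Nat.le_add_right n 3)
  set S := S'.map Cl.subtype with hS
  have hS2 : IsPGroup 2 S := (IsPGroup.of_card hS'card).map _
  have hSC : S ≤ Cl := map_subtype_le _
  have hRS : R ≤ S := fun r hr => ⟨⟨r, hRC hr⟩, hRS' hr, rfl⟩
  have hScard : Nat.card S = 2 ^ (n + 3) := by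
    rw [hS, card_map_of_injective Cl.subtype_injective, hS'card]
  have hSmax : ∀ P : Subgroup G, IsPGroup 2 P → P ≤ Cl → S ≤ P → P ≤ S := by
    intro P hP2 hPC hSP
    refine (eq_of_le_of_card_ge hSP ?_).ge
    obtain ⟨j, hj⟩ := IsPGroup.iff_card.mp hP2
    have h1 : 2 ^ j ∣ 2 ^ (n + 3) * (21 * (R.subgroupOf Z).index) :=
      hcardC' ▸ hj ▸ card_dvd_of_le hPC
    rw [hj, hScard]
    refine Nat.le_of_dvd (by positivity) (Nat.Coprime.dvd_of_dvd_mul_right ?_ h1)
    refine (Nat.coprime_two_left.mpr ?_).pow_left j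
    exact Nat.odd_mul.mpr ⟨by decide, hZodd⟩
  let C : Set G := {v | v • x = x ∧ ∃ a : G, a * u * a⁻¹ = v}
  have hCstab : ∀ {g}, g ∈ Cl → g • x = x := fun hg => mem_stabilizer_iff.mp (hClH hg)
  have hcore : H74.Asch.core K u = R := le_antisymm
    (sup_le htd.commutator_le (zpowers_le.mpr htd.u_mem)) fun r hr => by
      rcases d.K_cases r hr with h1 | h1
      · exact mem_sup_left h1
      · have := mul_mem (mem_sup_left h1 : r * u ∈ H74.Asch.core K u)
          (mem_sup_right (mem_zpowers u) : u ∈ H74.Asch.core K u)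
        rwa [mul_assoc, huu, mul_one] at this
  have D8 : H74.Asch.EightData H S K E u C :=
    { sq := htd.sq
      card_E := res.card_E
      E_le := hEK
      omega := homega
      roots := hroots
      sq_u := huu
      u_notMem := d.u_notMem
      inverts := hinv
      two := hS2
      le := hSC.trans hClH
      K_le := htd.commutator_le.trans hRS
      u_mem := hRS htd.u_mem
      card_S := by
        have h1 := htd.card_eq_two_mul
        rw [hn] at h1
        rw [hScard, pow_add, h1]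
        ring
      normE := fun s hs => (mem_inf.mp (mem_inf.mp (hSC hs)).1).2
      normK := fun s hs => H39.mem_normalizer_of_conj_mem fun k hk => res.invariant s (hSC hs) k hk
      conj_u := fun s hs => d.conj_mul_mem s (hSC hs)
      cent_E := fun s hs hsE => by
        refine d.K_cases s (d.R_max (S ⊓ centAt x E) (hS2.to_le inf_le_left) inf_le_right
          (le_inf hRS d.R_le) (mem_inf.mpr ⟨hs, mem_centAt'.mpr ⟨hCstab (hSC hs), fun e he => ?_⟩⟩))
        rw [(hsE e he).eq, mul_inv_cancel_right]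
      cent_u := fun s hs hsu => by
        have h1 := hmaxB.2.2 (S ⊓ centralizer ({u} : Set G)) (hS2.to_le inf_le_left)
          (inf_le_inf_right _ (hSC.trans hClH))
          (le_inf ((sup_le (hEK.trans htd.commutator_le) (zpowers_le.mpr htd.u_mem)).trans hRS)
            (hmaxB.2.1.trans inf_le_right))
        have h2 : s ∈ W₀ := by
          rw [← h1]
          exact mem_inf.mpr ⟨hs, mem_centralizer_singleton_iff.mpr hsu.eq⟩
        exact (hcases h2).imp (fun h3 => hEK h3) (fun h3 => hEK h3)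
      conj_mem := fun g hg v ⟨hvx, a, hav⟩ => by
        refine ⟨?_, g * a, by rw [← hav]; group⟩
        rw [mul_smul, mul_smul, inv_smul_eq_iff.mpr (mem_stabilizer_iff.mp hg).symm, hvx,
          mem_stabilizer_iff.mp hg]
      inv := fun v ⟨_, a, hav⟩ => by rw [← hav, conj_mul, huu, mul_one, mul_inv_cancel]
      notMem := fun v ⟨_, a, hav⟩ hvK => c.no_conj a (hav ▸ hvK)
      u_C := ⟨hl.fix, 1, by group⟩
      small := fun v ⟨hvx, a, hav⟩ W hW2 hWH hWv => by
        have hzx : x ∈ H1.Asch.fixSet (Ω := Ω) (zpowers u) := fun e he =>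
          (zpowers_le.mpr (show u ∈ stabilizer G x from hl.fix)) he
        obtain ⟨k, hk, hkt⟩ := H1.Asch.exists_stabilizer_conj h
          (IsPGroup.of_card (n := 1) (by rw [Nat.card_zpowers, hl.bad.1]; rfl)) hzx (a := a)
          fun t ht => (zpowers_le.mpr (show u ∈ (stabilizer G x).comap (MulAut.conj a).toMonoidHom from
            mem_stabilizer_iff.mpr (show (a * u * a⁻¹) • x = x from hav ▸ hvx))) ht
        have hku : k * u * k⁻¹ = v := (hkt u (mem_zpowers u)).trans hav
        obtain ⟨z, -, hz⟩ := exists_conj_le_of_maximal hmaxB.1 hmaxB.2.1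
          (fun P h1 h2 h3 => (hmaxB.2.2 P h1 h2 h3).le) (R := W.map (MulAut.conj k⁻¹).toMonoidHom)
          (hW2.map _) (by
            rintro _ ⟨g, hg, rfl⟩
            refine mem_inf.mpr ⟨mul_mem (mul_mem (inv_mem hk) (hWH hg)) (inv_mem (inv_mem hk)),
              mem_centralizer_singleton_iff.mpr ?_⟩
            have h2 := commute_conj (show Commute g (k * u * k⁻¹) from hku ▸ hWv g hg) k⁻¹
            rw [show k⁻¹ * (k * u * k⁻¹) * k⁻¹⁻¹ = u by group] at h2
            exact h2.eq)
        have himg : ∀ g ∈ W, z * k⁻¹ * g * (z * k⁻¹)⁻¹ ∈ W₀ := fun g hg => by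
          have := hz _ ⟨g, hg, rfl⟩
          convert this using 1
          simp [mul_assoc]
        have hW₀c : ∀ {p q}, p ∈ W₀ → q ∈ W₀ → Commute p q := by
          have hcEu : ∀ e ∈ E, ∀ q ∈ W₀, Commute e q := fun e he q hq =>
            htd.central e he q ((sup_le (hEK.trans htd.commutator_le)
              (zpowers_le.mpr htd.u_mem)) hq)
          have huW : ∀ q ∈ W₀, Commute u q := fun q hq => by
            rcases hcases hq with h2 | h2
            · exact (hEu q h2).symm
            · rw [show q = q * u * u by rw [mul_assoc, huu, mul_one]]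
              exact (hEu _ h2).symm.mul_right (Commute.refl u)
          intro p q hp hq
          rcases hcases hp with h1 | h1
          · exact hcEu p h1 q hq
          rw [show p = p * u * u by rw [mul_assoc, huu, mul_one]]
          exact (hcEu _ h1 q hq).mul_left (huW q hq)
        have hW₀s : ∀ {p}, p ∈ W₀ → p * p = 1 := fun {p} hp => by
          rcases hcases hp with h1 | h1
          · exact htd.sq p h1
          · have e1 : p = p * u * u := by rw [mul_assoc, huu, mul_one]
            rw [e1, (hEu _ h1).symm.mul_mul_mul_comm, htd.sq _ h1, huu, one_mul]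
        refine ⟨?_, fun p hp q hq => ?_, fun p hp => ?_⟩
        · let f : W → Bool × E := fun g =>
            if hg : z * k⁻¹ * (g : G) * (z * k⁻¹)⁻¹ ∈ E then (true, ⟨_, hg⟩)
            else (false, ⟨_, (hcases (himg g g.2)).resolve_left hg⟩)
          have hf : Function.Injective f := by
            intro g g' e
            simp only [f] at e
            split_ifs at e with h1 h2 h2 <;> simp at e <;> exact Subtype.ext (by simpa using e)
          have := Nat.card_le_card_of_injective f hf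
          rwa [Nat.card_prod, res.card_E, Nat.card_eq_fintype_card (α := Bool),
            Fintype.card_bool] at this
        · have h1 := commute_conj (hW₀c (himg p hp) (himg q hq)) (z * k⁻¹)⁻¹
          simpa [mul_assoc] using h1
        · have h1 := hW₀s (himg p hp)
          rwa [conj_mul, conj_eq_one_iff] at h1
      max := fun P hP2 hPH hSP hPn => by
        rw [hcore] at hPn
        refine hSmax P hP2 (fun g hg => ?_) hSP
        have hgR := hPn hg
        have hgK : ∀ k ∈ K, g * k * g⁻¹ ∈ K := by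
          intro k hk
          refine (d.K_cases _ ((mem_normalizer_iff.mp hgR k).mp (htd.commutator_le hk))).resolve_right
            fun h1 => ?_
          obtain ⟨b, -, hb⟩ := hconjK _ h1
          rw [mul_assoc (g * k * g⁻¹) u u, huu, mul_one] at hb
          refine c.no_conj (g⁻¹ * b) ?_
          rwa [show g⁻¹ * b * u * (g⁻¹ * b)⁻¹ = g⁻¹ * (b * u * b⁻¹) * g by group, hb,
            show g⁻¹ * (g * k * g⁻¹) * g = k by group]
        exact mem_inf.mpr ⟨mem_inf.mpr ⟨hPH hg, H39.mem_normalizer_of_conj_mem fun e he =>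
          homega _ (hgK e (hEK he)) (by rw [conj_mul, htd.sq e he, mul_one, mul_inv_cancel])⟩,
          hgR⟩ }
  refine D8.not_mem_commutator ?_ fun a ha => ⟨mem_stabilizer_iff.mp ha, a⁻¹, by rw [inv_inv]⟩
  rw [hH, index_stabilizer_of_transitive]
  exact H1.Asch.odd_card_points h

end Cfsg.Agent.H6.Asch
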