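import Cfsg.Agent.H6.Asch.ShapeThree
import Cfsg.Agent.H6.Asch.ResidueEight

/-!
The criterion from the one remaining statement, on lines without translations with `Q = E` of order
eight.
-/

set_option autoImplicit false
set_option linter.style.haveILetI false

namespace Cfsg.Agent.H6.Asch

open Subgroup MulAction
open Cfsg.Agent.H14.Asch
open Cfsg.Agent.H73.Asch (Line2 RankOnePairs NoBad liftSet crit_liftSet noBad_of_generated)
open Cfsg.Agent.H51.Asch (HasTranslation)
open scoped commutatorElement

universe u v

variable {G : Type u} [Group G] [Finite G] {Ω : Type v} [MulAction G Ω] [Finite Ω] {D : Set G}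

/-- The local step, from the statement on lines without translations. -/
theorem chain_or_not_mem_one (h : Crit G Ω D) (hn : EqNoTranslationStep Ω D)
    (hP : RankOnePairs (G := G) Ω) (t : G) (x : Ω) (E Q : Subgroup G) (hl : Line2 D t x E Q) :
    (∃ (y : Ω) (R K A : Subgroup G), Chain t x y E R K A) ∨ t ∉ _root_.commutator G := by
  by_cases hmem : t ∈ _root_.commutator G
  swap
  · exact Or.inr hmem
  by_cases hT : HasTranslation t x E
  swap
  · exact Or.inr (H73.Asch.noTranslationStep_of_eq h hn hP t x E Q hl hT)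
  obtain ⟨y, hy, hyx⟩ : ∃ y, t • y = y ∧ y ≠ x := by
    obtain ⟨-, ⟨a, b, hab, ha, hb⟩, -⟩ := hl.bad
    by_cases hax : a = x
    · exact ⟨b, hb, fun e => hab (hax.trans e.symm)⟩
    · exact ⟨a, ha, hax⟩
  refine Or.inl ⟨y, ?_⟩
  by_cases hQE : Q ≤ E
  · obtain rfl := le_antisymm hQE hl.E_le
    obtain ⟨R, A, c, hA⟩ := H51.Asch.exists_chain_core h hP hl hT hy hyx
    rcases H26.Asch.fused_or_residue_shapeOne h hl hy hyx c hA with hf | res
    · exact ⟨R, ⁅R, A⁆, A, chain_of_shapeOne h hP hl hT hy hyx c hA hf⟩
    · exact absurd hmem (eq_residue_not_mem_commutator h hP hl hT hy hyx c hA res)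
  obtain ⟨A₀, hA₀, hcyc, -, hd, hshape⟩ := H29.Asch.exists_shapeBase h hP hl hT hy hyx
  rcases hshape with e | hs | htw
  · exact absurd e.le hQE
  · exact chain_shapeTwo h hP hl hT hy hyx hs hQE hmem
  · exact shapeThreeChain h hP t x y E Q A₀ hl hy hyx hT hA₀ hcyc hd htw hQE

/-- **The criterion**, from the statement on lines without translations. -/
theorem noBad_of_one {G : Type u} [Group G] [Finite G] {Ω : Type v} [MulAction G Ω] [Finite Ω]
    {D : Set G} (h : Crit G Ω D)
    (hstep : ∀ {H : Type u} [Group H] [Finite H] [MulAction H Ω] (D' : Set H), Crit H Ω D' →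
      EqNoTranslationStep Ω D') : NoBad Ω D := by
  refine noBad_of_generated h fun hgen => ?_
  exact noBad_generated_of_two (crit_liftSet h) hgen (H73.Asch.pairsStep (crit_liftSet h))
    fun hP => chain_or_not_mem_one (crit_liftSet h) (hstep (liftSet D) (crit_liftSet h)) hP

/-- `Red.Core` from the statement on lines without translations. -/
theorem core_of_one
    (hstep : ∀ {H : Type u} [Group H] [Finite H] {Ω : Type u} [MulAction H Ω] [Finite Ω]
      (D' : Set H), Crit H Ω D' → EqNoTranslationStep Ω D') :
    H1.Asch.Red.Core.{u} :=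
  fun _ _ _ _ _ _ _ h => noBad_of_one h fun D' h' => hstep D' h'

end Cfsg.Agent.H6.Asch
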