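import Cfsg.Agent.H6.Asch.Chain
import Cfsg.Agent.H1.Asch.Transfer
import Cfsg.Agent.Coprime.Action
import Cfsg.Agent.H39.Basic

/-!
The homomorphism of `C(E)` at `x` onto a group of order two that separates `u` from `K`: it is
unique among the `A`-invariant ones and invariant under the whole of `core u x y E`, so every
element of `N(E)` at `x` and `y` commuting with `u` preserves it.
-/

set_option autoImplicit false
set_option linter.style.haveILetI false

namespace Cfsg.Agent.H6.Asch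

open Subgroup MulAction
open Cfsg.Agent.H39
open Cfsg.Agent.H14.Asch
open scoped commutatorElement

universe u v

/-- The group of order two. -/
abbrev Two : Type := Multiplicative (ZMod 2)

theorem two_mul_self (a : Two) : a * a = 1 := by revert a; decide

theorem two_eq_of_ne {a b : Two} (ha : a ≠ 1) (hb : b ≠ 1) : a = b := by revert a b; decide

theorem two_pow_odd (a : Two) {n : ℕ} (hn : Odd n) : a ^ n = a := by
  obtain ⟨j, rfl⟩ := hn
  rw [pow_succ, pow_mul, pow_two, two_mul_self, one_pow, one_mul]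

variable {G : Type u} [Group G] {Ω : Type v} [MulAction G Ω]

theorem mem_centAt {x : Ω} {E : Subgroup G} {g : G} :
    g ∈ centAt x E ↔ g • x = x ∧ ∀ e ∈ E, e * g = g * e := by
  rw [centAt, mem_inf, mem_stabilizer_iff, mem_centralizer_iff]
  rfl

theorem centAt_le_normAt (x : Ω) (E : Subgroup G) : centAt x E ≤ normAt x E :=
  inf_le_inf_left _ (Subgroup.centralizer_le_normalizer _)

theorem conj_mem_centAt {x : Ω} {E : Subgroup G} {g c : G} (hg : g ∈ normAt x E)
    (hc : c ∈ centAt x E) : g * c * g⁻¹ ∈ centAt x E := by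
  obtain ⟨hgx, hgE⟩ : g ∈ stabilizer G x ∧ g ∈ normalizer (E : Set G) := mem_inf.mp hg
  obtain ⟨hcx, hcE⟩ : c ∈ stabilizer G x ∧ c ∈ centralizer (E : Set G) := mem_inf.mp hc
  refine mem_inf.mpr ⟨mul_mem (mul_mem hgx hcx) (inv_mem hgx),
    mem_centralizer_iff.mpr fun e he => ?_⟩
  have he' : g⁻¹ * e * g ∈ E := by
    simpa using (mem_normalizer_iff.mp (inv_mem hgE) e).mp he
  calc e * (g * c * g⁻¹) = g * ((g⁻¹ * e * g) * c) * g⁻¹ := by group
    _ = g * (c * (g⁻¹ * e * g)) * g⁻¹ := by rw [(mem_centralizer_iff.mp hcE _ he')]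
    _ = _ := by group

/-- Conjugation by an element of `N(E)` at `x`, on `C(E)` at `x`. -/
def conjHom (x : Ω) (E : Subgroup G) {g : G} (hg : g ∈ normAt x E) :
    centAt x E →* centAt x E where
  toFun c := ⟨g * c * g⁻¹, conj_mem_centAt hg c.2⟩
  map_one' := Subtype.ext (by simp)
  map_mul' c d := Subtype.ext (by simp [mul_assoc])

@[simp] theorem coe_conjHom {x : Ω} {E : Subgroup G} {g : G} (hg : g ∈ normAt x E)
    (c : centAt x E) : ((conjHom x E hg c : centAt x E) : G) = g * c * g⁻¹ := rfl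

variable {u : G} {x y : Ω} {E R K A : Subgroup G}

namespace Chain

variable (hc : Chain u x y E R K A)
include hc

theorem A_normAt {a : G} (ha : a ∈ A) : a ∈ normAt x E := (hc.A_le ha).1

theorem u_centAt : u ∈ centAt x E := hc.R_le hc.u_mem

omit hc in
theorem core_normAt {a : G} (ha : a ∈ core u x y E) : a ∈ normAt x E :=
  (mem_inf.mp (mem_inf.mp (map_subtype_le _ ha)).2).1

omit hc in
theorem core_commute {a : G} (ha : a ∈ core u x y E) : Commute a u :=
  mem_centralizer_singleton_iff.mp (mem_inf.mp (mem_inf.mp (map_subtype_le _ ha)).2).2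

omit hc in
theorem core_odd [Finite G] : Odd (Nat.card (core u x y E)) :=
  by
  rw [core, Subgroup.card_map_of_injective (Subgroup.subtype_injective _)]
  exact Cores.odd_card_oddCore

/-- A homomorphism invariant under `core u x y E` is `A`-invariant. -/
theorem inv_of_core {χ : centAt x E →* Two}
    (hinv : ∀ a (ha : a ∈ core u x y E) (c : centAt x E),
      χ (conjHom x E (core_normAt ha) c) = χ c)
    {a : G} (ha : a ∈ A) (c : centAt x E) : χ (conjHom x E (hc.A_normAt ha) c) = χ c := by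
  obtain ⟨b, hb, hba⟩ := hc.A_image a ha
  set w : centAt x E := ⟨b⁻¹ * a, hba⟩ with hw
  have e : conjHom x E (hc.A_normAt ha) c =
      conjHom x E (core_normAt hb) (w * c * w⁻¹) := Subtype.ext (by
    simp only [coe_conjHom, Subgroup.coe_mul, Subgroup.coe_inv, hw]
    group)
  rw [e, hinv b hb, map_mul, map_mul, map_inv, mul_comm (χ w), mul_inv_cancel_right]

theorem mul_mem_cases {g : G} (hg : g ∈ R) (hgK : g ∉ K) : g * u ∈ K :=
  (hc.K_cases g hg).resolve_left hgK

theorem u_conj_mem (hu : u * u = 1) {k : G} (hk : k ∈ K) : u * k * u⁻¹ ∈ K := by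
  have hui : u⁻¹ = u := inv_eq_of_mul_eq_one_right hu
  have hR := mul_mem (mul_mem hc.u_mem (hc.K_le hk)) (inv_mem hc.u_mem)
  rcases hc.K_cases _ hR with h | h
  · exact h
  · exfalso
    rw [inv_mul_cancel_right] at h
    exact hc.u_notMem (by simpa using mul_mem h (inv_mem hk))

theorem exists_phi (hu : u * u = 1) :
    ∃ φ : R →* Two, ∀ r : R, φ r = 1 ↔ (r : G) ∈ K := by
  classical
  let f : R → Two := fun r => if (r : G) ∈ K then 1 else Multiplicative.ofAdd 1
  have hui : u⁻¹ = u := inv_eq_of_mul_eq_one_right hu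
  refine ⟨MonoidHom.mk' f fun r s => ?_, fun r => ?_⟩
  · by_cases hr : (r : G) ∈ K <;> by_cases hs : (s : G) ∈ K
    · simp [f, hr, hs, mul_mem hr hs]
    · have hrs : (r : G) * s ∉ K := fun h => hs (by simpa using mul_mem (inv_mem hr) h)
      simp [f, hr, hs, hrs]
    · have hrs : (r : G) * s ∉ K := fun h => hr (by simpa using mul_mem h (inv_mem hs))
      simp [f, hr, hs, hrs]
    · have hrs : (r : G) * s ∈ K := by
        have h1 := mul_mem (hc.mul_mem_cases r.2 hr) (hc.u_conj_mem hu (hc.mul_mem_cases s.2 hs))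
        rwa [show (r : G) * u * (u * (s * u) * u⁻¹) = r * ((u * u) * s) * (u * u⁻¹) by group, hu,
          one_mul, mul_inv_cancel, mul_one] at h1
      simp [f, hr, hs, hrs, two_mul_self]
  · by_cases hr : (r : G) ∈ K <;> simp [f, hr]

theorem sup_eq [Finite G] : ⁅R, A⁆ ⊔ (R ⊓ centralizer (A : Set G)) = R := by
  haveI : Fact (Nat.Prime 2) := ⟨Nat.prime_two⟩
  obtain ⟨n, hn⟩ := IsPGroup.iff_card.mp hc.R_two
  haveI := hc.R_two.isNilpotent
  refine Coprime.commutator_sup_centralizer (hc.A_le.trans inf_le_right) ?_ (Or.inr inferInstance)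
  rw [hn]
  exact Nat.Coprime.pow_right _ (Nat.coprime_two_right.mpr hc.A_odd)

omit hc in
theorem conj_mem_core [Finite G] {t a : G} (ht : t ∈ normAt x E) (hty : t • y = y)
    (htu : Commute t u) (ha : a ∈ core u x y E) : t * a * t⁻¹ ∈ core u x y E := by
  obtain ⟨htx, -⟩ : t ∈ stabilizer G x ∧ t ∈ normalizer (E : Set G) := mem_inf.mp ht
  obtain ⟨w, hw, rfl⟩ := ha
  have htp : t ∈ pairNorm u x y E := mem_inf.mpr ⟨mem_pairStab.mpr
    ⟨mem_stabilizer_iff.mp htx, hty⟩, mem_inf.mpr ⟨ht, mem_centralizer_singleton_iff.mpr htu.eq⟩⟩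
  exact ⟨⟨t, htp⟩ * w * ⟨t, htp⟩⁻¹,
    (inferInstance : (Cfsg.oddCore _).Normal).conj_mem w hw _, rfl⟩

/-- An `A`-invariant homomorphism on `R` trivial at `u` is trivial. -/
theorem le_ker [Finite G] (f : G → Two) (hmul : ∀ r ∈ R, ∀ s ∈ R, f (r * s) = f r * f s)
    (hinv : ∀ a ∈ A, ∀ r ∈ R, f (a * r * a⁻¹) = f r) (hfu : f u = 1) {r : G} (hr : r ∈ R) :
    f r = 1 := by
  have hf1 : f 1 = 1 := by simpa using hmul 1 (one_mem _) 1 (one_mem _)
  let L : Subgroup G :=
    { carrier := {g | g ∈ R ∧ f g = 1}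
      one_mem' := ⟨one_mem _, hf1⟩
      mul_mem' := fun ha hb => ⟨mul_mem ha.1 hb.1, by rw [hmul _ ha.1 _ hb.1, ha.2, hb.2, one_mul]⟩
      inv_mem' := fun {g} hg => ⟨inv_mem hg.1, by
        have h := hmul _ (inv_mem hg.1) _ hg.1
        rw [inv_mul_cancel, hf1, hg.2, mul_one] at h
        exact h.symm⟩ }
  have hRA : A ≤ normalizer (R : Set G) := hc.A_le.trans inf_le_right
  have hle : R ≤ L := by
    refine hc.sup_eq.ge.trans (sup_le (commutator_le.mpr fun r hr a ha => ?_) fun g hg => ?_)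
    · have h1 : a * r⁻¹ * a⁻¹ ∈ R := (mem_normalizer_iff.mp (hRA ha) _).mp (inv_mem hr)
      refine ⟨?_, ?_⟩
      · rw [commutatorElement_def, show r * a * r⁻¹ * a⁻¹ = r * (a * r⁻¹ * a⁻¹) by group]
        exact mul_mem hr h1
      · rw [commutatorElement_def, show r * a * r⁻¹ * a⁻¹ = r * (a * r⁻¹ * a⁻¹) by group,
          hmul _ hr _ h1, hinv a ha _ (inv_mem hr), ← hmul _ hr _ (inv_mem hr), mul_inv_cancel, hf1]
    · obtain ⟨i, rfl⟩ := hc.A_fix g hg.1 fun a ha => (mem_centralizer_iff.mp hg.2 a ha)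
      exact (zpowers_le.mpr (⟨hc.u_mem, hfu⟩ : u ∈ L)) ⟨i, rfl⟩
  exact (hle hr).2

/-- An `A`-invariant homomorphism on `C(E)` trivial at `u` is trivial. -/
theorem hom_eq_one [Finite G] (ψ : centAt x E →* Two)
    (hinv : ∀ a (ha : a ∈ A) (c : centAt x E), ψ (conjHom x E (hc.A_normAt ha) c) = ψ c)
    (hu1 : ψ ⟨u, hc.u_centAt⟩ = 1) : ψ = 1 := by
  classical
  haveI : Fact (Nat.Prime 2) := ⟨Nat.prime_two⟩
  let f : G → Two := fun g => if h : g ∈ centAt x E then ψ ⟨g, h⟩ else 1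
  have hf : ∀ c : centAt x E, f c = ψ c := fun c => dif_pos c.2
  have hR : ∀ {r : G}, r ∈ R → f r = 1 := fun hr => hc.le_ker f
    (fun r hr s hs => (hf (⟨r, hc.R_le hr⟩ * ⟨s, hc.R_le hs⟩)).trans ((map_mul ψ _ _).trans
      (by rw [← hf, ← hf])))
    (fun a ha r hr => (hf (conjHom x E (hc.A_normAt ha) ⟨r, hc.R_le hr⟩)).trans
      ((hinv a ha _).trans (hf _).symm))
    ((hf ⟨u, hc.u_centAt⟩).trans hu1) hr
  let P : Sylow 2 (centAt x E) :=
    { toSubgroup := R.subgroupOf (centAt x E)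
      isPGroup' := hc.R_two.comap_subtype
      is_maximal' := fun {P} hP hle => by
        refine le_antisymm (fun c hcP => mem_subgroupOf.mpr ?_) hle
        refine hc.R_max (P.map (centAt x E).subtype) (hP.map _) (map_subtype_le _) ?_ ⟨c, hcP, rfl⟩
        exact fun r hr => ⟨⟨r, hc.R_le hr⟩, hle (mem_subgroupOf.mpr hr), rfl⟩ }
  have hPker : (P : Subgroup (centAt x E)) ≤ ψ.ker := fun c hcP =>
    (hf c).symm.trans (hR (mem_subgroupOf.mp hcP))
  rw [← MonoidHom.ker_eq_top_iff, ← Subgroup.index_eq_one]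
  have h1 : ψ.ker.index ∣ (P : Subgroup (centAt x E)).index := Subgroup.index_dvd_of_le hPker
  have h2 : ψ.ker.index ∣ 2 := by
    rw [Subgroup.index_ker]
    refine (Subgroup.card_subgroup_dvd_card ψ.range).trans (dvd_of_eq ?_)
    simp [Two]
  rcases (Nat.dvd_prime Nat.prime_two).mp h2 with h | h
  · exact h
  · rw [h] at h1
    exact absurd h1 P.not_dvd_index

theorem exists_chi [Finite G] (hu2 : orderOf u = 2) :
    ∃ χ : centAt x E →* Two,
      (∀ a (ha : a ∈ core u x y E) (c : centAt x E),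
        χ (conjHom x E (core_normAt ha) c) = χ c) ∧
      χ ⟨u, hc.u_centAt⟩ ≠ 1 ∧ ∀ r : centAt x E, (r : G) ∈ R → (χ r = 1 ↔ (r : G) ∈ K) := by
  classical
  haveI : Fact (Nat.Prime 2) := ⟨Nat.prime_two⟩
  have hu := mul_self_of_orderOf_eq_two hu2
  set C := centAt x E with hC
  obtain ⟨φ, hφ⟩ := hc.exists_phi hu
  let P : Sylow 2 C :=
    { toSubgroup := R.subgroupOf C
      isPGroup' := hc.R_two.comap_subtype
      is_maximal' := fun {P} hP hle => by
        refine le_antisymm (fun c hcP => mem_subgroupOf.mpr ?_) hle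
        refine hc.R_max (P.map C.subtype) (hP.map _) (map_subtype_le _) ?_ ⟨c, hcP, rfl⟩
        exact fun r hr => ⟨⟨r, hc.R_le hr⟩, hle (mem_subgroupOf.mpr hr), rfl⟩ }
  let φ' : R.subgroupOf C →* Two := φ.comp (subgroupOfEquivOfLe hc.R_le).toMonoidHom
  have hodd : Odd (R.subgroupOf C).index := by
    rw [← Nat.not_even_iff_odd, even_iff_two_dvd]; exact P.not_dvd_index
  set uC : C := ⟨u, hc.u_centAt⟩ with huC
  have huR : uC ∈ R.subgroupOf C := mem_subgroupOf.mpr hc.u_mem
  have hφu : φ' ⟨uC, huR⟩ ≠ 1 := fun h => hc.u_notMem ((hφ _).mp h)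
  have hval : MonoidHom.transfer φ' uC = φ' ⟨uC, huR⟩ :=
    H1.Asch.transfer_involution φ' hodd huR (Subtype.ext hu) fun a h =>
      two_eq_of_ne (fun h1 => hc.K_notConj (a : G)⁻¹ (by simpa using (hφ _).mp h1)) hφu
  set ψ := MonoidHom.transfer φ' with hψ
  set Γ := core u x y E with hΓ
  haveI : Fintype Γ := Fintype.ofFinite Γ
  let χ : C →* Two := ∏ a : Γ, ψ.comp (conjHom x E (core_normAt a.2))
  have hinv : ∀ a (ha : a ∈ Γ) (c : C), χ (conjHom x E (core_normAt ha) c) = χ c := by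
    intro a ha c
    simp only [χ, MonoidHom.finsetProd_apply, MonoidHom.comp_apply]
    refine Fintype.prod_equiv (Equiv.mulRight (⟨a, ha⟩ : Γ)) _ _ fun b => congrArg ψ ?_
    refine Subtype.ext ?_
    show (b : G) * (a * c * a⁻¹) * (b : G)⁻¹ =
      ((b * ⟨a, ha⟩ : Γ) : G) * c * (((b * ⟨a, ha⟩ : Γ) : G))⁻¹
    rw [Subgroup.coe_mul]
    group
  have hχu : χ uC ≠ 1 := by
    have h1 : χ uC = ψ uC ^ Nat.card Γ := by
      simp only [χ, MonoidHom.finsetProd_apply, MonoidHom.comp_apply]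
      rw [Finset.prod_congr rfl fun (a : Γ) _ => congrArg ψ (show conjHom x E (core_normAt a.2) uC = uC
        from Subtype.ext (mul_inv_eq_iff_eq_mul.mpr (core_commute a.2).eq)), Finset.prod_const,
        Finset.card_univ, ← Nat.card_eq_fintype_card]
    rw [h1, two_pow_odd _ core_odd, hval]
    exact hφu
  refine ⟨χ, hinv, hχu, fun r hr => ?_⟩
  let g : G → Two := fun g => if h : g ∈ C then χ ⟨g, h⟩ else 1
  let k : G → Two := fun g => if h : g ∈ R then φ ⟨g, h⟩ else 1
  have hg : ∀ c : C, g c = χ c := fun c => dif_pos c.2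
  have hk : ∀ c : R, k c = φ c := fun c => dif_pos c.2
  have hRA : A ≤ normalizer (R : Set G) := hc.A_le.trans inf_le_right
  have hφinv : ∀ a ∈ A, ∀ s (hs : s ∈ R), k (a * s * a⁻¹) = k s := by
    intro a ha s hs
    have h1 : a * s * a⁻¹ ∈ R := (mem_normalizer_iff.mp (hRA ha) _).mp hs
    rw [hk ⟨_, h1⟩, hk ⟨s, hs⟩]
    by_cases hsK : s ∈ K
    · rw [(hφ ⟨s, hs⟩).mpr hsK, (hφ ⟨_, h1⟩).mpr (hc.K_invariant a ha s hsK)]
    · refine two_eq_of_ne (fun e => hsK ?_) fun e => hsK ((hφ _).mp e)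
      have h2 := hc.K_invariant a⁻¹ (inv_mem ha) _ ((hφ _).mp e)
      rwa [show a⁻¹ * (a * s * a⁻¹) * a⁻¹⁻¹ = s by group] at h2
  have key := hc.le_ker (fun t => g t * k t) (fun s hs t ht => by
      show g (s * t) * k (s * t) = g s * k s * (g t * k t)
      rw [show g (s * t) = g s * g t from (hg (⟨s, hc.R_le hs⟩ * ⟨t, hc.R_le ht⟩)).trans
          ((map_mul χ _ _).trans (by rw [← hg, ← hg])),
        show k (s * t) = k s * k t from (hk (⟨s, hs⟩ * ⟨t, ht⟩)).trans
          ((map_mul φ _ _).trans (by rw [← hk, ← hk]))]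
      exact mul_mul_mul_comm _ _ _ _)
    (fun a ha s hs => by
      show g (a * s * a⁻¹) * k (a * s * a⁻¹) = g s * k s
      rw [hφinv a ha s hs]
      exact congrArg (· * k s) ((hg (conjHom x E (hc.A_normAt ha) ⟨s, hc.R_le hs⟩)).trans
        ((hc.inv_of_core hinv ha _).trans (hg _).symm)))
    (by
      show g u * k u = 1
      rw [hg uC, hk ⟨u, hc.u_mem⟩,
        two_eq_of_ne hχu (fun e => hc.u_notMem ((hφ ⟨u, hc.u_mem⟩).mp e)), two_mul_self])
    hr
  have e : χ r = φ ⟨r, hr⟩ := by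
    have h1 : χ r * φ ⟨r, hr⟩ = 1 := by rw [← hg r, ← hk ⟨r, hr⟩]; exact key
    calc χ r = χ r * (φ ⟨r, hr⟩ * φ ⟨r, hr⟩) := by rw [two_mul_self, mul_one]
      _ = φ ⟨r, hr⟩ := by rw [← mul_assoc, h1, one_mul]
  rw [e]
  exact hφ ⟨r, hr⟩

/-- Every element of `N(E)` at `x` and `y` commuting with `u` preserves the homomorphism. -/
theorem chi_conj [Finite G] {χ : centAt x E →* Two}
    (hinv : ∀ a (ha : a ∈ core u x y E) (c : centAt x E),
      χ (conjHom x E (core_normAt ha) c) = χ c)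
    {t : G} (ht : t ∈ normAt x E) (hty : t • y = y) (htu : Commute t u) (c : centAt x E) :
    χ (conjHom x E ht c) = χ c := by
  have hu1 : conjHom x E ht ⟨u, hc.u_centAt⟩ = ⟨u, hc.u_centAt⟩ :=
    Subtype.ext (mul_inv_eq_iff_eq_mul.mpr htu.eq)
  have key := hc.hom_eq_one (χ.comp (conjHom x E ht) * χ) (fun a ha d => ?_)
    (by simp [hu1, two_mul_self])
  · have h1 : χ (conjHom x E ht c) * χ c = 1 := DFunLike.congr_fun key c
    calc χ (conjHom x E ht c) = χ (conjHom x E ht c) * (χ c * χ c) := by rw [two_mul_self, mul_one]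
      _ = χ c := by rw [← mul_assoc, h1, one_mul]
  simp only [MonoidHom.mul_apply, MonoidHom.comp_apply, hc.inv_of_core hinv ha d]
  refine congrArg (· * χ d) ?_
  obtain ⟨b, hb, hba⟩ := hc.A_image a ha
  set w : centAt x E := ⟨b⁻¹ * a, hba⟩ with hw
  have e : conjHom x E ht (conjHom x E (hc.A_normAt ha) d) =
      conjHom x E (core_normAt (conj_mem_core ht hty htu hb))
        (conjHom x E ht (w * d * w⁻¹)) := Subtype.ext (by
    simp only [coe_conjHom, Subgroup.coe_mul, Subgroup.coe_inv, hw]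
    group)
  rw [e, hinv _ (conj_mem_core ht hty htu hb), map_mul, map_mul, map_inv, map_mul, map_mul,
    map_inv, mul_comm (χ (conjHom x E ht w)), mul_inv_cancel_right]

end Chain

end Cfsg.Agent.H6.Asch
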