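import Cfsg.Agent.H6.Asch.Sylow
import Cfsg.Agent.H1.Asch.Fusion

/-!
P5 of the criterion: the transfer into a Sylow two-subgroup separates `u` from the commutator
subgroup, which contains every member as soon as two distinct members commute.
-/

set_option autoImplicit false
set_option linter.style.haveILetI false

namespace Cfsg.Agent.H6.Asch

open Subgroup MulAction
open Cfsg.Agent.H39
open Cfsg.Agent.H14.Asch
open Cfsg.Agent.H73.Asch (Line2 RankOnePairs)
open scoped commutatorElement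

universe u v

variable {G : Type u} [Group G] [Finite G] {Ω : Type v} [MulAction G Ω] [Finite Ω] {u : G}
  {x y : Ω} {E Q R K A : Subgroup G} {D : Set G}

omit [Finite Ω] in
/-- The conjugates of `u` in `C(E)` at `x` have the value of `u`. -/
theorem Chain.chi_ne_one (hc : Chain u x y E R K A) (hu2 : orderOf u = 2)
    {χ : centAt x E →* Two} (hK : ∀ r : centAt x E, (r : G) ∈ R → (χ r = 1 ↔ (r : G) ∈ K)) {g : G}
    (hg : g * u * g⁻¹ ∈ centAt x E) : χ ⟨g * u * g⁻¹, hg⟩ ≠ 1 := by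
  haveI : Fact (Nat.Prime 2) := ⟨Nat.prime_two⟩
  set v := g * u * g⁻¹ with hv
  have hv2 : IsPGroup 2 (zpowers v) :=
    IsPGroup.of_card (n := 1) (by rw [Nat.card_zpowers, hv, orderOf_conj, hu2]; rfl)
  obtain ⟨c, hcC, hcR⟩ := exists_conj_le_of_maximal hc.R_two hc.R_le hc.R_max hv2
    (zpowers_le.mpr hg)
  have hmem : c * v * c⁻¹ ∈ R := hcR v (mem_zpowers v)
  intro h1
  apply hc.K_notConj (c * g)
  rw [show c * g * u * (c * g)⁻¹ = c * v * c⁻¹ by rw [hv]; group]
  refine (hK ⟨_, hc.R_le hmem⟩ hmem).mp ?_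
  rw [show (⟨c * v * c⁻¹, hc.R_le hmem⟩ : centAt x E) = ⟨c, hcC⟩ * ⟨v, hg⟩ * (⟨c, hcC⟩)⁻¹ from
    Subtype.ext rfl, map_mul, map_mul, map_inv, h1, mul_one, mul_inv_cancel]

/-- **P5**: `u` lies outside the commutator subgroup. -/
theorem Chain.not_mem_commutator (hc : Chain u x y E R K A) (h : Crit G Ω D)
    (hP : RankOnePairs (G := G) Ω) (hl : Line2 D u x E Q) : u ∉ commutator G := by
  haveI : Fact (Nat.Prime 2) := ⟨Nat.prime_two⟩
  have hQM : Q ≤ normAt x E ⊓ centralizer {u} := fun g hg => mem_inf.mpr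
    ⟨centAt_le_normAt x E (mem_centAt.mpr ⟨line2_smul hl hg,
      fun e he => (hl.central e he g hg).eq⟩),
      mem_centralizer_singleton_iff.mpr (line2_commute hl hg).eq⟩
  obtain ⟨S, P, hp, hQP⟩ := Chain.exists_pair hl.isPGroup hQM
  obtain ⟨χ, hinv, hχu, hK⟩ := hc.exists_chi hl.bad.1
  have hu2 := mul_self_of_orderOf_eq_two hl.bad.1
  have huS : u ∈ S := hp.P_le (hc.u_mem_P hp)
  have hSx : S ≤ stabilizer G x := fun s hs => mem_stabilizer_iff.mpr
    (smul_of_mem_normAt (hp.S_le hs))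
  -- `S` has odd index
  have hodd : Odd S.index := by
    haveI := h.trans
    let S₁ : Sylow 2 (stabilizer G x) :=
      { toSubgroup := S.subgroupOf (stabilizer G x)
        isPGroup' := hp.S_two.comap_subtype
        is_maximal' := fun {P'} hP' hle => by
          refine le_antisymm (fun c hcP => mem_subgroupOf.mpr ?_) hle
          refine hc.S_maximal hp hl hQP h hP (hP'.map (stabilizer G x).subtype) (map_subtype_le _)
            (fun r hr => ⟨⟨r, hSx hr⟩, hle (mem_subgroupOf.mpr hr), rfl⟩) ⟨c, hcP, rfl⟩ }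
    rw [← Subgroup.relIndex_mul_index hSx, MulAction.index_stabilizer_of_transitive]
    refine Nat.odd_mul.mpr ⟨?_, h.odd_card⟩
    rw [← Nat.not_even_iff_odd, even_iff_two_dvd]
    exact S₁.not_dvd_index
  set K₀ : Subgroup G := S ⊓ (χ.ker).map (centAt x E).subtype with hK₀
  have hK₀mem : ∀ {g : G}, g ∈ S → ∀ (hg : g ∈ centAt x E), χ ⟨g, hg⟩ = 1 → g ∈ K₀ :=
    fun hgS hg h1 => mem_inf.mpr ⟨hgS, ⟨⟨_, hg⟩, h1, rfl⟩⟩
  have hK₀elim : ∀ {g : G}, g ∈ K₀ → g ∈ S ∧ ∃ hg : g ∈ centAt x E, χ ⟨g, hg⟩ = 1 := by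
    intro g hg
    obtain ⟨hgS, w, hw, rfl⟩ := mem_inf.mp hg
    exact ⟨hgS, w.2, hw⟩
  -- conjugation by `S` preserves the value
  have hconjχ : ∀ {s c : G}, s ∈ S → ∀ (hcC : c ∈ centAt x E) (hs : s ∈ normAt x E),
      χ (conjHom x E hs ⟨c, hcC⟩) = χ ⟨c, hcC⟩ := by
    intro s c hsS hcC hs
    obtain ⟨d, hd, t, ht, rfl⟩ := hc.exists_mul_stab hp hl hQP hsS
    have htM : t ∈ normAt x E := hp.S_le (hp.P_le (mem_inf.mp ht).1)
    set dC : centAt x E := ⟨d, (mem_inf.mp hd).2⟩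
    have e : conjHom x E hs ⟨c, hcC⟩ = dC * conjHom x E htM ⟨c, hcC⟩ * dC⁻¹ := Subtype.ext (by
      show d * t * c * (d * t)⁻¹ = d * (t * c * t⁻¹) * d⁻¹
      group)
    rw [e, map_mul, map_mul, map_inv, hc.chi_conj hinv htM (mem_inf.mp ht).2 (hp.P_commute t (mem_inf.mp ht).1),
      mul_comm (χ dC), mul_inv_cancel_right]
  have hnormal : (K₀.subgroupOf S).Normal := ⟨fun k hk s => by
    obtain ⟨-, hkC, hk1⟩ := hK₀elim (mem_subgroupOf.mp hk)
    refine mem_subgroupOf.mpr (hK₀mem (mul_mem (mul_mem s.2 k.2) (inv_mem s.2))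
      (conj_mem_centAt (hp.S_le s.2) hkC) ?_)
    exact (hconjχ s.2 hkC (hp.S_le s.2)).trans hk1⟩
  have hcomm : commutator S ≤ K₀.subgroupOf S := by
    rw [_root_.commutator_def]
    refine commutator_le.mpr fun a _ b _ => mem_subgroupOf.mpr ?_
    obtain ⟨c, hcS, p, hpT, hap⟩ := hc.exists_mul_stab hp hl hQP a.2
    obtain ⟨d, hdS, q, hqT, hbq⟩ := hc.exists_mul_stab hp hl hQP b.2
    have hpq : Commute p q := hc.commute_stab hp hl h hpT hqT
    have hpS : p ∈ S := hp.P_le (mem_inf.mp hpT).1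
    have hqS : q ∈ S := hp.P_le (mem_inf.mp hqT).1
    have hcC := (mem_inf.mp hcS).2
    have hdC := (mem_inf.mp hdS).2
    have e : ⁅(a : G), (b : G)⁆ = c * (p * d * p⁻¹) * (q * c⁻¹ * q⁻¹) * d⁻¹ := by
      rw [hap, hbq, commutatorElement_def]
      calc c * p * (d * q) * (c * p)⁻¹ * (d * q)⁻¹
          = c * (p * d * p⁻¹) * (p * q * p⁻¹) * c⁻¹ * q⁻¹ * d⁻¹ := by group
        _ = c * (p * d * p⁻¹) * q * c⁻¹ * q⁻¹ * d⁻¹ := by rw [hpq.eq, mul_inv_cancel_right]
        _ = _ := by group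
    have hC1 := conj_mem_centAt (hp.S_le hpS) hdC
    have hC2 := conj_mem_centAt (hp.S_le hqS) (inv_mem hcC)
    have hmem : ⁅(a : G), (b : G)⁆ ∈ centAt x E := by
      rw [e]; exact mul_mem (mul_mem (mul_mem hcC hC1) hC2) (inv_mem hdC)
    show ((⁅a, b⁆ : S) : G) ∈ K₀
    rw [show ((⁅a, b⁆ : S) : G) = ⁅(a : G), (b : G)⁆ by simp [commutatorElement_def]]
    refine hK₀mem ?_ hmem ?_
    · rw [commutatorElement_def]
      exact mul_mem (mul_mem (mul_mem a.2 b.2) (inv_mem a.2)) (inv_mem b.2)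
    · rw [show (⟨⁅(a : G), (b : G)⁆, hmem⟩ : centAt x E) =
          ⟨c, hcC⟩ * conjHom x E (hp.S_le hpS) ⟨d, hdC⟩ *
            conjHom x E (hp.S_le hqS) (⟨c, hcC⟩ : centAt x E)⁻¹ * (⟨d, hdC⟩ : centAt x E)⁻¹
        from Subtype.ext e, map_mul, map_mul, map_mul, hconjχ hpS hdC, map_inv (conjHom x E _),
        map_inv, map_inv, hconjχ hqS hcC]
      rw [mul_comm (χ ⟨c, hcC⟩), mul_inv_cancel_right, mul_inv_cancel]
  refine (H1.Asch.not_mem_closure_of_coset hodd hnormal hcomm huS hu2 (fun hu => ?_) (fun a ha => ?_)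
    (D := ∅) (fun d hd => hd.elim) (fun d hd => hd.elim)).2
  · obtain ⟨-, hg, h1⟩ := hK₀elim hu
    exact hχu h1
  · have hva : a⁻¹ * u * a ∈ centAt x E := hc.mem_centAt_of_mul_self hp hl hQP hP ha (by
      rw [show a⁻¹ * u * a * (a⁻¹ * u * a) = a⁻¹ * (u * u) * a by group, hu2]; group)
    refine hK₀mem (mul_mem ha huS) (mul_mem hva hc.u_centAt) ?_
    rw [show (⟨a⁻¹ * u * a * u, mul_mem hva hc.u_centAt⟩ : centAt x E) =
        ⟨a⁻¹ * u * a, hva⟩ * ⟨u, hc.u_centAt⟩ from rfl, map_mul]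
    have hne := hc.chi_ne_one hl.bad.1 hK (g := a⁻¹) (by rwa [inv_inv])
    simp only [inv_inv] at hne
    rw [two_eq_of_ne hne hχu, two_mul_self]

/-- The members lie in the commutator subgroup once two distinct members commute. -/
theorem commutator_eq_top (h : Crit G Ω D) (hP : RankOnePairs (G := G) Ω) (hgen : closure D = ⊤)
    {a b : G} (ha : a ∈ D) (hb : b ∈ D) (hne : a ≠ b) (hab : Commute a b) : commutator G = ⊤ := by
  have hmul : a * b ∈ D := h.mul_mem_of_commute hP ha hb hne hab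
  rw [← top_le_iff, ← hgen, closure_le]
  intro d hd
  rw [SetLike.mem_coe, ← Abelianization.ker_of G, MonoidHom.mem_ker]
  have hconst : ∀ {e : G}, e ∈ D → Abelianization.of e = Abelianization.of d := fun he => by
    obtain ⟨g, rfl⟩ := h.isConj hd he
    rw [map_mul, map_mul, map_inv, mul_comm (Abelianization.of g), mul_inv_cancel_right]
  have h1 := hconst hmul
  rw [map_mul, hconst ha, hconst hb] at h1
  exact mul_eq_left.mp h1

/-- The kill: no bad involution is left. -/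
theorem Chain.not_mem_closure (hc : Chain u x y E R K A) (h : Crit G Ω D)
    (hP : RankOnePairs (G := G) Ω) (hl : Line2 D u x E Q) (hgen : closure D = ⊤) : False := by
  obtain ⟨-, -, a, ha, b, hb, hne, hab, -⟩ := hl.bad
  exact hc.not_mem_commutator h hP hl (by rw [commutator_eq_top h hP hgen ha hb hne hab]; trivial)

end Cfsg.Agent.H6.Asch
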