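import Cfsg.Agent.H6.Asch.Kill
import Cfsg.Agent.H14.Asch.RankOneEnd
import Cfsg.Agent.H73.Asch.Reduce

/-!
Assembly of the criterion (notes/aschbacher.md v3): the three steps lines, rank theorem and local
kill imply that no involution of `closure D` fixes two points.
-/

set_option autoImplicit false
set_option linter.style.haveILetI false

namespace Cfsg.Agent.H6.Asch

open Subgroup MulAction
open Cfsg.Agent.H39
open Cfsg.Agent.H14.Asch
open Cfsg.Agent.H73.Asch (RankTwoBad Line2 HasLines2 RankOnePairs NoBad noBad_of_generated liftSet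
  crit_liftSet)

universe u v

variable {G : Type u} [Group G] [Finite G] {Ω : Type v} [MulAction G Ω] [Finite Ω] {D : Set G}

omit [Finite G] in
/-- Members generating a 2-group in the centraliser of a bad involution commute. -/
theorem lineComm (h : Crit G Ω D) (hlines : HasLines2 Ω D) : LineComm Ω D := by
  haveI : Fact (Nat.Prime 2) := ⟨Nat.prime_two⟩
  intro t ht hb d hd e he hdt het hde
  set P := closure ({d, e} : Set G) with hP
  have hdP : d ∈ P := subset_closure (by simp)
  have heP : e ∈ P := subset_closure (by simp)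
  by_cases htwo : RankTwoBad Ω D t
  · obtain ⟨p, hp, -⟩ := h.unique hd
    have hPfix : ∃ q : Ω, ∀ g ∈ P, g • q = q := by
      obtain ⟨q, hq⟩ := hde.nonempty_fixed_point_of_prime_not_dvd_card Ω h.odd_card.not_two_dvd_nat
      exact ⟨q, fun g hg => hq ⟨g, hg⟩⟩
    obtain ⟨q, hq⟩ := hPfix
    have htq : t • q = q := h.fix_of_commute hd hdt.symm (hq d hdP)
    obtain ⟨E, Q, hl⟩ := hlines t q htwo htq
    obtain ⟨g, -, hgE⟩ := h.exists_conj_members hl hde
      (fun b hb => by
        induction hb using Subgroup.closure_induction with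
        | mem w hw =>
          rcases hw with rfl | rfl
          · exact hdt
          · exact het
        | one => exact Commute.one_left t
        | mul a b _ _ iha ihb => exact iha.mul_left ihb
        | inv a _ iha => exact iha.inv_left) hq
    have hc := (hl.central _ (hgE d hd hdP) _ (hl.E_le (hgE e he heP))).map
      (MulAut.conj g).toMonoidHom
    simpa [mul_assoc] using hc
  · -- rank one: a dihedral pair contains two distinct commuting members
    have hone : ∀ a ∈ D, ∀ b ∈ D, Commute a b → Commute a t → Commute b t → a = b := by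
      intro a ha b hb' hab hat hbt
      by_contra hne
      exact htwo ⟨ht, hb, a, ha, b, hb', hne, hab, hat, hbt⟩
    have hd2 := mul_self_of_orderOf_eq_two (h.inv hd)
    have he2 := mul_self_of_orderOf_eq_two (h.inv he)
    set r := d * e with hr
    obtain ⟨n, hn⟩ := IsPGroup.iff_orderOf.mp hde ⟨r, mul_mem hdP heP⟩
    rw [← Subgroup.orderOf_coe] at hn
    rcases n with _ | _ | n
    · rw [pow_zero] at hn
      have h1 : r = 1 := orderOf_eq_one_iff.mp hn
      have : d = e := by
        calc d = d * (e * e) := by rw [he2, mul_one]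
          _ = e := by rw [← mul_assoc, ← hr, h1, one_mul]
      rw [this]
    · rw [zero_add, pow_one] at hn
      have h1 : r * r = 1 := mul_self_of_orderOf_eq_two hn
      calc d * e = (e * e) * (d * e) * (d * e * (d * e))⁻¹ := by
            rw [he2, ← hr, h1, inv_one, mul_one, one_mul]
        _ = e * (e * e⁻¹) * d⁻¹ := by group
        _ = e * d := by
          rw [mul_inv_cancel, mul_one, inv_eq_of_orderOf_eq_two (h.inv hd)]
    exfalso
    set j : ℕ := 2 ^ n
    have hrd : ∀ i : ℕ, d * r ^ i * d⁻¹ = (r ^ i)⁻¹ := fun i => by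
      rw [← conj_pow, ← inv_pow]
      congr 1
      rw [hr, mul_inv_rev, inv_eq_of_orderOf_eq_two (h.inv he), inv_eq_of_orderOf_eq_two (h.inv hd),
        ← mul_assoc, hd2, one_mul]
    set c := r ^ (2 * j) with hc
    have hc1 : c ≠ 1 := fun e1 => by
      have h2 := Nat.le_of_dvd (by positivity) (orderOf_dvd_of_pow_eq_one e1)
      rw [hn, pow_succ, pow_succ] at h2
      have := Nat.two_pow_pos n
      simp only [j] at h2
      omega
    have hc2 : c⁻¹ = c := inv_eq_of_mul_eq_one_right (by
      rw [hc, ← pow_add, show 2 * j + 2 * j = 2 ^ (n + 1 + 1) by rw [pow_succ, pow_succ]; ring,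
        ← hn, pow_orderOf_eq_one])
    have hdc : Commute d c := by
      have := hrd (2 * j)
      rw [← hc, hc2] at this
      exact mul_inv_eq_iff_eq_mul.mp this
    have hmem : d * c ∈ D := by
      have e1 : d * c = (r ^ j)⁻¹ * d * (r ^ j)⁻¹⁻¹ := by
        rw [inv_inv, ← hrd, hc, two_mul, pow_add, inv_eq_of_orderOf_eq_two (h.inv hd)]
        simp [mul_assoc, hd2]
      rw [e1]; exact h.conj_mem hd _
    have hct : Commute c t := (hdt.mul_left het).pow_left _
    exact hc1 (left_eq_mul.mp
      (hone d hd (d * c) hmem ((Commute.refl d).mul_right hdc) hdt (hdt.mul_left hct)))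

/-- In a group generated by the members every bad involution has rank two. -/
theorem rankTwoBad_of_generated (h : Crit G Ω D) (hlines : HasLines2 Ω D) (hgen : closure D = ⊤)
    {t : G} (ht : orderOf t = 2) {a b : Ω} (hab : a ≠ b) (ha : t • a = a) (hb : t • b = b) :
    RankTwoBad Ω D t := by
  by_contra hnot
  refine h.rankOne_not_mem_closure (lineComm h hlines) (u := t)
    ⟨ht, ⟨a, b, hab, ha, hb⟩, fun d hd e he hdt het hde => ?_⟩ (hgen ▸ mem_top t)
  by_contra hne
  exact hnot ⟨ht, ⟨a, b, hab, ha, hb⟩, d, hd, e, he, hne, hde, hdt, het⟩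

/-- **The criterion in a group generated by the members**, from the three steps. -/
theorem noBad_generated (h : Crit G Ω D) (hgen : closure D = ⊤) (hlines : HasLines2 Ω D)
    (hpairs : (∀ t : G, orderOf t = 2 → ∀ a b : Ω, a ≠ b → t • a = a → t • b = b →
      RankTwoBad Ω D t) → RankOnePairs (G := G) Ω)
    (hkill : RankOnePairs (G := G) Ω → ∀ (t : G) (x : Ω) (E Q : Subgroup G), Line2 D t x E Q →
      (∃ (y : Ω) (R K A : Subgroup G), Chain t x y E R K A) ∨ t ∉ commutator G) :
    NoBad Ω D := by
  intro t _ ht x y hx hy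
  by_contra hxy
  have htwo : ∀ s : G, orderOf s = 2 → ∀ a b : Ω, a ≠ b → s • a = a → s • b = b →
      RankTwoBad Ω D s := fun s hs a b hab ha hb =>
    rankTwoBad_of_generated h hlines hgen hs hab ha hb
  obtain ⟨E, Q, hl⟩ := hlines t x (htwo t ht x y hxy hx hy) hx
  obtain ⟨-, -, a, ha, b, hb, hne, hab, -⟩ := hl.bad
  rcases hkill (hpairs htwo) t x E Q hl with ⟨z, R, K, A, hc⟩ | hnot
  · exact hc.not_mem_closure h (hpairs htwo) hl hgen
  · exact hnot (by rw [commutator_eq_top h (hpairs htwo) hgen ha hb hne hab]; trivial)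

/-- **The criterion**, from the three steps for the group generated by the members. -/
theorem noBad_of_steps (h : Crit G Ω D)
    (hlines : Crit ↥(closure D) Ω (liftSet D) → HasLines2 Ω (liftSet D))
    (hpairs : Crit ↥(closure D) Ω (liftSet D) → HasLines2 Ω (liftSet D) →
      (∀ t : ↥(closure D), orderOf t = 2 → ∀ a b : Ω, a ≠ b → t • a = a → t • b = b →
        RankTwoBad Ω (liftSet D) t) → RankOnePairs (G := ↥(closure D)) Ω)
    (hkill : Crit ↥(closure D) Ω (liftSet D) → HasLines2 Ω (liftSet D) →
      RankOnePairs (G := ↥(closure D)) Ω → ∀ (t : ↥(closure D)) (x : Ω)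
        (E Q : Subgroup ↥(closure D)), Line2 (liftSet D) t x E Q →
        (∃ (y : Ω) (R K A : Subgroup ↥(closure D)), Chain t x y E R K A) ∨
          t ∉ commutator ↥(closure D)) :
    NoBad Ω D := by
  have h' := crit_liftSet h
  exact noBad_of_generated h fun hgen => noBad_generated h' hgen (hlines h')
    (hpairs h' (hlines h')) (hkill h' (hlines h'))

end Cfsg.Agent.H6.Asch
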