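import Cfsg.Agent.H29.Asch.Semilinear

/-!
A two-group normalising an elementary abelian two-group `E` and an odd group transitive on `E#`
acts on `E` through a cyclic group: its commutators centralise `E`, and so does the quotient of
two of its elements whose squares centralise `E` and which do not.
-/

set_option autoImplicit false
set_option linter.style.haveILetI false

namespace Cfsg.Agent.H6.Asch

open Subgroup MulAction
open scoped commutatorElement

universe u

variable {G : Type u} [Group G]

/-- **Parity** for a two-group normalising an odd transitive group. -/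
theorem twoGroup_on_elementary [Finite G] {E O T : Subgroup G} (hE : ∀ e ∈ E, e * e = 1)
    (hne : E ≠ ⊥) (hEcomm : ∀ e ∈ E, ∀ f ∈ E, Commute e f) (hodd : Odd (Nat.card O))
    (hOE : O ≤ normalizer (E : Set G))
    (htr : ∀ a ∈ E, ∀ b ∈ E, a ≠ 1 → b ≠ 1 → ∃ k ∈ O, k * a * k⁻¹ = b)
    (hT : IsPGroup 2 T) (hTE : T ≤ normalizer (E : Set G))
    (hTO : T ≤ normalizer (O : Set G)) :
    (∀ a ∈ T, ∀ b ∈ T, ⁅a, b⁆ ∈ centralizer (E : Set G)) ∧
    ∀ a ∈ T, ∀ b ∈ T, a * a ∈ centralizer (E : Set G) → b * b ∈ centralizer (E : Set G) →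
      a ∉ centralizer (E : Set G) → b ∉ centralizer (E : Set G) →
      a⁻¹ * b ∈ centralizer (E : Set G) := by
  classical
  haveI : Fact (Nat.Prime 2) := ⟨Nat.prime_two⟩
  set N : Subgroup G := normalizer (E : Set G) ⊓ normalizer (O : Set G) with hN
  have hON : O ≤ N := le_inf hOE le_normalizer
  have hTN : T ≤ N := le_inf hTE hTO
  haveI : (O.subgroupOf N).Normal := ⟨fun o ho n => mem_subgroupOf.mpr
    ((mem_normalizer_iff.mp (mem_inf.mp n.2).2 _).mp (mem_subgroupOf.mp ho))⟩
  haveI : IsMulCommutative E :=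
    ⟨⟨fun a b => Subtype.ext (hEcomm _ a.2 _ b.2).eq⟩⟩
  let θ : N →* MulAut E := (normalizerMonoidHom E).comp (Subgroup.inclusion inf_le_left)
  have hθ : ∀ (n : N) (e : E), ((θ n e : E) : G) = (n : G) * e * (n : G)⁻¹ := fun _ _ => rfl
  have hker : ∀ n : N, θ n = 1 ↔ (n : G) ∈ centralizer (E : Set G) := by
    intro n
    constructor
    · intro h1
      refine mem_centralizer_iff.mpr fun e he => ?_
      have h2 := congrArg (fun f : MulAut E => ((f ⟨e, he⟩ : E) : G)) h1
      simp only [hθ, MulAut.one_apply] at h2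
      exact (mul_inv_eq_iff_eq_mul.mp h2).symm
    · intro h1
      ext e
      rw [hθ, MulAut.one_apply, ← mem_centralizer_iff.mp h1 _ e.2, mul_inv_cancel_right]
  letI : CommGroup E := { (inferInstance : Group E) with mul_comm := mul_comm' }
  let M : Subgroup (MulAut E) := θ.range
  letI : DistribMulAction M (Additive E) :=
    { smul := fun m e => Additive.ofMul ((m : MulAut E) (Additive.toMul e))
      one_smul := fun e => rfl
      mul_smul := fun m n e => rfl
      smul_zero := fun m => map_one (m : MulAut E)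
      smul_add := fun m a b => map_mul (m : MulAut E) a.toMul b.toMul }
  have hsmul : ∀ (m : M) (e : Additive E),
      Additive.toMul (m • e) = (m : MulAut E) (Additive.toMul e) := fun _ _ => rfl
  let π : N →* M := θ.rangeRestrict
  have hπ : ∀ n : N, π n = 1 ↔ (n : G) ∈ centralizer (E : Set G) := fun n =>
    ⟨fun h1 => (hker n).mp (congrArg Subtype.val h1), fun h1 => Subtype.ext ((hker n).mpr h1)⟩
  set O' : Subgroup M := (O.subgroupOf N).map π
  haveI : O'.Normal := Subgroup.Normal.map inferInstance π θ.rangeRestrict_surjective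
  haveI : Nontrivial (Additive E) := by
    haveI : Nontrivial E := Subgroup.nontrivial_iff_ne_bot E |>.mpr hne
    infer_instance
  obtain ⟨B, _, φ, -, hne1, heq⟩ := H29.Asch.exists_parity (M := M) (E := Additive E)
    (fun e => by
      apply Additive.toMul.injective
      rw [two_nsmul]
      exact Subtype.ext (hE _ (Additive.toMul e).2))
    O' ((hodd.of_dvd_nat (dvd_of_eq (Nat.card_congr (subgroupOfEquivOfLe hON).toEquiv))).of_dvd_nat
      (card_map_dvd _ π))
    (fun a b ha hb => by
      obtain ⟨k, hk, hkab⟩ := htr _ (Additive.toMul a).2 _ (Additive.toMul b).2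
        (fun e => ha (by
          apply Additive.toMul.injective
          exact Subtype.ext e))
        (fun e => hb (by
          apply Additive.toMul.injective
          exact Subtype.ext e))
      refine ⟨π ⟨k, hON hk⟩, mem_map_of_mem _ (mem_subgroupOf.mpr hk), ?_⟩
      apply Additive.toMul.injective
      exact Subtype.ext hkab)
  -- an involution of the image moves a vector
  have hmove : ∀ m : M, m ≠ 1 → ∃ e : Additive E, m • e ≠ e := by
    intro m hm
    by_contra hall
    push Not at hall
    exact hm (Subtype.ext (MulEquiv.ext fun e => congrArg Additive.toMul (hall (Additive.ofMul e))))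
  set T' : Subgroup M := (T.subgroupOf N).map π with hT'
  have hT'2 : IsPGroup 2 T' := (hT.comap_subtype).map π
  -- the homomorphism is injective on the image of the two-group
  have hinj : ∀ m ∈ T', φ m = 1 → m = 1 := by
    intro m hm hφm
    by_contra hm1
    haveI : Nontrivial (zpowers m) := (Subgroup.nontrivial_iff_ne_bot _).mpr
      (by rwa [Ne, zpowers_eq_bot])
    have h2 : IsPGroup 2 (zpowers m) := hT'2.to_le (zpowers_le.mpr hm)
    obtain ⟨k, hk⟩ := IsPGroup.iff_card.mp h2
    have hk0 : k ≠ 0 := fun h0 => by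
      rw [h0, pow_zero, Nat.card_zpowers, orderOf_eq_one_iff] at hk
      exact hm1 hk
    obtain ⟨w, hw⟩ := exists_prime_orderOf_dvd_card' (G := zpowers m) 2
      (hk ▸ dvd_pow_self 2 hk0)
    have hw' : orderOf (w : M) = 2 := by rw [orderOf_coe, hw]
    have hw1 : (w : M) ≠ 1 := fun e => by rw [e, orderOf_one] at hw'; omega
    refine hne1 w ?_ (hmove _ hw1) ?_
    · rw [← sq, ← hw', pow_orderOf_eq_one]
    · obtain ⟨i, hi⟩ := w.2
      rw [← hi, map_zpow, hφm, one_zpow]
  have hmem' : ∀ a (ha : a ∈ T), π ⟨a, hTN ha⟩ ∈ T' := fun a ha =>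
    mem_map_of_mem _ (mem_subgroupOf.mpr ha)
  constructor
  · intro a ha b hb
    have e : ((⁅(⟨a, hTN ha⟩ : N), ⟨b, hTN hb⟩⁆ : N) : G) = ⁅a, b⁆ := by
      simp [commutatorElement_def]
    rw [← e]
    refine (hπ _).mp (hinj _ ?_ ?_)
    · rw [map_commutatorElement, commutatorElement_def]
      exact mul_mem (mul_mem (mul_mem (hmem' a ha) (hmem' b hb)) (inv_mem (hmem' a ha)))
        (inv_mem (hmem' b hb))
    · rw [map_commutatorElement, map_commutatorElement, commutatorElement_eq_one_iff_mul_comm]
      exact mul_comm _ _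
  · intro a ha b hb ha2 hb2 hane hbne
    set m := π ⟨a, hTN ha⟩ with hm
    set n := π ⟨b, hTN hb⟩ with hn
    have hm2 : m * m = 1 := by rw [hm, ← map_mul]; exact (hπ _).mpr ha2
    have hn2 : n * n = 1 := by rw [hn, ← map_mul]; exact (hπ _).mpr hb2
    have hm1 : m ≠ 1 := fun e => hane ((hπ _).mp e)
    have hn1 : n ≠ 1 := fun e => hbne ((hπ _).mp e)
    have hφ := heq m n hm2 hn2 (hmove m hm1) (hmove n hn1)
    have e : m⁻¹ * n = 1 := hinj _ (mul_mem (inv_mem (hmem' a ha)) (hmem' b hb))
      (by rw [map_mul, map_inv, hφ, inv_mul_cancel])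
    exact (hπ (⟨a, hTN ha⟩⁻¹ * ⟨b, hTN hb⟩)).mp (by rw [map_mul, map_inv]; exact e)

end Cfsg.Agent.H6.Asch
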