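import Mathlib.Algebra.Order.Chebyshev
import Mathlib.Data.Set.Card
import Mathlib.Tactic

/-!
Higman's inequality for a generalised quadrangle with `s + 1` points on a line and `t + 1` lines
through a point: `t ≤ s ^ 2` if `2 ≤ s`, and dually `s ≤ t ^ 2` if `2 ≤ t`.
-/

set_option autoImplicit false
set_option linter.style.haveILetI false

namespace Cfsg.Agent.H6.Asch.Quadrangle

universe u v

variable {P : Type u} {L : Type v}

/-- A generalised quadrangle of order `(s, t)`. -/
structure IsQuadrangle (I : P → L → Prop) (s t : ℕ) : Prop where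
  card_line : ∀ l, Nat.card {p // I p l} = s + 1
  card_point : ∀ p, Nat.card {l // I p l} = t + 1
  meet : ∀ p q l m, I p l → I q l → I p m → I q m → p = q ∨ l = m
  unique : ∀ p l, ¬ I p l → ∃! q, I q l ∧ ∃ m, I p m ∧ I q m

variable {I : P → L → Prop} {s t : ℕ}

/-- Distinct points on a common line. -/
def Col (I : P → L → Prop) (p q : P) : Prop := p ≠ q ∧ ∃ m, I p m ∧ I q m

theorem Col.symm {p q : P} (h : Col I p q) : Col I q p :=
  ⟨h.1.symm, h.2.imp fun _ hm => ⟨hm.2, hm.1⟩⟩

variable (hI : IsQuadrangle I s t)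
include hI

theorem dual : IsQuadrangle (fun (l : L) (p : P) => I p l) t s where
  card_line := hI.card_point
  card_point := hI.card_line
  meet l m p q h1 h2 h3 h4 := (hI.meet p q l m h1 h3 h2 h4).symm
  unique l p hn := by
    obtain ⟨q, ⟨hql, m, hpm, hqm⟩, huniq⟩ := hI.unique p l hn
    refine ⟨m, ⟨hpm, q, hql, hqm⟩, ?_⟩
    rintro m' ⟨hpm', q', hq'l, hq'm'⟩
    obtain rfl := huniq q' ⟨hq'l, m', hpm', hq'm'⟩
    rcases hI.meet p q' m m' hpm hqm hpm' hq'm' with rfl | rfl
    · exact absurd hq'l hn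
    · rfl

/-- No triangles: a point collinear to two points of a line is on it. -/
theorem mem_of_col_two {p q r : P} {l : L} (hq : I q l) (hr : I r l) (hqr : q ≠ r)
    (hpq : Col I p q) (hpr : Col I p r) : I p l := by
  by_contra hn
  obtain ⟨w, -, huniq⟩ := hI.unique p l hn
  exact hqr ((huniq q ⟨hq, hpq.2⟩).trans (huniq r ⟨hr, hpr.2⟩).symm)

variable [Finite P] [Finite L]

open Classical in
/-- **Higman's inequality**, point form. -/
theorem le_sq (hs : 2 ≤ s) [Nonempty L] : t ≤ s ^ 2 := by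
  haveI := Fintype.ofFinite P
  haveI := Fintype.ofFinite L
  rcases Nat.lt_or_ge t 2 with ht | ht
  · calc t ≤ 1 := by omega
      _ ≤ s ^ 2 := Nat.one_le_pow _ _ (by omega)
  let N : P → Finset P := fun p => Finset.univ.filter (Col I p)
  have hmemN : ∀ {p q : P}, q ∈ N p ↔ Col I p q := fun {p q} => by simp [N]
  -- the valency
  have hdeg : ∀ p, (N p).card = (t + 1) * s := by
    intro p
    have e : N p = (Finset.univ.filter fun l => I p l).biUnion fun l =>
        (Finset.univ.filter fun q => I q l).erase p := by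
      ext q
      simp only [hmemN, Finset.mem_biUnion, Finset.mem_filter, Finset.mem_univ, true_and,
        Finset.mem_erase]
      exact ⟨fun ⟨hne, m, h1, h2⟩ => ⟨m, h1, hne.symm, h2⟩,
        fun ⟨m, h1, hne, h2⟩ => ⟨hne.symm, m, h1, h2⟩⟩
    rw [e, Finset.card_biUnion, Finset.sum_const_nat (m := s)]
    · rw [show (Finset.univ.filter fun l => I p l).card = t + 1 by
        rw [← hI.card_point p, Nat.card_eq_fintype_card, Fintype.card_subtype]]
    · intro l hl
      rw [Finset.card_erase_of_mem (by simpa using (Finset.mem_filter.mp hl).2)]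
      rw [← Fintype.card_subtype, ← Nat.card_eq_fintype_card, hI.card_line l]
      omega
    · intro l hl m hm hlm
      simp only [Finset.coe_filter, Finset.mem_univ, true_and, Set.mem_ofPred_eq] at hl hm
      refine Finset.disjoint_left.mpr fun q hq hq' => ?_
      simp only [Finset.mem_erase, Finset.mem_filter, Finset.mem_univ, true_and] at hq hq'
      rcases hI.meet q p l m hq.2 hl hq'.2 hm with e | e
      · exact hq.1 e
      · exact hlm e
  -- common neighbours of non-collinear points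
  have hnon : ∀ p p', p ≠ p' → ¬ Col I p p' → (N p ∩ N p').card = t + 1 := by
    intro p p' hne hnc
    have hex : ∀ l : {l // I p l}, ∃ q, I q l.1 ∧ q ≠ p ∧ Col I p' q := by
      rintro ⟨l, hl⟩
      have hn : ¬ I p' l := fun h => hnc ⟨hne, l, hl, h⟩
      obtain ⟨q, ⟨hql, m, hm1, hm2⟩, -⟩ := hI.unique p' l hn
      refine ⟨q, hql, fun e => hnc ⟨hne, m, e ▸ hm2, hm1⟩, fun e => hn (e ▸ hql), m, hm1, hm2⟩
    choose f hf1 hf2 hf3 using hex
    have hcard : Fintype.card {l // I p l} = (N p ∩ N p').card := by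
      rw [← Finset.card_univ]
      refine Finset.card_bij (fun l _ => f l) (fun l _ => ?_) (fun l _ m _ e => ?_) fun q hq => ?_
      · exact Finset.mem_inter.mpr
          ⟨hmemN.mpr ⟨(hf2 l).symm, l.1, l.2, hf1 l⟩, hmemN.mpr (hf3 l)⟩
      · rcases hI.meet p (f l) l.1 m.1 l.2 (hf1 l) m.2 (e ▸ hf1 m) with h | h
        · exact absurd h (hf2 l).symm
        · exact Subtype.ext h
      · obtain ⟨hq1, hq2⟩ := Finset.mem_inter.mp hq
        obtain ⟨hpq, m, hpm, hqm⟩ := hmemN.mp hq1
        refine ⟨⟨m, hpm⟩, Finset.mem_univ _, ?_⟩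
        by_contra hne'
        exact hnc ⟨hne, m, hpm, mem_of_col_two hI (hf1 ⟨m, hpm⟩) hqm hne' (hf3 ⟨m, hpm⟩)
          (hmemN.mp hq2)⟩
    rw [← hcard, ← Nat.card_eq_fintype_card, hI.card_point p]
  -- the number of points
  obtain ⟨l₀⟩ := ‹Nonempty L›
  have hv : Fintype.card P = (s + 1) * (s * t + 1) := by
    set F := Finset.univ.filter fun q => I q l₀ with hF
    have hFc : F.card = s + 1 := by
      rw [hF, ← Fintype.card_subtype, ← Nat.card_eq_fintype_card, hI.card_line l₀]
    have hdisj : (Fᶜ).card = (s + 1) * (t * s) := by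
      have e : Fᶜ = F.biUnion fun q => N q \ F := by
        ext p
        simp only [Finset.mem_compl, Finset.mem_biUnion, Finset.mem_sdiff, hmemN]
        refine ⟨fun hp => ?_, fun ⟨_, _, _, hp⟩ => hp⟩
        have hn : ¬ I p l₀ := fun h => hp (by simp [F, h])
        obtain ⟨q, ⟨hql, m, hpm, hqm⟩, -⟩ := hI.unique p l₀ hn
        exact ⟨q, by simp [F, hql], ⟨fun e => hn (e ▸ hql), m, hqm, hpm⟩, hp⟩
      rw [e, Finset.card_biUnion, Finset.sum_const_nat (m := t * s), hFc]
      · intro q hq
        have hql : I q l₀ := by simpa [F] using hq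
        have e2 : N q ∩ F = F.erase q := by
          ext r
          simp only [Finset.mem_inter, hmemN, Finset.mem_erase, F, Finset.mem_filter,
            Finset.mem_univ, true_and]
          exact ⟨fun h => ⟨h.1.1.symm, h.2⟩, fun h => ⟨⟨h.1.symm, l₀, hql, h.2⟩, h.2⟩⟩
        have h2 := Finset.card_sdiff_add_card_inter (N q) F
        rw [e2, Finset.card_erase_of_mem hq, hFc, hdeg q] at h2
        simp only [add_tsub_cancel_right] at h2
        nlinarith
      · intro q hq r hr hqr
        refine Finset.disjoint_left.mpr fun p hp hp' => ?_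
        simp only [Finset.mem_sdiff, hmemN] at hp hp'
        apply hp.2
        simp only [F, Finset.mem_filter, Finset.mem_univ, true_and]
        exact mem_of_col_two hI (by simpa [F] using hq) (by simpa [F] using hr) hqr hp.1.symm
          hp'.1.symm
    have h3 := Finset.card_add_card_compl F
    rw [hFc, hdisj] at h3
    rw [← h3]
    ring
  -- two non-collinear points
  obtain ⟨p, p', hne, hnc⟩ : ∃ p p', p ≠ p' ∧ ¬ Col I p p' := by
    obtain ⟨p⟩ : Nonempty {q // I q l₀} := by
      have := hI.card_line l₀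
      exact (Nat.card_pos_iff.mp (by omega)).1
    by_contra hc
    push Not at hc
    have h1 : Finset.univ.erase p.1 ⊆ N p.1 := fun q hq =>
      hmemN.mpr (hc p.1 q (Ne.symm (Finset.mem_erase.mp hq).1))
    have h2 := Finset.card_le_card h1
    rw [Finset.card_erase_of_mem (Finset.mem_univ _), Finset.card_univ, hv, hdeg] at h2
    have h4 : (s + 1) * (s * t + 1) = s * s * t + s * t + s + 1 := by ring
    have h5 : (t + 1) * s = t * s + s := by ring
    have h6 : 0 < s * s * t := by positivity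
    have h7 : s * t = t * s := mul_comm _ _
    omega
  set T := N p ∩ N p' with hT
  have hTc : T.card = t + 1 := hnon p p' hne hnc
  have hTmem : ∀ {q}, q ∈ T → Col I p q ∧ Col I p' q := fun hq =>
    ⟨hmemN.mp (Finset.mem_inter.mp hq).1, hmemN.mp (Finset.mem_inter.mp hq).2⟩
  have hTnc : ∀ {q q'}, q ∈ T → q' ∈ T → ¬ Col I q q' := by
    rintro q q' hq hq' ⟨hqq', m, hqm, hq'm⟩
    exact hnc ⟨hne, m, mem_of_col_two hI hqm hq'm hqq' (hTmem hq).1 (hTmem hq').1,
      mem_of_col_two hI hqm hq'm hqq' (hTmem hq).2 (hTmem hq').2⟩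
  set Z := (Finset.univ \ (N p ∪ N p')) \ {p, p'} with hZ
  have hpN : ∀ r, r ∉ N r := fun r hr => (hmemN.mp hr).1 rfl
  have hp'p : p' ∉ N p := fun h => hnc (hmemN.mp h)
  have hpp' : p ∉ N p' := fun h => hnc (hmemN.mp h).symm
  have hsub : ({p, p'} : Finset P) ⊆ Finset.univ \ (N p ∪ N p') := by
    intro r hr
    simp only [Finset.mem_insert, Finset.mem_singleton] at hr
    rcases hr with rfl | rfl <;> simp [hpN, hp'p, hpp']
  have hZc : (Z.card : ℤ) = (s : ℤ) ^ 2 * t - s * t - s + t := by
    have h1 := Finset.card_sdiff_add_card_eq_card hsub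
    have h2 := Finset.card_sdiff_add_card_eq_card (Finset.subset_univ (N p ∪ N p'))
    have h3 := Finset.card_union_add_card_inter (N p) (N p')
    rw [← hT, hTc, hdeg, hdeg] at h3
    rw [← hZ, Finset.card_pair hne] at h1
    rw [Finset.card_univ, hv] at h2
    zify at h1 h2 h3
    linarith
  -- the line from `q` to `p` has `s - 1` further points collinear to both
  have hline : ∀ {q r : P}, Col I r q → (N q ∩ N r).card + 1 = s := by
    intro q r hrq
    obtain ⟨hne', m, hrm, hqm⟩ := hrq
    have e : N q ∩ N r = ((Finset.univ.filter fun w => I w m).erase r).erase q := by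
      ext w
      simp only [Finset.mem_inter, hmemN, Finset.mem_erase, Finset.mem_filter, Finset.mem_univ,
        true_and]
      constructor
      · rintro ⟨h1, h2⟩
        exact ⟨h1.1.symm, h2.1.symm, mem_of_col_two hI hqm hrm hne'.symm h1.symm h2.symm⟩
      · rintro ⟨h1, h2, h3⟩
        exact ⟨⟨h1.symm, m, hqm, h3⟩, ⟨h2.symm, m, hrm, h3⟩⟩
    have hr : r ∈ Finset.univ.filter fun w => I w m := by simp [hrm]
    rw [e, Finset.card_erase_of_mem (by simp [hqm, hne'.symm]), Finset.card_erase_of_mem hr,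
      ← Fintype.card_subtype, ← Nat.card_eq_fintype_card, hI.card_line m]
    omega
  set τ : P → ℕ := fun z => (T.filter fun q => Col I q z).card with hτ
  -- first moment
  have hsum1 : (∑ z ∈ Z, (τ z : ℤ)) = (t + 1) * ((t - 1) * s) := by
    have hswap : ∑ z ∈ Z, τ z = ∑ q ∈ T, (Z.filter fun z => Col I q z).card := by
      simp only [τ, Finset.card_filter]
      exact Finset.sum_comm
    have hone : ∀ q ∈ T, ((Z.filter fun z => Col I q z).card : ℤ) = (t - 1) * s := by
      intro q hq
      obtain ⟨hpq, hp'q⟩ := hTmem hq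
      have e : Z.filter (fun z => Col I q z) = (N q \ ((N q ∩ N p) ∪ (N q ∩ N p'))) \ {p, p'} := by
        ext z
        simp only [Z, Finset.mem_filter, Finset.mem_sdiff, Finset.mem_univ, true_and,
          Finset.mem_union, Finset.mem_inter, hmemN]
        tauto
      have hd : Disjoint (N q ∩ N p) (N q ∩ N p') := by
        refine Finset.disjoint_left.mpr fun r hr hr' => ?_
        have hrT : r ∈ T :=
          Finset.mem_inter.mpr ⟨(Finset.mem_inter.mp hr).2, (Finset.mem_inter.mp hr').2⟩
        exact hTnc hq hrT (hmemN.mp (Finset.mem_inter.mp hr).1)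
      have hs2 : ({p, p'} : Finset P) ⊆ N q \ ((N q ∩ N p) ∪ (N q ∩ N p')) := by
        intro r hr
        simp only [Finset.mem_insert, Finset.mem_singleton] at hr
        rcases hr with rfl | rfl <;>
          simp [hmemN.mpr hpq.symm, hmemN.mpr hp'q.symm, hpN, hp'p, hpp']
      have h1 := Finset.card_sdiff_add_card_eq_card hs2
      have h2 := Finset.card_sdiff_add_card_eq_card
        (Finset.union_subset Finset.inter_subset_left Finset.inter_subset_left :
          (N q ∩ N p) ∪ (N q ∩ N p') ⊆ N q)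
      rw [Finset.card_union_of_disjoint hd, hdeg] at h2
      rw [← e, Finset.card_pair hne] at h1
      have h3 := hline hpq
      have h4 := hline hp'q
      zify at h1 h2 h3 h4
      linarith
    have hcast : (∑ z ∈ Z, (τ z : ℤ)) = ((∑ z ∈ Z, τ z : ℕ) : ℤ) := by push_cast; rfl
    rw [hcast, hswap]
    push_cast
    rw [Finset.sum_congr rfl hone, Finset.sum_const, hTc]
    simp
  -- second moment
  have hsum2 : (∑ z ∈ Z, (τ z : ℤ) * ((τ z : ℤ) - 1)) = (t + 1) * t * (t - 1) := by
    have hterm : ∀ z, (τ z : ℤ) * ((τ z : ℤ) - 1) =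
        ((T.offDiag.filter fun r => Col I r.1 z ∧ Col I r.2 z).card : ℤ) := by
      intro z
      have e : T.offDiag.filter (fun r => Col I r.1 z ∧ Col I r.2 z) =
          (T.filter fun q => Col I q z).offDiag := by
        ext r
        simp only [Finset.mem_filter, Finset.mem_offDiag]
        tauto
      rw [e, Finset.offDiag_card, Nat.cast_sub (Nat.le_mul_self _)]
      simp only [τ]
      push_cast
      ring
    rw [Finset.sum_congr rfl fun z _ => hterm z]
    have hswap : ∑ z ∈ Z, (T.offDiag.filter fun r => Col I r.1 z ∧ Col I r.2 z).card =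
        ∑ r ∈ T.offDiag, (Z.filter fun z => Col I r.1 z ∧ Col I r.2 z).card := by
      simp only [Finset.card_filter]
      exact Finset.sum_comm
    have hone : ∀ r ∈ T.offDiag,
        ((Z.filter fun z => Col I r.1 z ∧ Col I r.2 z).card : ℤ) = t - 1 := by
      intro r hr
      obtain ⟨h1, h2, hr12⟩ := Finset.mem_offDiag.mp hr
      have hpr := hTmem h1
      have hpr' := hTmem h2
      have e : Z.filter (fun z => Col I r.1 z ∧ Col I r.2 z) = (N r.1 ∩ N r.2) \ {p, p'} := by
        ext z
        simp only [Z, Finset.mem_filter, Finset.mem_sdiff, Finset.mem_univ, true_and,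
          Finset.mem_union, Finset.mem_inter, hmemN, Finset.mem_insert, Finset.mem_singleton]
        constructor
        · tauto
        · rintro ⟨⟨hz1, hz2⟩, hz⟩
          refine ⟨⟨?_, hz⟩, hz1, hz2⟩
          have key : ∀ {w : P}, Col I w r.1 → Col I w r.2 → z ≠ w → ¬ Col I w z := by
            rintro w hw1 hw2 hzw ⟨hwz, m, hwm, hzm⟩
            exact hTnc h1 h2 ⟨hr12, m,
              mem_of_col_two hI hwm hzm hzw.symm hw1.symm hz1,
              mem_of_col_two hI hwm hzm hzw.symm hw2.symm hz2⟩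
          rintro (h | h)
          · exact key hpr.1 hpr'.1 (fun e => hz (Or.inl e)) h
          · exact key hpr.2 hpr'.2 (fun e => hz (Or.inr e)) h
      have hs2 : ({p, p'} : Finset P) ⊆ N r.1 ∩ N r.2 := by
        intro w hw
        simp only [Finset.mem_insert, Finset.mem_singleton] at hw
        rcases hw with rfl | rfl
        · exact Finset.mem_inter.mpr ⟨hmemN.mpr hpr.1.symm, hmemN.mpr hpr'.1.symm⟩
        · exact Finset.mem_inter.mpr ⟨hmemN.mpr hpr.2.symm, hmemN.mpr hpr'.2.symm⟩
      have h3 := Finset.card_sdiff_add_card_eq_card hs2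
      rw [← e, Finset.card_pair hne, hnon r.1 r.2 hr12 (hTnc h1 h2)] at h3
      zify at h3
      linarith
    have hcast : (∑ z ∈ Z, ((T.offDiag.filter fun r => Col I r.1 z ∧ Col I r.2 z).card : ℤ)) =
        ((∑ z ∈ Z, (T.offDiag.filter fun r => Col I r.1 z ∧ Col I r.2 z).card : ℕ) : ℤ) := by
      push_cast; rfl
    rw [hcast, hswap]
    push_cast
    rw [Finset.sum_congr rfl hone, Finset.sum_const, Finset.offDiag_card, hTc, nsmul_eq_mul,
      Nat.cast_sub (Nat.le_mul_self _)]
    push_cast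
    ring
  have hcs := sq_sum_le_card_mul_sum_sq (s := Z) (f := fun z => (τ z : ℤ))
  have hsq : (∑ z ∈ Z, (τ z : ℤ) ^ 2) = (t + 1) * t * (t - 1) + (t + 1) * ((t - 1) * s) := by
    rw [← hsum2, ← hsum1, ← Finset.sum_add_distrib]
    exact Finset.sum_congr rfl fun z _ => by ring
  rw [hsum1, hsq, hZc] at hcs
  by_contra hlt
  push Not at hlt
  have hs' : (2 : ℤ) ≤ s := by exact_mod_cast hs
  have ht' : (2 : ℤ) ≤ t := by exact_mod_cast ht
  have hlt' : (s : ℤ) ^ 2 < t := by exact_mod_cast hlt
  have key : 0 < ((t : ℤ) + 1) * (t - 1) * t * (s - 1) * (t - s ^ 2) := by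
    have h1 : 0 < (t : ℤ) - 1 := by linarith
    have h2 : 0 < (s : ℤ) - 1 := by linarith
    have h3 : 0 < (t : ℤ) - s ^ 2 := by linarith
    positivity
  nlinarith

/-- **Higman's inequality**, line form. -/
theorem le_sq_dual (ht : 2 ≤ t) [Nonempty P] : s ≤ t ^ 2 := le_sq (dual hI) ht

omit hI in
/-- The inequality for lines given as sets of points. -/
theorem le_sq_of_sets [Nonempty P] {S : Set (Set P)} (ht : 2 ≤ t)
    (hs : ∀ l ∈ S, Nat.card l = s + 1)
    (hp : ∀ p, Nat.card {l : Set P | l ∈ S ∧ p ∈ l} = t + 1)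
    (hmeet : ∀ l ∈ S, ∀ m ∈ S, l ≠ m → (l ∩ m).Subsingleton)
    (huniq : ∀ l ∈ S, ∀ p ∉ l, ∃! q, q ∈ l ∧ ∃ m ∈ S, p ∈ m ∧ q ∈ m) : s ≤ t ^ 2 := by
  refine le_sq_dual (P := P) (L := S) (I := fun p l => p ∈ (l : Set P)) ⟨fun l => hs l l.2,
    fun p => ?_, fun p q l m h1 h2 h3 h4 => ?_, fun p l hn => ?_⟩ ht
  · rw [← hp p]
    exact Nat.card_congr ⟨fun l => ⟨l.1.1, l.1.2, l.2⟩, fun l => ⟨⟨l.1, l.2.1⟩, l.2.2⟩,
      fun _ => rfl, fun _ => rfl⟩
  · by_cases hlm : l = m
    · exact Or.inr hlm
    · exact Or.inl (hmeet l l.2 m m.2 (fun e => hlm (Subtype.ext e)) ⟨h1, h3⟩ ⟨h2, h4⟩)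
  · obtain ⟨q, ⟨hql, m, hm, hpm, hqm⟩, hu⟩ := huniq l l.2 p hn
    exact ⟨q, ⟨hql, ⟨m, hm⟩, hpm, hqm⟩,
      fun q' ⟨hq', m', hpm', hqm'⟩ => hu q' ⟨hq', m'.1, m'.2, hpm', hqm'⟩⟩

end Cfsg.Agent.H6.Asch.Quadrangle
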