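import Cfsg.Agent.H1.Asch.Fusion

/-!
The transfer kill of the rank theorem (notes/helper30_asch_rank_v2.md, section 4, `k = 0`): if a
two-group centralising `u` fixes only the trivial coset of a subgroup `N` of the stabiliser of `x`,
a homomorphism of `N` separates `u` from the commutator subgroup of the whole group. More generally
the two-group may move `u` within a coset of a normalised subgroup `Z` of the kernel (translations).
-/

set_option autoImplicit false
set_option linter.style.haveILetI false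

namespace Cfsg.Agent.H6.Asch

open Subgroup MulAction
open Cfsg.Agent.H39

universe u v

variable {G : Type u} [Group G] [Finite G]

/-- The transfer at an involution moved only modulo `Z` by a two-group fixing only the trivial
coset, for values in a group of exponent two; `Z` is normal and in the kernel. -/
theorem transfer_of_unique_fixed {A : Type*} [CommGroup A] (hA : ∀ a : A, a * a = 1) {N : Subgroup G}
    (φ : N →* A) {u : G} (hu : u * u = 1) (huN : u ∈ N) {Z : Subgroup G}
    (hZn : ∀ g : G, ∀ z ∈ Z, g⁻¹ * z * g ∈ Z) (hZN : Z ≤ N)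
    (hZφ : ∀ z (hz : z ∈ Z), φ ⟨z, hZN hz⟩ = 1) {P : Subgroup G} (hP : IsPGroup 2 P)
    (hPu : ∀ p ∈ P, p⁻¹ * u * p * u⁻¹ ∈ Z) (hPN : P ≤ N)
    (huniq : ∀ g : G, (∀ p ∈ P, g⁻¹ * p * g ∈ N) → g ∈ N) :
    MonoidHom.transfer φ u = φ ⟨u, huN⟩ := by
  classical
  haveI : Fact (Nat.Prime 2) := ⟨Nat.prime_two⟩
  haveI : Fintype (G ⧸ N) := Fintype.ofFinite _
  haveI : Fintype (Quotient (orbitRel (zpowers u) (G ⧸ N))) := Fintype.ofFinite _
  have hmem : ∀ {g : G}, u • (g : G ⧸ N) = (g : G ⧸ N) → g⁻¹ * u * g ∈ N := fun {g} hg => by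
    have h1 : g⁻¹ * (u * g) ∈ N := QuotientGroup.eq.mp hg.symm
    rwa [← mul_assoc] at h1
  let f : G ⧸ N → A := fun q =>
    if hq : u • q = q then φ ⟨q.out⁻¹ * u * q.out, hmem (by rwa [QuotientGroup.out_eq'])⟩ else 1
  -- the value is independent of the representative
  have hrep : ∀ (g : G) (hg : u • (g : G ⧸ N) = g), f g = φ ⟨g⁻¹ * u * g, hmem hg⟩ := by
    intro g hg
    simp only [f, dif_pos hg]
    set o := (g : G ⧸ N).out with ho
    have hn : g⁻¹ * o ∈ N := QuotientGroup.eq.mp (QuotientGroup.out_eq' (g : G ⧸ N)).symm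
    set n : N := ⟨g⁻¹ * o, hn⟩
    have e : (⟨o⁻¹ * u * o, hmem (by rw [QuotientGroup.out_eq']; exact hg)⟩ : N) =
        n⁻¹ * ⟨g⁻¹ * u * g, hmem hg⟩ * n := Subtype.ext (by
      show o⁻¹ * u * o = (g⁻¹ * o)⁻¹ * (g⁻¹ * u * g) * (g⁻¹ * o)
      group)
    rw [e, map_mul, map_mul, map_inv, mul_comm (φ n)⁻¹, inv_mul_cancel_right]
  have hfix : ∀ q : G ⧸ N, u • q ≠ q → f q = 1 := fun q hq => dif_neg hq
  -- the transfer is the product of the values
  have hprod : MonoidHom.transfer φ u = ∏ q : G ⧸ N, f q := by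
    rw [MonoidHom.transfer_eq_prod_quotient_orbitRel_zpowers_quot,
      ← Finset.prod_fiberwise Finset.univ (fun q : G ⧸ N => Quotient.mk (orbitRel (zpowers u) _) q) f]
    refine Finset.prod_congr rfl fun Q _ => ?_
    set o := Q.out with ho
    have hQ : Quotient.mk (orbitRel (zpowers u) (G ⧸ N)) o = Q := Quotient.out_eq Q
    have horb : ∀ q : G ⧸ N, Quotient.mk (orbitRel (zpowers u) (G ⧸ N)) q = Q →
        q = o ∨ q = u • o := by
      intro q hq
      rw [← hQ] at hq
      obtain ⟨⟨c, i, rfl⟩, hc⟩ := Quotient.exact hq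
      change u ^ i • o = q at hc
      rcases Int.even_or_odd i with ⟨j, rfl⟩ | ⟨j, rfl⟩
      · left
        rw [← hc, zpow_add, ← (Commute.refl u).mul_zpow, hu, one_zpow, one_smul]
      · right
        rw [← hc, zpow_add_one, zpow_mul, zpow_two, hu, one_zpow, one_mul]
    by_cases hfo : u • o = o
    · have h1 : Function.minimalPeriod (u • ·) o = 1 :=
        Function.minimalPeriod_eq_one_iff_isFixedPt.mpr hfo
      rw [Finset.prod_eq_single o (fun q hq hne => by
          rcases horb q (Finset.mem_filter.mp hq).2 with rfl | rfl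
          · exact absurd rfl hne
          · exact absurd hfo hne)
        (fun h => (h (Finset.mem_filter.mpr ⟨Finset.mem_univ _, hQ⟩)).elim)]
      simp only [f, dif_pos hfo]
      refine congrArg φ (Subtype.ext ?_)
      show o.out⁻¹ * u ^ Function.minimalPeriod (u • ·) o * o.out = _
      rw [h1, pow_one]
    · have h2 : Function.IsPeriodicPt (u • ·) 2 o := by
        show u • u • o = o
        rw [← mul_smul, hu, one_smul]
      have h3 : Function.minimalPeriod (u • ·) o = 2 := by
        rcases (Nat.dvd_prime Nat.prime_two).mp h2.minimalPeriod_dvd with e | e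
        · exact absurd (Function.minimalPeriod_eq_one_iff_isFixedPt.mp e) hfo
        · exact e
      rw [Finset.prod_eq_one fun q hq => hfix q (by
        rcases horb q (Finset.mem_filter.mp hq).2 with rfl | rfl
        · exact hfo
        · exact fun e => hfo (MulAction.injective u e))]
      refine (congrArg φ (Subtype.ext ?_)).trans (map_one φ)
      show o.out⁻¹ * u ^ Function.minimalPeriod (u • ·) o * o.out = 1
      rw [h3, pow_two, hu, mul_one, inv_mul_cancel]
  -- the two-group preserves the values and fixes only the trivial coset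
  have hone' : ∀ {g : G}, u • (g : G ⧸ N) = g ↔ g⁻¹ * u * g ∈ N := fun {g} =>
    ⟨hmem, fun hg => (QuotientGroup.eq.mpr (show g⁻¹ * (u * g) ∈ N by rwa [← mul_assoc])).symm⟩
  have hinv : ∀ (p : P) (q : G ⧸ N), f (p • q) = f q := by
    rintro ⟨p, hp⟩ q
    induction q using QuotientGroup.induction_on with
    | _ g =>
      show f ((p * g : G) : G ⧸ N) = f g
      have hz : g⁻¹ * (p⁻¹ * u * p * u⁻¹) * g ∈ Z := hZn g _ (hPu p hp)
      have e : (p * g)⁻¹ * u * (p * g) =
          g⁻¹ * (p⁻¹ * u * p * u⁻¹) * g * (g⁻¹ * u * g) := by group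
      by_cases hg : u • (g : G ⧸ N) = g
      · have hg' : u • ((p * g : G) : G ⧸ N) = ((p * g : G) : G ⧸ N) :=
          hone'.mpr (e ▸ N.mul_mem (hZN hz) (hmem hg))
        rw [hrep g hg, hrep _ hg']
        rw [show (⟨(p * g)⁻¹ * u * (p * g), hmem hg'⟩ : N) = ⟨_, hZN hz⟩ * ⟨g⁻¹ * u * g, hmem hg⟩
          from Subtype.ext e, map_mul, hZφ _ hz, one_mul]
      · rw [hfix _ hg, hfix]
        intro h'
        refine hg (hone'.mpr ?_)
        have h1 := N.mul_mem (N.inv_mem (hZN hz)) (hone'.mp h')
        rwa [e, inv_mul_cancel_left] at h1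
  have hone : u • ((1 : G) : G ⧸ N) = ((1 : G) : G ⧸ N) :=
    QuotientGroup.eq.mpr (by simpa [smul_eq_mul] using huN)
  have hval : f ((1 : G) : G ⧸ N) = φ ⟨u, huN⟩ := by
    rw [hrep 1 hone]
    exact congrArg φ (Subtype.ext (by simp))
  rw [hprod, ← hval, ← Finset.prod_fiberwise_of_maps_to (t := Finset.univ.image f) (g := f)
    (fun q _ => Finset.mem_image_of_mem f (Finset.mem_univ q)) f]
  set x₀ : G ⧸ N := ((1 : G) : G ⧸ N) with hx₀
  rw [Finset.prod_eq_single (f x₀)]
  · -- the fibre of the value at the trivial coset is odd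
    rw [Finset.prod_congr rfl fun q hq => (Finset.mem_filter.mp hq).2, Finset.prod_const]
    let Y : SubMulAction P (G ⧸ N) :=
      { carrier := {q | f q = f x₀}
        smul_mem' := fun p {q} hq => (hinv p q).trans hq }
    have hY := hP.card_modEq_card_fixedPoints Y
    have hfp : Nat.card (fixedPoints P Y) = 1 := by
      have hx : ∀ p : P, p • x₀ = x₀ := fun p =>
        QuotientGroup.eq.mpr (by simpa [smul_eq_mul] using inv_mem (hPN p.2))
      refine Nat.card_eq_one_iff_exists.mpr
        ⟨⟨⟨x₀, rfl⟩, fun p => Subtype.ext (hx p)⟩, fun ⟨⟨q, hq⟩, hqf⟩ => ?_⟩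
      refine Subtype.ext (Subtype.ext ?_)
      show q = x₀
      induction q using QuotientGroup.induction_on with
      | _ g =>
        refine QuotientGroup.eq.mpr ?_
        rw [mul_one]
        refine inv_mem (huniq g fun p hp => ?_)
        have h1 : (⟨p, hp⟩ : P) • (g : G ⧸ N) = (g : G ⧸ N) := congrArg Subtype.val (hqf ⟨p, hp⟩)
        have h2 : g⁻¹ * (p * g) ∈ N := QuotientGroup.eq.mp h1.symm
        rwa [← mul_assoc] at h2
    rw [hfp] at hY
    have hc : (Finset.univ.filter fun q => f q = f x₀).card = Nat.card Y := by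
      rw [← Fintype.card_subtype, ← Nat.card_eq_fintype_card]
      rfl
    rw [hc]
    obtain ⟨j, hj⟩ : Odd (Nat.card Y) := by
      rw [Nat.odd_iff]
      exact hY
    rw [hj, pow_succ, pow_mul, pow_two, hA, one_pow, one_mul]
  · intro a _ ha
    rw [Finset.prod_congr rfl fun q hq => (Finset.mem_filter.mp hq).2, Finset.prod_const]
    let Y : SubMulAction P (G ⧸ N) :=
      { carrier := {q | f q = a}
        smul_mem' := fun p {q} hq => (hinv p q).trans hq }
    have hY := hP.card_modEq_card_fixedPoints Y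
    have hfp : Nat.card (fixedPoints P Y) = 0 := by
      haveI : IsEmpty (fixedPoints P Y) := by
        refine ⟨fun ⟨⟨q, hq⟩, hqf⟩ => ha ?_⟩
        have : q = x₀ := by
          induction q using QuotientGroup.induction_on with
          | _ g =>
            refine QuotientGroup.eq.mpr ?_
            rw [mul_one]
            refine inv_mem (huniq g fun p hp => ?_)
            have h1 : (⟨p, hp⟩ : P) • (g : G ⧸ N) = (g : G ⧸ N) :=
              congrArg Subtype.val (hqf ⟨p, hp⟩)
            have h2 : g⁻¹ * (p * g) ∈ N := QuotientGroup.eq.mp h1.symm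
            rwa [← mul_assoc] at h2
        rw [← this]
        exact hq.symm
      exact Nat.card_of_isEmpty
    rw [hfp] at hY
    have hc : (Finset.univ.filter fun q => f q = a).card = Nat.card Y := by
      rw [← Fintype.card_subtype, ← Nat.card_eq_fintype_card]
      rfl
    rw [hc]
    obtain ⟨j, hj⟩ : Even (Nat.card Y) := by
      rw [Nat.even_iff]
      exact hY
    rw [hj, ← two_mul, pow_mul, pow_two, hA, one_pow]
  · intro h
    exact absurd (Finset.mem_image_of_mem f (Finset.mem_univ _)) h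

variable {Ω : Type v} [MulAction G Ω] [Finite Ω] {D : Set G}

open Cfsg.Agent.H14.Asch (Crit) in
/-- **The kill**: a homomorphism of a subgroup `N` of the stabiliser of `x`, a two-group
centralising `u` with only the trivial fixed coset. -/
theorem not_mem_commutator_of_unique_fixed (h : Crit G Ω D) {u : G} (hu : orderOf u = 2) {x : Ω}
    (hux : u • x = x) {A : Type*} [CommGroup A] (hA : ∀ a : A, a * a = 1) {N : Subgroup G}
    (hN : N ≤ stabilizer G x) (φ : N →* A) (huN : u ∈ N) (hu1 : φ ⟨u, huN⟩ ≠ 1)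
    {Z : Subgroup G} (hZn : ∀ g ∈ stabilizer G x, ∀ z ∈ Z, g⁻¹ * z * g ∈ Z) (hZN : Z ≤ N)
    (hZφ : ∀ z (hz : z ∈ Z), φ ⟨z, hZN hz⟩ = 1)
    {P : Subgroup G} (hP : IsPGroup 2 P) (hPu : ∀ p ∈ P, p⁻¹ * u * p * u⁻¹ ∈ Z) (hPN : P ≤ N)
    (huniq : ∀ g ∈ stabilizer G x, (∀ p ∈ P, g⁻¹ * p * g ∈ N) → g ∈ N) :
    u ∉ commutator G := by
  haveI := h.trans
  set H := stabilizer G x with hH
  have hPH : P ≤ H := hPN.trans hN
  set φ' : N.subgroupOf H →* A := φ.comp (subgroupOfEquivOfLe hN).toMonoidHom with hφ'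
  have hu2 := mul_self_of_orderOf_eq_two hu
  set uH : H := ⟨u, hN huN⟩ with huH
  have hval : MonoidHom.transfer φ' uH = φ ⟨u, huN⟩ :=
    transfer_of_unique_fixed hA φ' (u := uH) (Subtype.ext hu2) (mem_subgroupOf.mpr huN)
      (Z := Z.subgroupOf H)
      (fun g z hz => mem_subgroupOf.mpr (hZn g g.2 z (mem_subgroupOf.mp hz)))
      (fun z hz => mem_subgroupOf.mpr (hZN (mem_subgroupOf.mp hz)))
      (fun z hz => hZφ z (mem_subgroupOf.mp hz))
      (P := P.subgroupOf H) hP.comap_subtype
      (fun p hp => mem_subgroupOf.mpr (hPu p (mem_subgroupOf.mp hp)))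
      (fun p hp => mem_subgroupOf.mpr (hPN (mem_subgroupOf.mp hp)))
      (fun g hg => mem_subgroupOf.mpr (huniq g g.2 fun p hp =>
        mem_subgroupOf.mp (hg ⟨p, hPH hp⟩ (mem_subgroupOf.mpr hp))))
  refine H1.Asch.not_mem_commutator_of_map_conj (MonoidHom.transfer φ') ?_ (hN huN) hu2
    (fun e => hu1 (hval.symm.trans e))
    (H1.Asch.map_conj_eq_of_centralizer_transitive _ hux
      fun q hq => H1.Asch.exists_commute_smul h hu hux hq)
  rw [hH, MulAction.index_stabilizer_of_transitive]
  exact H1.Asch.odd_card_points h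

end Cfsg.Agent.H6.Asch
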