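import Cfsg.Agent.H6.Asch.ResidueLayers
import Cfsg.Agent.H39.Basic
import Cfsg.Agent.PGroups.Basic

/-!
The residue for a line of shape two in several layers with `Q` in the second centre: the centraliser
`L` of the second centre in `⁅R, A⁆` is abelian, its `2^m`-th powers give `L / Φ ≅ E` for an `m ≥ 2`,
an involution of `classGroup` moving `E` centralises an element of order at least eight, and the
classes of `u` generate `R`.
-/

set_option autoImplicit false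
set_option linter.style.haveILetI false
set_option linter.unusedSectionVars false

namespace Cfsg.Agent.H6.Asch

open Subgroup MulAction
open Cfsg.Agent.H14.Asch
open Cfsg.Agent.H26.Asch (classGroup ClassData ClassResidue)
open Cfsg.Agent.H51.Asch (nxt nxt_le norm_nxt sq_mem_nxt comm_mem_nxt inf_norm)
open scoped commutatorElement

universe u v

variable {G : Type u} [Group G] [Finite G]

/-- A subgroup supplementing the Frattini part of a 2-group is the whole group. -/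
theorem le_of_le_sup_nxt {R S : Subgroup G} (hR : IsPGroup 2 R) (hSR : S ≤ R)
    (h : R ≤ S ⊔ nxt R R) : R ≤ S := by
  haveI : Fact (Nat.Prime 2) := ⟨Nat.prime_two⟩
  rcases eq_top_or_exists_le_coatom (S.subgroupOf R) with e | ⟨M, hM, hSM⟩
  · exact subgroupOf_eq_top.mp e
  exfalso
  have h2 := PGroups.index_eq_of_isCoatom hR hM
  refine hM.1 (eq_top_iff.mpr fun r _ => ?_)
  have hΦ : nxt R R ≤ M.map R.subtype := by
    refine sup_le (Subgroup.commutator_le.mpr fun a ha b hb => ?_) ((closure_le _).mpr ?_)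
    · have e : ⁅a, b⁆ = a * a * (a⁻¹ * b * (a⁻¹ * b)) * (b⁻¹ * b⁻¹) := by
        rw [commutatorElement_def]; group
      rw [e]
      exact mul_mem (mul_mem ⟨_, mul_self_mem_of_index_two h2 ⟨a, ha⟩, rfl⟩
        ⟨_, mul_self_mem_of_index_two h2 ⟨a⁻¹ * b, R.mul_mem (R.inv_mem ha) hb⟩, rfl⟩)
        ⟨_, mul_self_mem_of_index_two h2 ⟨b⁻¹, R.inv_mem hb⟩, rfl⟩
    · rintro _ ⟨a, ha, rfl⟩
      exact ⟨_, mul_self_mem_of_index_two h2 ⟨a, ha⟩, rfl⟩
  obtain ⟨m, hm, hmr⟩ := (sup_le (fun s hs => ⟨⟨s, hSR hs⟩, hSM hs, rfl⟩) hΦ :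
    S ⊔ nxt R R ≤ M.map R.subtype) (h r.2)
  rwa [← Subtype.ext hmr]

variable {Ω : Type v} [MulAction G Ω]
  {u : G} {x : Ω} {E Q R N A : Subgroup G} (h : ClassResidue u x E R ⁅R, A⁆ N A)
  (hd : ShapeData R Q E A u) (hs : Squaring Q E) (hQE : ¬ Q ≤ E) (hmulti : u ∉ hd.zTwo)
  (hQX : Q ≤ hd.zTwo)
include h hd hs hQE hmulti hQX

/-- An element of `Q` centralising the second centre lies in `E`. -/
theorem layers_cent_mem {q : G} (hq : q ∈ Q) (hc : q ∈ centralizer (hd.zTwo : Set G)) : q ∈ E := by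
  by_contra hqE
  obtain ⟨k, hk, -, -, hqk, -, -⟩ := hs.rank q hq hqE
  exact hqk (commutatorElement_eq_one_iff_mul_comm.mpr
    (mem_centralizer_iff.mp hc k (hQX hk)).symm)

/-- The Frattini part lies in `L`. -/
theorem layers_nxt_le_L : nxt R R ≤ ⁅R, A⁆ ⊓ centralizer (hd.zTwo : Set G) :=
  le_inf hd.nxt_le_commutator fun _ hy => mem_centralizer_iff.mpr fun _ hz =>
    (hd.commute_nxt hz hy).eq.symm

/-- `L` meets `Φ Q` in `Φ`. -/
theorem layers_L_inf {l : G} (hl : l ∈ ⁅R, A⁆ ⊓ centralizer (hd.zTwo : Set G))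
    (hlW : l ∈ nxt R R ⊔ Q) : l ∈ nxt R R := by
  rw [sup_comm] at hlW
  obtain ⟨q, hq, y, hy, rfl⟩ :=
    (Coprime.mem_sup_iff ((nxt_le le_normalizer).trans (hd.M_le_normalizer_Q hQX))).mp hlW
  have hy' := (mem_inf.mp (layers_nxt_le_L h hd hs hQE hmulti hQX hy)).2
  have hqc : q ∈ centralizer (hd.zTwo : Set G) := by
    have := mul_mem (mem_inf.mp hl).2 (inv_mem hy')
    rwa [mul_inv_cancel_right] at this
  exact mul_mem (H72.Asch.E_le_nxt hd hQE (layers_cent_mem h hd hs hQE hmulti hQX hq hqc)) hy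

/-- A subgroup of `⁅R, A⁆` meeting `Φ Q` in `Φ` has at most `|E| |Φ|` elements. -/
theorem layers_card_le {S : Subgroup G} (hSK : S ≤ ⁅R, A⁆) (hΦS : nxt R R ≤ S)
    (hSW : ∀ s ∈ S, s ∈ nxt R R ⊔ Q → s ∈ nxt R R) :
    Nat.card S ≤ Nat.card E * Nat.card (nxt R R : Subgroup G) := by
  set W : Subgroup G := nxt R R ⊔ Q with hW
  have hWK : W ≤ ⁅R, A⁆ := sup_le hd.nxt_le_commutator hd.Q_le_commutator
  have h1 : Nat.card (⁅R, A⁆ : Subgroup G) ≤ Nat.card E * Nat.card W :=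
    (H72.Asch.layers_of_le hd hs hQE hmulti (hQX := hQX)).1.trans (Nat.mul_le_mul_left _
      (card_le_of_le (sup_le le_sup_left
        (H72.Asch.zTwo_le_of_Q_le hd hs hQE hmulti (hQX := hQX)))))
  have h2 : Nat.card W * W.relIndex ⁅R, A⁆ = Nat.card (⁅R, A⁆ : Subgroup G) := by
    have := (W.subgroupOf ⁅R, A⁆).card_mul_index
    rwa [Nat.card_congr (subgroupOfEquivOfLe hWK).toEquiv] at this
  have h3 : Nat.card (nxt R R : Subgroup G) * (nxt R R).relIndex S = Nat.card S := by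
    have := ((nxt R R).subgroupOf S).card_mul_index
    rwa [Nat.card_congr (subgroupOfEquivOfLe hΦS).toEquiv] at this
  have h4 : (nxt R R).relIndex S = W.relIndex S := by
    rw [← inf_relIndex_right (H := W)]
    congr 1
    exact le_antisymm (le_inf le_sup_left hΦS) fun s hs' =>
      hSW s (mem_inf.mp hs').2 (mem_inf.mp hs').1
  have h5 : W.relIndex S ≤ W.relIndex ⁅R, A⁆ := relIndex_le_of_le_right hSK fun e => by
    rw [e, mul_zero] at h2
    exact Nat.card_pos.ne h2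
  have h6 : W.relIndex ⁅R, A⁆ ≤ Nat.card E :=
    Nat.le_of_mul_le_mul_left
      (show Nat.card W * W.relIndex ⁅R, A⁆ ≤ Nat.card W * Nat.card E by
        rw [h2]; exact h1.trans_eq (mul_comm _ _))
      Nat.card_pos
  rw [← h3, h4, mul_comm (Nat.card E)]
  exact Nat.mul_le_mul_left _ (h5.trans h6)

/-- `A` is transitive on the cosets of `Φ` in such a subgroup. -/
theorem layers_trans {S : Subgroup G} (hSK : S ≤ ⁅R, A⁆) (hΦS : nxt R R ≤ S)
    (hAS : A ≤ normalizer (S : Set G)) (hSW : ∀ s ∈ S, s ∈ nxt R R ⊔ Q → s ∈ nxt R R)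
    {g : G} (hg : g ∈ S) (hgΦ : g ∉ nxt R R) {y : G} (hy : y ∈ S) (hyΦ : y ∉ nxt R R) :
    ∃ a ∈ A, (a * g * a⁻¹)⁻¹ * y ∈ nxt R R :=
  (H72.Asch.card_mul_le_section hd hΦS (hSK.trans hd.commutator_le)
    (norm_nxt hd.normM hd.normM) hAS
    (fun hu => hd.u_notMem_commutator (Or.inl hs) (hSK hu)) hg hgΦ).2
    (layers_card_le h hd hs hQE hmulti hQX hSK hΦS hSW) y hy hyΦ

/-- Some element of `L` has its square outside `E`. -/
theorem layers_exists_sq : ∃ l ∈ ⁅R, A⁆ ⊓ centralizer (hd.zTwo : Set G), l * l ∉ E := by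
  by_contra hc
  push Not at hc
  refine (H72.Asch.layers_of_le hd hs hQE hmulti (hQX := hQX)).2.1 fun k hk => ?_
  obtain ⟨q, hq, l, hl, rfl⟩ := layers_split h hd hs hQE hmulti hQX hk
  exact mul_mem (mem_sup_right (hQX hq)) (sup_le_sup_left hQX _
    (layers_mem_of_sq h hd hs hQE hmulti hQX (mem_inf.mp hl).1 (hc l hl)))

/-- The top power map of `L`. -/
theorem layers_exists_top : ∃ m : ℕ, 2 ≤ m ∧
    (∀ l ∈ ⁅R, A⁆ ⊓ centralizer (hd.zTwo : Set G), l ^ 2 ^ m ∈ E) ∧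
    (∀ e ∈ E, ∃ l ∈ ⁅R, A⁆ ⊓ centralizer (hd.zTwo : Set G), l ^ 2 ^ m = e) ∧
    (∀ a ∈ ⁅R, A⁆ ⊓ centralizer (hd.zTwo : Set G),
      ∀ b ∈ ⁅R, A⁆ ⊓ centralizer (hd.zTwo : Set G),
        (a * b) ^ 2 ^ m = a ^ 2 ^ m * b ^ 2 ^ m) ∧
    ∀ a ∈ ⁅R, A⁆ ⊓ centralizer (hd.zTwo : Set G),
      ∀ b ∈ ⁅R, A⁆ ⊓ centralizer (hd.zTwo : Set G),
        a ^ 2 ^ m = b ^ 2 ^ m → a⁻¹ * b ∈ nxt R R := by
  classical
  set L := ⁅R, A⁆ ⊓ centralizer (hd.zTwo : Set G) with hL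
  have hLK : L ≤ ⁅R, A⁆ := inf_le_left
  have hLR : ∀ {l}, l ∈ L → l ∈ R := fun hl => hd.commutator_le (hLK hl)
  have hEΦ : E ≤ nxt R R := H72.Asch.E_le_nxt hd hQE
  haveI : Fact (Nat.Prime 2) := ⟨Nat.prime_two⟩
  obtain ⟨k, hk⟩ := hd.two.exists_card_eq
  have hex : ∃ n, ∀ l ∈ L, l ^ 2 ^ n = 1 := ⟨k, fun l hl => by
    rw [← hk]
    exact congrArg Subtype.val (pow_card_eq_one' (x := (⟨l, hLR hl⟩ : R)))⟩
  obtain ⟨l₁, hl₁, hl₁E⟩ := layers_exists_sq h hd hs hQE hmulti hQX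
  obtain ⟨m, hnm⟩ : ∃ m, Nat.find hex = m + 3 := by
    refine ⟨Nat.find hex - 3, ?_⟩
    have : 3 ≤ Nat.find hex := by
      by_contra hlt
      have h1 := Nat.find_spec hex l₁ hl₁
      obtain ⟨j, hj⟩ := pow_dvd_pow 2 (show Nat.find hex ≤ 2 by omega)
      have h4 : l₁ ^ 4 = 1 := by
        rw [show (4 : ℕ) = 2 ^ 2 from rfl, hj, pow_mul, h1, one_pow]
      refine hl₁E (layers_omega h hd hs hQE hmulti hQX (sq_mem_nxt (hLR hl₁)) ?_)
      rw [← h4]; simp [pow_succ, mul_assoc]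
    omega
  have hspec : ∀ l ∈ L, l ^ 2 ^ (m + 2 + 1) = 1 := hnm ▸ Nat.find_spec hex
  obtain ⟨l₀, hl₀, hl₀1⟩ : ∃ l ∈ L, l ^ 2 ^ (m + 2) ≠ 1 := by
    by_contra hc
    push Not at hc
    exact Nat.find_min hex (show m + 2 < Nat.find hex by omega) hc
  have hpow : ∀ (g : G) (j : ℕ), g ^ 2 ^ (j + 1) = (g * g) ^ 2 ^ j := fun g j => by
    rw [← pow_two, ← pow_mul, pow_succ']
  have hmem : ∀ l ∈ L, l ^ 2 ^ (m + 2) ∈ E := fun l hl => by
    refine layers_omega h hd hs hQE hmulti hQX ?_ ?_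
    · rw [hpow]; exact pow_mem (sq_mem_nxt (hLR hl)) _
    · rw [← pow_two, ← pow_mul, ← pow_succ]; exact hspec l hl
  have hE1 : ∀ e ∈ E, ∀ j, e ^ 2 ^ (j + 1) = 1 := fun e he j => by
    rw [hpow, hd.sq e he, one_pow]
  have hcom : ∀ {a b}, a ∈ nxt R R → b ∈ nxt R R → Commute a b :=
    fun ha hb => layers_nxt_comm h hd hs hQE hmulti hQX ha hb
  have hmul : ∀ a ∈ L, ∀ b ∈ L, (a * b) ^ 2 ^ (m + 2) = a ^ 2 ^ (m + 2) * b ^ 2 ^ (m + 2) := by
    intro a ha b hb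
    have he := layers_comm_mem h hd hs hQE hmulti hQX (hLK hb) (hLK ha)
    have e : a * b * (a * b) = ⁅b, a⁆ * (a * a * (b * b)) := by
      calc a * b * (a * b) = a * (b * a) * b := by group
        _ = a * (⁅b, a⁆ * (a * b)) * b := by rw [commutatorElement_def]; group
        _ = _ := by rw [← mul_assoc a ⁅b, a⁆, ← (hd.central _ he a (hLR ha)).eq]; group
    have haa := sq_mem_nxt (R := R) (hLR ha)
    have hbb := sq_mem_nxt (R := R) (hLR hb)
    rw [hpow, hpow a, hpow b, e, (hcom (hEΦ he) (mul_mem haa hbb)).mul_pow,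
      (hcom haa hbb).mul_pow, hE1 _ he, one_mul]
  have hΦ1 : ∀ y ∈ nxt R R, y ^ 2 ^ (m + 2) = 1 := by
    let S : Subgroup G :=
      { carrier := {y | y ∈ nxt R R ∧ y ^ 2 ^ (m + 2) = 1}
        one_mem' := ⟨one_mem _, one_pow _⟩
        mul_mem' := fun {a b} ha hb => ⟨mul_mem ha.1 hb.1, by
          rw [(hcom ha.1 hb.1).mul_pow, ha.2, hb.2, one_mul]⟩
        inv_mem' := fun {a} ha => ⟨inv_mem ha.1, by rw [inv_pow, ha.2, inv_one]⟩ }
    intro y hy
    refine (hd.nxt_le_of_sq (S := S) (fun r hr => ⟨sq_mem_nxt hr, ?_⟩) hy).2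
    rcases hd.mem_or_mul_mem hr with hr' | hr'
    · obtain ⟨q, hq, l, hl, rfl⟩ := layers_split h hd hs hQE hmulti hQX hr'
      have hc : Commute q l := (mem_centralizer_iff.mp (mem_inf.mp hl).2 q (hQX hq))
      rw [hc.symm.mul_mul_mul_comm,
        (hcom (sq_mem_nxt (hd.le hq)) (sq_mem_nxt (hLR hl))).mul_pow,
        hE1 _ (hd.sq_mem q hq), one_mul, ← pow_two, ← pow_mul, ← pow_succ']
      exact hspec l hl
    · have h1 := layers_twist h hd hs hQE hmulti hQX hr'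
      rw [mul_assoc r u u, hd.sq_u, mul_one] at h1
      exact hE1 _ h1 _
  have hAL : A ≤ normalizer (L : Set G) :=
    inf_norm hd.normA_commutator hd.inf_centralizer_zTwo_normA
  refine ⟨m + 2, by omega, hmem, fun e he => ?_, hmul, fun a ha b hb hab => ?_⟩
  · by_cases he1 : e = 1
    · exact ⟨1, one_mem _, by rw [one_pow, he1]⟩
    obtain ⟨a, ha, hae⟩ := hd.trans _ (hmem l₀ hl₀) hl₀1 e he he1
    exact ⟨a * l₀ * a⁻¹, (mem_normalizer_iff.mp (hAL ha) l₀).mp hl₀, by rw [conj_pow, hae]⟩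
  · have hl : a⁻¹ * b ∈ L := mul_mem (inv_mem ha) hb
    have hl1 : (a⁻¹ * b) ^ 2 ^ (m + 2) = 1 := by
      rw [hmul _ (inv_mem ha) _ hb, inv_pow, hab, inv_mul_cancel]
    by_contra hlΦ
    obtain ⟨c, hc, hcl⟩ := layers_trans h hd hs hQE hmulti hQX hLK
      (layers_nxt_le_L h hd hs hQE hmulti hQX) hAL
      (fun s hs' => layers_L_inf h hd hs hQE hmulti hQX hs') hl hlΦ hl₀
      (fun hΦ => hl₀1 (hΦ1 _ hΦ))
    set y := (c * (a⁻¹ * b) * c⁻¹)⁻¹ * l₀ with hy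
    have e : l₀ = c * (a⁻¹ * b) * c⁻¹ * y := by rw [hy, mul_inv_cancel_left]
    refine hl₀1 ?_
    rw [e, hmul _ ((mem_normalizer_iff.mp (hAL hc) _).mp hl) _
      (layers_nxt_le_L h hd hs hQE hmulti hQX hcl), conj_pow, hl1, hΦ1 y hcl, mul_one, mul_one,
      mul_inv_cancel]

/-- `L` is invariant under `classGroup`. -/
theorem layers_L_conj {g l : G} (hg : g ∈ classGroup x E R)
    (hl : l ∈ ⁅R, A⁆ ⊓ centralizer (hd.zTwo : Set G)) :
    g * l * g⁻¹ ∈ ⁅R, A⁆ ⊓ centralizer (hd.zTwo : Set G) := by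
  obtain ⟨hgR, hgE⟩ := residue_norm h hd hs hg
  refine mem_inf.mpr ⟨h.invariant g hg l (mem_inf.mp hl).1, mem_centralizer_iff.mpr fun z hz => ?_⟩
  have hz' := H72.Asch.conj_mem_zTwo hd (inv_mem hgR) (inv_mem hgE) hz
  rw [inv_inv] at hz'
  have h1 := commute_conj (show Commute _ l from mem_centralizer_iff.mp (mem_inf.mp hl).2 _ hz') g
  rw [show g * (g⁻¹ * z * g) * g⁻¹ = z by group] at h1
  exact h1.eq

/-- **`L` is abelian.** -/
theorem layers_L_comm {a b : G} (ha : a ∈ ⁅R, A⁆ ⊓ centralizer (hd.zTwo : Set G))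
    (hb : b ∈ ⁅R, A⁆ ⊓ centralizer (hd.zTwo : Set G)) : Commute a b := by
  obtain ⟨m, hm, hmem, honto, hmul, hinj⟩ := layers_exists_top h hd hs hQE hmulti hQX
  set L := ⁅R, A⁆ ⊓ centralizer (hd.zTwo : Set G) with hL
  have hLK : L ≤ ⁅R, A⁆ := inf_le_left
  have hLR : ∀ {l}, l ∈ L → l ∈ R := fun hl => hd.commutator_le (hLK hl)
  have hKΦ : ∀ {l y}, l ∈ L → y ∈ nxt R R → Commute l y :=
    fun hl hy => layers_K_nxt h hd hs hQE hmulti hQX (hLK hl) hy
  have hcm : ∀ {p q}, p ∈ L → q ∈ L → ⁅p, q⁆ ∈ E :=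
    fun hp hq => layers_comm_mem h hd hs hQE hmulti hQX (hLK hp) (hLK hq)
  by_cases hα : a ^ 2 ^ m = 1
  · have h1 := hinj 1 (one_mem _) a ha (by rw [one_pow, hα])
    rw [inv_one, one_mul] at h1
    exact (hKΦ hb h1).symm
  by_cases hβ : b ^ 2 ^ m = 1
  · have h1 := hinj 1 (one_mem _) b hb (by rw [one_pow, hβ])
    rw [inv_one, one_mul] at h1
    exact hKΦ ha h1
  by_cases hαβ : a ^ 2 ^ m = b ^ 2 ^ m
  · have h1 := hKΦ ha (hinj a ha b hb hαβ)
    have h2 := (Commute.refl a).mul_right h1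
    rwa [mul_inv_cancel_left] at h2
  set α := a ^ 2 ^ m with hαdef
  set β := b ^ 2 ^ m with hβdef
  have hαE : α ∈ E := hmem a ha
  have hβE : β ∈ E := hmem b hb
  set e := ⁅a, b⁆ with hedef
  have hwd : ∀ {p q}, p ∈ L → q ∈ L → p ^ 2 ^ m = α → q ^ 2 ^ m = β → ⁅p, q⁆ = e := by
    intro p q hp hq hpα hqβ
    have hy := hinj a ha p hp hpα.symm
    have hz := hinj b hb q hq hqβ.symm
    have e1 : p = a * (a⁻¹ * p) := by rw [mul_inv_cancel_left]
    have e2 : q = b * (b⁻¹ * q) := by rw [mul_inv_cancel_left]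
    have h0 : ⁅a⁻¹ * p, q⁆ = 1 :=
      commutatorElement_eq_one_iff_mul_comm.mpr (hKΦ hq hy).symm.eq
    have h1 : ⁅a, b⁻¹ * q⁆ = 1 := commutatorElement_eq_one_iff_mul_comm.mpr (hKΦ ha hz).eq
    calc ⁅p, q⁆ = ⁅a * (a⁻¹ * p), q⁆ := by rw [← e1]
      _ = ⁅a, q⁆ := by rw [hd.comm_mul_left (hLR ha) (by rw [h0]; exact E.one_mem), h0, one_mul]
      _ = ⁅a, b * (b⁻¹ * q)⁆ := by rw [← e2]
      _ = e := by rw [hd.comm_mul_right (hLR hb) (by rw [h1]; exact E.one_mem), h1, mul_one]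
  have heq : ∀ g ∈ classGroup x E R, ∀ p ∈ L, ∀ q ∈ L, g * α * g⁻¹ = p ^ 2 ^ m →
      g * β * g⁻¹ = q ^ 2 ^ m → g * e * g⁻¹ = ⁅p, q⁆ := by
    intro g hg p hp q hq hgα hgβ
    have hi : g⁻¹ ∈ classGroup x E R := inv_mem hg
    have hp' := layers_L_conj h hd hs hQE hmulti hQX hi hp
    have hq' := layers_L_conj h hd hs hQE hmulti hQX hi hq
    rw [← hwd hp' hq' (by rw [conj_pow, ← hgα]; group) (by rw [conj_pow, ← hgβ]; group)]
    simp only [commutatorElement_def]; group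
  have heE : e ∈ E := hcm ha hb
  rcases residue_mem_of_fixed h hαE hβE heE hα hβ hαβ
    (fun g hg h1 h2 => heq g hg a ha b hb h1 h2) with e1 | e1 | e1 | e1
  · exact commutatorElement_eq_one_iff_mul_comm.mp e1
  · exfalso
    obtain ⟨g, hg, h1, h2⟩ := residue_exists_pair h hαE hβE hβE hαE hα hβ hαβ hβ hα (Ne.symm hαβ)
    have h3 := heq g hg b hb a ha h1 h2
    rw [hd.comm_symm (hcm ha hb), ← hedef, e1, h1] at h3
    exact hαβ h3.symm
  · exfalso
    obtain ⟨g, hg, h1, h2⟩ := residue_exists_pair h hαE hβE hβE hαE hα hβ hαβ hβ hα (Ne.symm hαβ)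
    have h3 := heq g hg b hb a ha h1 h2
    rw [hd.comm_symm (hcm ha hb), ← hedef, e1, h2] at h3
    exact hαβ h3
  · exfalso
    obtain ⟨g, hg, h1, h2⟩ := residue_exists_pair h hαE hβE hαE (E.mul_mem hαE hβE) hα hβ hαβ hα
      (fun e2 => hαβ (by
        rw [eq_inv_of_mul_eq_one_left e2, inv_eq_of_mul_eq_one_right (hd.sq β hβE)]))
      (fun e2 => hβ (mul_eq_left.mp e2.symm))
    have h3 := heq g hg a ha (a * b) (mul_mem ha hb) h1 (by rw [hmul a ha b hb]; exact h2)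
    rw [hd.comm_mul_right (hLR ha) (hcm ha hb),
      commutatorElement_eq_one_iff_mul_comm.mpr (rfl : a * a = a * a), one_mul, ← hedef, e1,
      ← conj_mul, h1, h2, ← mul_assoc, hd.sq α hαE, one_mul] at h3
    exact hα (mul_eq_right.mp h3.symm)

/-- An involution of `classGroup` moving an element of `E` centralises an element of order at least
eight. -/
theorem layers_exists_eight {v : G} (hv : v ∈ classGroup x E R) (hv2 : v * v = 1) {a : G}
    (ha : a ∈ E) (hmove : v * a * v⁻¹ ≠ a) : ∃ w ∈ ⁅R, A⁆, Commute w v ∧ w ^ 4 ≠ 1 := by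
  obtain ⟨m, hm, -, honto, hmul, -⟩ := layers_exists_top h hd hs hQE hmulti hQX
  obtain ⟨l, hl, hla⟩ := honto a ha
  have hl' := layers_L_conj h hd hs hQE hmulti hQX hv hl
  have hll := layers_L_comm h hd hs hQE hmulti hQX hl hl'
  refine ⟨l * (v * l * v⁻¹), mul_mem (mem_inf.mp hl).1 (mem_inf.mp hl').1, ?_, fun e => ?_⟩
  · have hvi : v⁻¹ = v := inv_eq_of_mul_eq_one_right hv2
    refine (mul_inv_eq_iff_eq_mul.mp ?_).symm
    calc v * (l * (v * l * v⁻¹)) * v⁻¹ = v * l * v⁻¹ * (v * v * l * (v * v)⁻¹) := by group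
      _ = l * (v * l * v⁻¹) := by rw [hv2, inv_one, mul_one, one_mul, hll.eq]
  · have e1 : (l * (v * l * v⁻¹)) ^ 2 ^ m = 1 := by
      obtain ⟨j, hj⟩ := pow_dvd_pow 2 hm
      rw [hj, pow_mul, show (2 : ℕ) ^ 2 = 4 from rfl, e, one_pow]
    rw [hmul l hl _ hl', conj_pow, hla] at e1
    exact hmove (by rw [← inv_eq_of_mul_eq_one_right e1, inv_eq_of_mul_eq_one_right (hd.sq a ha)])

/-- An involution of `⁅R, A⁆` centralises an element of order at least eight. -/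
theorem layers_exists_eight' {v : G} (hv : v ∈ ⁅R, A⁆) :
    ∃ w ∈ ⁅R, A⁆, Commute w v ∧ w ^ 4 ≠ 1 := by
  obtain ⟨m, hm, -, honto, -, -⟩ := layers_exists_top h hd hs hQE hmulti hQX
  obtain ⟨e, he, he1⟩ := hd.exists_ne_one
  obtain ⟨w, hw, hwe⟩ := honto e he
  refine ⟨w, (mem_inf.mp hw).1, ?_, fun e4 => he1 ?_⟩
  · obtain ⟨q, hq, l, hl, rfl⟩ := layers_split h hd hs hQE hmulti hQX hv
    exact (show Commute q w from mem_centralizer_iff.mp (mem_inf.mp hw).2 q (hQX hq)).symm.mul_right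
      (layers_L_comm h hd hs hQE hmulti hQX hw hl)
  · obtain ⟨j, hj⟩ := pow_dvd_pow 2 hm
    rw [← hwe, hj, pow_mul, show (2 : ℕ) ^ 2 = 4 from rfl, e4, one_pow]

/-- **The classes generate `R`.** -/
theorem layers_generate :
    R ≤ closure {v | ∃ g ∈ classGroup x E R, g * u * g⁻¹ = v} := by
  set T : Subgroup G := closure {v | ∃ g ∈ classGroup x E R, g * u * g⁻¹ = v} with hT
  have d := h.data
  have hAC := d.A_le
  have hcl : ∀ g ∈ classGroup x E R, g * u * g⁻¹ ∈ T := fun g hg =>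
    subset_closure ⟨g, hg, rfl⟩
  have huT : u ∈ T := by
    have := hcl 1 (one_mem _)
    rwa [one_mul, inv_one, mul_one] at this
  have hTR : T ≤ R := (closure_le _).mpr fun v hv => by
    obtain ⟨g, hg, rfl⟩ := hv
    exact (mem_normalizer_iff.mp (residue_norm h hd hs hg).1 u).mp hd.u_mem
  have hCT : ∀ g ∈ classGroup x E R, ∀ t ∈ T, g * t * g⁻¹ ∈ T := by
    intro g hg t ht
    have hle : T ≤ T.comap (MulAut.conj g).toMonoidHom := (closure_le _).mpr fun v hv => by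
      obtain ⟨g', hg', rfl⟩ := hv
      exact subset_closure ⟨g * g', mul_mem hg hg', by
        show g * g' * u * (g * g')⁻¹ = g * (g' * u * g'⁻¹) * g⁻¹
        group⟩
    exact hle ht
  refine le_of_le_sup_nxt hd.two hTR ?_
  set S : Subgroup G := (T ⊔ nxt R R) ⊓ ⁅R, A⁆ with hS
  have hΦS : nxt R R ≤ S := le_inf le_sup_right hd.nxt_le_commutator
  have hcS : ∀ g ∈ classGroup x E R, g * u * g⁻¹ * u ∈ S := fun g hg => mem_inf.mpr
    ⟨mem_sup_left (T.mul_mem (hcl g hg) huT), d.conj_mul_mem g hg⟩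
  have hAS : A ≤ normalizer (S : Set G) := by
    refine inf_norm (le_normalizer_iff.mpr fun a ha c hc => ?_) hd.normA_commutator
    have hle : T ⊔ nxt R R ≤ (T ⊔ nxt R R).comap (MulAut.conj a).toMonoidHom := sup_le
      (fun t ht => mem_sup_left (hCT a (hAC ha) t ht))
      (fun y hy => mem_sup_right ((mem_normalizer_iff.mp (norm_nxt hd.normM hd.normM ha) y).mp hy))
    exact hle hc
  suffices hKS : ⁅R, A⁆ ≤ T ⊔ nxt R R by
    intro r hr
    rcases hd.mem_or_mul_mem hr with hr' | hr'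
    · exact hKS hr'
    · have := mul_mem (hKS hr') (mem_sup_left huT : u ∈ T ⊔ nxt R R)
      rwa [mul_assoc, hd.sq_u, mul_one] at this
  suffices hQS : Q ≤ S from
    (layers_eq_top h hd hs hQE hmulti hQX (sup_le hΦS hQS) inf_le_right hAS hcS).symm.le.trans
      inf_le_left
  by_contra hQS
  -- `S` meets `Φ Q` in `Φ`
  have hSQ : ∀ q ∈ Q, q ∈ S → q ∈ E := by
    intro q hq hqS
    by_contra hqE
    refine hQS fun q' hq' => ?_
    by_cases hq'E : q' ∈ E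
    · exact hΦS (H72.Asch.E_le_nxt hd hQE hq'E)
    obtain ⟨a, ha, hae⟩ := hd.trans _ (hd.sq_mem q hq) (fun e => hqE (hd.omega q hq e)) _
      (hd.sq_mem q' hq') (fun e => hq'E (hd.omega q' hq' e))
    rw [← conj_mul] at hae
    have h1 := hs.inj q' hq' _ ((mem_normalizer_iff.mp (hd.normQ ha) q).mp hq) hae.symm
    have h2 := S.mul_mem (hΦS (H72.Asch.E_le_nxt hd hQE h1))
      ((mem_normalizer_iff.mp (hAS ha) q).mp hqS)
    rwa [inv_mul_cancel_right] at h2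
  have hSW : ∀ s ∈ S, s ∈ nxt R R ⊔ Q → s ∈ nxt R R := by
    intro s hs' hsW
    rw [sup_comm] at hsW
    obtain ⟨q, hq, y, hy, rfl⟩ :=
      (Coprime.mem_sup_iff ((nxt_le le_normalizer).trans (hd.M_le_normalizer_Q hQX))).mp hsW
    have hqS : q ∈ S := by
      have := S.mul_mem hs' (S.inv_mem (hΦS hy))
      rwa [mul_inv_cancel_right] at this
    exact mul_mem (H72.Asch.E_le_nxt hd hQE (hSQ q hq hqS)) hy
  -- `u` inverts `S`
  obtain ⟨k₁, hk₁, hk₁N⟩ := d.exists_ne_top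
  obtain ⟨g₀, hg₀, hg₀k⟩ := h.orbit k₁ hk₁
  set k₀ := g₀ * u * g₀⁻¹ * u with hk₀
  have hk₀Φ : k₀ ∉ nxt R R := fun hΦ => hk₁N (by
    have h1 := N.mul_mem (N.inv_mem hg₀k) (hd.nxt_le_of_sq d.sq_mem hΦ)
    rwa [show (k₀ * k₁⁻¹)⁻¹ * k₀ = k₁ by group] at h1)
  have hinv : ∀ k ∈ S, u * k * u = k⁻¹ := by
    intro k hk
    by_cases hkΦ : k ∈ nxt R R
    · exact layers_inv h hd hs hQE hmulti hQX hkΦ
    obtain ⟨a, ha, hak⟩ := layers_trans h hd hs hQE hmulti hQX inf_le_right hΦS hAS hSW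
      (hcS g₀ hg₀) hk₀Φ hk hkΦ
    have hau : a * u * a⁻¹ = u := hd.fix a ha
    have hc : u * (a * k₀ * a⁻¹) * u = (a * k₀ * a⁻¹)⁻¹ := by
      have h0 : u * k₀ * u = k₀⁻¹ := by
        rw [hk₀, mul_inv_rev, conj_inv, hd.inv_u]
        calc u * (g₀ * u * g₀⁻¹ * u) * u = u * (g₀ * u * g₀⁻¹) * (u * u) := by group
          _ = _ := by rw [hd.sq_u, mul_one]
      calc u * (a * k₀ * a⁻¹) * u
          = a * u * a⁻¹ * (a * k₀ * a⁻¹) * (a * u * a⁻¹) := by rw [hau]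
        _ = a * (u * k₀ * u) * a⁻¹ := by group
        _ = (a * k₀ * a⁻¹)⁻¹ := by rw [h0, conj_inv]
    set y := (a * k₀ * a⁻¹)⁻¹ * k with hy
    have hyu := layers_inv h hd hs hQE hmulti hQX hak
    have hky : Commute (a * k₀ * a⁻¹) y := layers_K_nxt h hd hs hQE hmulti hQX
      (mem_inf.mp ((mem_normalizer_iff.mp (hAS ha) _).mp (hcS g₀ hg₀))).2 hak
    have e : k = a * k₀ * a⁻¹ * y := by rw [hy, mul_inv_cancel_left]
    rw [e, mul_inv_rev]
    calc u * (a * k₀ * a⁻¹ * y) * u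
        = u * (a * k₀ * a⁻¹) * (u * u) * y * u := by rw [hd.sq_u, mul_one]; group
      _ = u * (a * k₀ * a⁻¹) * u * (u * y * u) := by group
      _ = (a * k₀ * a⁻¹)⁻¹ * y⁻¹ := by rw [hc, hyu]
      _ = y⁻¹ * (a * k₀ * a⁻¹)⁻¹ := hky.inv_inv.eq
  have hab : ∀ {k k'}, k ∈ S → k' ∈ S → Commute k k' := by
    intro k k' hk hk'
    have h1 := hinv _ (S.mul_mem hk hk')
    rw [show u * (k * k') * u = u * k * (u * u) * k' * u by rw [hd.sq_u, mul_one]; group,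
      show u * k * (u * u) * k' * u = u * k * u * (u * k' * u) by group, hinv k hk, hinv k' hk',
      ← mul_inv_rev] at h1
    exact (inv_inj.mp h1).symm
  set L := ⁅R, A⁆ ⊓ centralizer (hd.zTwo : Set G) with hL
  have hQL : ∀ {q l}, q ∈ Q → l ∈ L → Commute q l := fun hq hl =>
    mem_centralizer_iff.mp (mem_inf.mp hl).2 _ (hQX hq)
  by_cases hall : ∀ q ∈ Q, ∀ l ∈ L, q * l ∈ S → q ∈ E
  · -- the classes centralise `Q`
    refine residue_false_of_normal h hd hs hQE fun g hg q hq => ?_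
    have hp := h.invariant g hg q (hd.Q_le_commutator hq)
    refine hd.mem_Q_of_commute (hd.u_notMem_commutator (Or.inl hs)) hp ?_
    have h1 := commute_conj (hd.commute q hq) g
    set p := g * q * g⁻¹ with hpdef
    set g' := g⁻¹ with hg'
    have hg'C : g' ∈ classGroup x E R := inv_mem hg
    obtain ⟨q₀, hq₀, l₀, hl₀, e₀⟩ :=
      layers_split h hd hs hQE hmulti hQX (d.conj_mul_mem g' hg'C)
    have hq₀E : q₀ ∈ E := hall q₀ hq₀ l₀ hl₀ (e₀ ▸ hcS g' hg'C)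
    have h2 : Commute q (g' * u * g'⁻¹) := by
      rw [show g' * u * g'⁻¹ = q₀ * l₀ * u by rw [← e₀, mul_assoc _ u u, hd.sq_u, mul_one]]
      exact ((hd.central q₀ hq₀E q (hd.le hq)).symm.mul_right (hQL hq hl₀)).mul_right
        (hd.commute q hq)
    have h3 := commute_conj h2 g
    rwa [show g * (g' * u * g'⁻¹) * g⁻¹ = u by rw [hg']; group] at h3
  · -- otherwise `Q` is abelian
    push Not at hall
    obtain ⟨q₀, hq₀, l₀, hl₀, hqlS, hq₀E⟩ := hall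
    have hrep : ∀ q ∈ Q, q ∉ E → ∃ e ∈ E, ∃ l ∈ L, e * q * l ∈ S := by
      intro q hq hqE
      obtain ⟨a, ha, hae⟩ := hd.trans _ (hd.sq_mem q₀ hq₀) (fun e => hq₀E (hd.omega q₀ hq₀ e)) _
        (hd.sq_mem q hq) (fun e => hqE (hd.omega q hq e))
      rw [← conj_mul] at hae
      have hqa : a * q₀ * a⁻¹ ∈ Q := (mem_normalizer_iff.mp (hd.normQ ha) q₀).mp hq₀
      refine ⟨_, hs.inj _ hqa q hq hae, a * l₀ * a⁻¹, layers_L_conj h hd hs hQE hmulti hQX
        (hAC ha) hl₀, ?_⟩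
      rw [inv_mul_cancel_right, conj_mul]
      exact (mem_normalizer_iff.mp (hAS ha) _).mp hqlS
    obtain ⟨q₁, hq₁, hq₁E⟩ := hd.exists_notMem hQE
    obtain ⟨q₂, hq₂, -, -, hne, -, -⟩ := hs.rank q₁ hq₁ hq₁E
    have hq₂E : q₂ ∉ E := fun he => hne (hd.comm_E (hd.le hq₁) he)
    obtain ⟨e₁, he₁, l₁, hl₁, hS₁⟩ := hrep q₁ hq₁ hq₁E
    obtain ⟨e₂, he₂, l₂, hl₂, hS₂⟩ := hrep q₂ hq₂ hq₂E
    refine hne (commutatorElement_eq_one_iff_mul_comm.mpr ?_)
    set p₁ := e₁ * q₁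
    set p₂ := e₂ * q₂
    have hp₁ : p₁ ∈ Q := Q.mul_mem (hd.le_E he₁) hq₁
    have hp₂ : p₂ ∈ Q := Q.mul_mem (hd.le_E he₂) hq₂
    have h1 : Commute (p₁ * l₁) (p₂ * l₂) := hab hS₁ hS₂
    have h2 : p₁ * p₂ * (l₁ * l₂) = p₂ * p₁ * (l₁ * l₂) := by
      calc p₁ * p₂ * (l₁ * l₂) = p₁ * l₁ * (p₂ * l₂) := ((hQL hp₂ hl₁).symm.mul_mul_mul_comm _ _).symm
        _ = p₂ * l₂ * (p₁ * l₁) := h1.eq
        _ = p₂ * p₁ * (l₂ * l₁) := (hQL hp₁ hl₂).symm.mul_mul_mul_comm _ _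
        _ = _ := by rw [(layers_L_comm h hd hs hQE hmulti hQX hl₂ hl₁).eq]
    have h3 : Commute p₁ p₂ := mul_right_cancel h2
    have h4 : Commute q₁ p₂ := by
      have := ((hd.central e₁ he₁ p₂ (hd.le hp₂)).inv_left).mul_left h3
      rwa [inv_mul_cancel_left] at this
    have h5 : Commute q₁ q₂ := by
      have := ((hd.central e₂ he₂ q₁ (hd.le hq₁)).symm.inv_right).mul_right h4
      rwa [inv_mul_cancel_left] at this
    exact h5.eq

end Cfsg.Agent.H6.Asch
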