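import Cfsg.Agent.H26.Asch.Classes

/-!
The residue `|E| = 8` of the class analysis: the elements centralising `E` act trivially on `K / N`,
so `classGroup` induces every automorphism of `E`.
-/

set_option autoImplicit false
set_option linter.style.haveILetI false

namespace Cfsg.Agent.H6.Asch

open Subgroup MulAction
open Cfsg.Agent.H26.Asch (classGroup ClassData ClassResidue TrivTop mem_centAt')
open scoped commutatorElement

universe u v

variable {G : Type u} [Group G] [Finite G] {Ω : Type v} [MulAction G Ω]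
  {u : G} {x : Ω} {E R K N A : Subgroup G} (h : ClassResidue u x E R K N A)
include h

/-- **The elements centralising `E` act trivially on `K / N`.** -/
theorem residue_trivTop {g : G} (hg : g ∈ classGroup x E R) (hgE : g ∈ centAt x E) :
    TrivTop x E R K N g := by
  classical
  have d := h.data
  set C := classGroup x E R with hC
  set P : Subgroup G := C ⊓ centAt x E with hP
  have hRC : R ≤ C := d.R_le_classGroup
  -- an element fixing its class acts trivially
  have hstab : ∀ p ∈ P, p * u * p⁻¹ * u ∈ N → TrivTop x E R K N p := by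
    intro p hp hpN
    obtain ⟨c, hc, hcu⟩ := d.exists_split (mem_inf.mp hp).1 hpN
    have h1 := d.trivTop_cent (C.mul_mem (C.inv_mem (hRC hc)) (mem_inf.mp hp).1)
      ((centAt x E).mul_mem ((centAt x E).inv_mem (d.R_le hc)) (mem_inf.mp hp).2) hcu
    have h2 := d.trivTop_mul (d.trivTop_of_mem hc) h1
    rwa [mul_inv_cancel_left] at h2
  by_cases hall : ∀ p ∈ P, p * u * p⁻¹ * u ∈ N
  · exact hstab g (mem_inf.mpr ⟨hg, hgE⟩) (hall g (mem_inf.mpr ⟨hg, hgE⟩))
  exfalso
  push Not at hall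
  obtain ⟨p₀, hp₀, hp₀N⟩ := hall
  have hPC : ∀ {p}, p ∈ P → p ∈ C := fun hp => (mem_inf.mp hp).1
  have hAP : ∀ {a p}, a ∈ A → p ∈ P → a * p * a⁻¹ ∈ P := fun {a p} ha hp =>
    mem_inf.mpr ⟨C.mul_mem (C.mul_mem (d.A_le ha) (hPC hp)) (C.inv_mem (d.A_le ha)),
      d.centAt_conj (mem_inf.mp (d.A_le ha)).1 (mem_inf.mp hp).2⟩
  -- the classes under `P` are all the cosets
  have honto : ∀ k ∈ K, ∃ p ∈ P, p * u * p⁻¹ * u * k⁻¹ ∈ N := by
    intro k hk
    by_cases hkN : k ∈ N
    · refine ⟨1, P.one_mem, ?_⟩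
      rw [one_mul, inv_one, mul_one, d.sq_u, one_mul]
      exact N.inv_mem hkN
    obtain ⟨a, ha, hak⟩ := d.trans_top _ (d.conj_mul_mem p₀ (hPC hp₀)) k hk hp₀N hkN
    refine ⟨a * p₀ * a⁻¹, hAP ha hp₀, ?_⟩
    have hau : a⁻¹ * u * a = u := by
      rw [mul_assoc, ← (d.A_commute a ha).eq, inv_mul_cancel_left]
    have e : a * p₀ * a⁻¹ * u * (a * p₀ * a⁻¹)⁻¹ * u = a * (p₀ * u * p₀⁻¹ * u) * a⁻¹ := by
      calc a * p₀ * a⁻¹ * u * (a * p₀ * a⁻¹)⁻¹ * u
          = a * p₀ * (a⁻¹ * u * a) * p₀⁻¹ * a⁻¹ * u := by group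
        _ = a * (p₀ * u * p₀⁻¹ * u) * a⁻¹ * (a * u⁻¹ * a⁻¹ * u) := by rw [hau]; group
        _ = _ := by
          rw [d.u_inv, (d.A_commute a ha).eq, mul_inv_cancel_right, d.sq_u, mul_one]
    rwa [e]
  -- `P` acts on `K / N`
  have hKC : K ≤ C := fun k hk => hRC (d.K_le hk)
  set NK : Subgroup K := N.subgroupOf K with hNK
  haveI : NK.Normal := ⟨fun n hn k => mem_subgroupOf.mpr
    (d.conj_N (hKC k.2) (mem_subgroupOf.mp hn))⟩
  let π := QuotientGroup.mk' NK
  have hπ : ∀ k l : K, π k = π l ↔ (k : G)⁻¹ * l ∈ N := fun k l => by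
    rw [QuotientGroup.mk'_apply, QuotientGroup.mk'_apply, QuotientGroup.eq]
    rfl
  have hidx : NK.index = 8 := by
    have h1 := NK.card_mul_index
    rw [Nat.card_congr (Subgroup.subgroupOfEquivOfLe d.N_le).toEquiv, d.card_K, h.card_E,
      mul_comm 8] at h1
    exact Nat.eq_of_mul_eq_mul_left Nat.card_pos h1
  let Z : Subgroup P :=
    { carrier := {p | TrivTop x E R K N (p : G)}
      one_mem' := d.trivTop_of_mem R.one_mem
      mul_mem' := fun hp hq => d.trivTop_mul hp hq
      inv_mem' := fun hp => d.trivTop_inv hp }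
  haveI : Z.Normal := ⟨fun z hz p => by
    refine hstab _ (p * z * p⁻¹).2 ?_
    have hsplit := h.faithful _ hz.1 hz.2
    have hk := d.conj_mul_mem _ (hPC p.2)
    set k := (p : G) * u * (p : G)⁻¹ * u with hkdef
    show (p : G) * z * (p : G)⁻¹ * u * ((p : G) * z * (p : G)⁻¹)⁻¹ * u ∈ N
    have hki : (p : G)⁻¹ * u * (p : G) * u = (p : G)⁻¹ * k⁻¹ * p := by
      rw [hkdef]; simp [mul_assoc, d.u_inv]
    rw [mul_assoc (p : G) z, d.class_mul, d.class_mul, inv_inv, hki]
    have hk' : (p : G)⁻¹ * k⁻¹ * p ∈ K := by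
      have := h.invariant _ (C.inv_mem (hPC p.2)) _ (K.inv_mem hk)
      rwa [inv_inv] at this
    have e : (p : G) * ((z : G) * ((p : G)⁻¹ * k⁻¹ * p) * (z : G)⁻¹ * ((z : G) * u * (z : G)⁻¹ * u))
        * (p : G)⁻¹ * k = ((p : G) * ⁅(z : G), (p : G)⁻¹ * k⁻¹ * p⁆ * (p : G)⁻¹) *
          (k⁻¹ * ((p : G) * ((z : G) * u * (z : G)⁻¹ * u) * (p : G)⁻¹) * k) := by
      rw [commutatorElement_def]; group
    rw [e]
    refine N.mul_mem (d.conj_N (hPC p.2) (hz.2 _ hk')) ?_
    have h2 := d.conj_N (C.inv_mem (hKC hk)) (d.conj_N (hPC p.2) hsplit)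
    rwa [inv_inv] at h2⟩
  -- `P / Z` has eight elements
  let cl : P → K ⧸ NK := fun p => π ⟨(p : G) * u * (p : G)⁻¹ * u, d.conj_mul_mem p (hPC p.2)⟩
  have hcl : ∀ p q : P, cl p = cl q ↔ p⁻¹ * q ∈ Z := by
    intro p q
    have e1 := d.class_mul (p : G) ((p : G)⁻¹ * q)
    rw [mul_inv_cancel_left] at e1
    have hmem : ∀ r : P, r ∈ Z ↔ (r : G) * u * (r : G)⁻¹ * u ∈ N := fun r =>
      ⟨fun hr => h.faithful _ hr.1 hr.2, hstab r r.2⟩
    rw [hmem, hπ]
    show _ ↔ ((p : G)⁻¹ * q) * u * ((p : G)⁻¹ * q)⁻¹ * u ∈ N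
    constructor
    · intro h1
      simp only [e1] at h1
      have h2 := d.conj_N (C.inv_mem (hPC p.2)) (d.conj_N (hKC (d.conj_mul_mem p (hPC p.2))) h1)
      rw [inv_inv] at h2
      convert h2 using 1
      group
    · intro h1
      simp only [e1]
      have h2 := d.conj_N (C.inv_mem (hKC (d.conj_mul_mem p (hPC p.2)))) (d.conj_N (hPC p.2) h1)
      rw [inv_inv] at h2
      convert h2 using 1
      group
  have hZidx : Z.index = 8 := by
    rw [← hidx, Subgroup.index, Subgroup.index]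
    refine Nat.card_eq_of_bijective (Quotient.lift cl fun p q hpq =>
      (hcl p q).mpr (QuotientGroup.leftRel_apply.mp hpq)) ⟨?_, ?_⟩
    · intro a b hab
      induction a using QuotientGroup.induction_on with | _ a =>
      induction b using QuotientGroup.induction_on with | _ b =>
      exact QuotientGroup.eq.mpr ((hcl a b).mp hab)
    · intro q
      obtain ⟨k, rfl⟩ := QuotientGroup.mk'_surjective NK q
      obtain ⟨p, hp, hpk⟩ := honto k k.2
      refine ⟨QuotientGroup.mk ⟨p, hp⟩, (hπ _ _).mpr ?_⟩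
      have h2 := d.conj_N (C.inv_mem (hKC k.2)) (N.inv_mem hpk)
      have h3 := d.conj_N (hKC k.2) h2
      have h4 := d.conj_N (C.inv_mem (hKC (d.conj_mul_mem p (hPC hp)))) (N.inv_mem hpk)
      rw [inv_inv] at h4
      convert h4 using 1
      group
  -- the action on `K / N`, through the two-group `P / Z`
  let act : P →* Function.End (K ⧸ NK) :=
    { toFun := fun p => Quotient.lift
        (fun k => π ⟨(p : G) * k * (p : G)⁻¹, h.invariant p (hPC p.2) k k.2⟩) fun k l hkl => by
          refine (hπ _ _).mpr ?_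
          have h1 := d.conj_N (hPC p.2)
            (mem_subgroupOf.mp (QuotientGroup.leftRel_apply.mp hkl))
          convert h1 using 1
          push_cast
          group
      map_one' := by
        funext q
        induction q using QuotientGroup.induction_on with | _ k =>
        show π ⟨(1 : G) * k * (1 : G)⁻¹, _⟩ = π k
        exact congrArg π (Subtype.ext (by simp))
      map_mul' := fun p q => by
        funext z
        induction z using QuotientGroup.induction_on with | _ k =>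
        exact congrArg π (Subtype.ext (by
          show (p : G) * q * k * ((p : G) * q)⁻¹ = (p : G) * ((q : G) * k * (q : G)⁻¹) * (p : G)⁻¹
          group)) }
  letI : MulAction P (K ⧸ NK) := MulAction.compHom _ act
  have hsmul : ∀ (p : P) (k : K),
      p • π k = π ⟨(p : G) * k * (p : G)⁻¹, h.invariant p (hPC p.2) k k.2⟩ := fun _ _ => rfl
  have hZfix : ∀ z : P, z ∈ Z → ∀ q : K ⧸ NK, z • q = q := by
    intro z hz q
    obtain ⟨k, rfl⟩ := QuotientGroup.mk'_surjective NK q
    rw [hsmul, hπ]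
    have h1 := d.conj_N (hKC (K.inv_mem k.2)) (N.inv_mem (hz.2 _ (k.2)))
    rw [inv_inv] at h1
    convert h1 using 1
    rw [commutatorElement_def]
    push_cast
    group
  haveI : Fact (Nat.Prime 2) := ⟨Nat.prime_two⟩
  letI : MulAction (P ⧸ Z) (K ⧸ NK) :=
    { smul := fun q z => Quotient.liftOn q (fun p => p • z) fun p p' hpp => by
        have h1 : (p⁻¹ * p') • z = z := hZfix _ (QuotientGroup.leftRel_apply.mp hpp) z
        calc p • z = p • ((p⁻¹ * p') • z) := by rw [h1]
          _ = p' • z := by rw [← mul_smul, mul_inv_cancel_left]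
      one_smul := fun z => one_smul P z
      mul_smul := fun q q' z => by
        induction q using QuotientGroup.induction_on with | _ p =>
        induction q' using QuotientGroup.induction_on with | _ p' =>
        exact mul_smul p p' z }
  have hPZ : IsPGroup 2 (P ⧸ Z) := IsPGroup.of_card (n := 3) (by
    rw [← Subgroup.index, hZidx]; norm_num)
  haveI : Finite (K ⧸ NK) := inferInstance
  obtain ⟨z₁, hz₁, hz₁1⟩ := hPZ.exists_fixed_point_of_prime_dvd_card_of_fixed_point (K ⧸ NK)
    (by rw [← Subgroup.index, hidx]; norm_num) (a := π 1) (fun q => by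
      induction q using QuotientGroup.induction_on with | _ p =>
      show p • π 1 = π 1
      rw [hsmul]
      exact congrArg π (Subtype.ext (by simp)))
  obtain ⟨k₁, rfl⟩ := QuotientGroup.mk'_surjective NK z₁
  have hk₁N : (k₁ : G) ∉ N := fun hN => hz₁1 (Eq.symm ((hπ _ _).mpr (by
    rw [OneMemClass.coe_one, mul_one]; exact N.inv_mem hN)))
  have hfix1 : ∀ p ∈ P, ⁅p, (k₁ : G)⁆ ∈ N := by
    intro p hp
    have h1 : (⟨p, hp⟩ : P) • π k₁ = π k₁ := hz₁ (QuotientGroup.mk ⟨p, hp⟩)
    rw [hsmul, hπ] at h1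
    have h2 := d.conj_N (hKC k₁.2) (N.inv_mem h1)
    convert h2 using 1
    rw [commutatorElement_def]
    push_cast
    group
  -- hence `P` acts trivially
  refine hp₀N (h.faithful p₀ (hPC hp₀) fun k hk => ?_)
  by_cases hkN : k ∈ N
  · rw [commutatorElement_def]
    exact N.mul_mem (d.conj_N (hPC hp₀) hkN) (N.inv_mem hkN)
  obtain ⟨a, ha, hak⟩ := d.trans_top _ k₁.2 k hk hk₁N hkN
  set n := a * (k₁ : G) * a⁻¹ * k⁻¹ with hn
  have h3 := d.conj_N (d.A_le ha) (hfix1 _ (by
    have := hAP (A.inv_mem ha) hp₀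
    rwa [inv_inv] at this))
  have e : ⁅p₀, k⁆ = (p₀ * n⁻¹ * p₀⁻¹) * (a * ⁅a⁻¹ * p₀ * a, (k₁ : G)⁆ * a⁻¹) * n := by
    rw [hn]; simp only [commutatorElement_def]; group
  rw [e]
  exact N.mul_mem (N.mul_mem (d.conj_N (hPC hp₀) (N.inv_mem hak)) h3) hak

/-- **`classGroup` induces every automorphism of `E`.** -/
theorem residue_exists_triple {a b c a' b' c' : G} (ha : a ∈ E) (hb : b ∈ E) (hc : c ∈ E)
    (ha' : a' ∈ E) (hb' : b' ∈ E) (hc' : c' ∈ E)
    (ha1 : a ≠ 1) (hb1 : b ≠ 1) (hab : a ≠ b) (hcn : c ≠ 1 ∧ c ≠ a ∧ c ≠ b ∧ c ≠ a * b)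
    (ha1' : a' ≠ 1) (hb1' : b' ≠ 1) (hab' : a' ≠ b')
    (hcn' : c' ≠ 1 ∧ c' ≠ a' ∧ c' ≠ b' ∧ c' ≠ a' * b') :
    ∃ g ∈ classGroup x E R, g * a * g⁻¹ = a' ∧ g * b * g⁻¹ = b' ∧ g * c * g⁻¹ = c' := by
  classical
  have d := h.data
  set C := classGroup x E R with hC
  haveI : Fintype E := Fintype.ofFinite E
  have hconjE : ∀ g : C, ∀ e : E, (g : G) * e * (g : G)⁻¹ ∈ E := fun g e =>
    (mem_normalizer_iff.mp (d.mem_normE g.2) e).mp e.2
  let f : C → E × E × E := fun g =>
    (⟨_, hconjE g ⟨a, ha⟩⟩, ⟨_, hconjE g ⟨b, hb⟩⟩, ⟨_, hconjE g ⟨c, hc⟩⟩)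
  let Z : Subgroup G :=
    { carrier := {g | TrivTop x E R K N g}
      one_mem' := d.trivTop_of_mem R.one_mem
      mul_mem' := fun hp hq => d.trivTop_mul hp hq
      inv_mem' := fun hp => d.trivTop_inv hp }
  have hZC : Z ≤ C := fun g hg => hg.1
  have h168 : Nat.card C = 168 * Nat.card Z := h.card_image Z hZC fun g => Iff.rfl
  have hidx : (Z.subgroupOf C).index = 168 := by
    have h1 := (Z.subgroupOf C).card_mul_index
    rw [Nat.card_congr (subgroupOfEquivOfLe hZC).toEquiv, h168, mul_comm 168] at h1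
    exact Nat.eq_of_mul_eq_mul_left Nat.card_pos h1
  -- elements with the same images differ by `Z`
  have hgen : ∀ g : G, g ∈ C → g * a * g⁻¹ = a → g * b * g⁻¹ = b → g * c * g⁻¹ = c →
      TrivTop x E R K N g := by
    intro g hg h1 h2 h3
    refine residue_trivTop h hg (mem_centAt'.mpr ⟨d.smul_fix hg, ?_⟩)
    let S : Subgroup G :=
      { carrier := {e | e ∈ E ∧ g * e * g⁻¹ = e}
        one_mem' := ⟨E.one_mem, by group⟩
        mul_mem' := fun {p q} hp hq => ⟨E.mul_mem hp.1 hq.1, by rw [← conj_mul, hp.2, hq.2]⟩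
        inv_mem' := fun {p} hp => ⟨E.inv_mem hp.1, by rw [← conj_inv, hp.2]⟩ }
    have hSE : S ≤ E := fun e he => he.1
    have hS5 : 5 ≤ Nat.card S := by
      have hsub : ({1, a, b, a * b, c} : Set G) ⊆ (S : Set G) := by
        simp only [Set.insert_subset_iff, Set.singleton_subset_iff, SetLike.mem_coe]
        exact ⟨S.one_mem, ⟨ha, h1⟩, ⟨hb, h2⟩, S.mul_mem ⟨ha, h1⟩ ⟨hb, h2⟩, ⟨hc, h3⟩⟩
      have h4 := Set.ncard_le_ncard hsub (Set.toFinite _)
      have hab' : a * b ≠ 1 := fun e => hab (by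
        rw [eq_inv_of_mul_eq_one_left e, inv_eq_of_mul_eq_one_right (d.E_two b hb)])
      have h5 : ({1, a, b, a * b, c} : Set G).ncard = 5 := by
        rw [Set.ncard_insert_of_notMem (by simp [Ne.symm ha1, Ne.symm hb1, Ne.symm hab',
            Ne.symm hcn.1]),
          Set.ncard_insert_of_notMem (by simp [hab, hb1, Ne.symm hcn.2.1]),
          Set.ncard_insert_of_notMem (by simp [ha1, Ne.symm hcn.2.2.1]),
          Set.ncard_pair (Ne.symm hcn.2.2.2)]
      have h6 : (S : Set G).ncard = Nat.card S := rfl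
      omega
    have hS : S = E := by
      refine eq_of_le_of_card_ge hSE ?_
      obtain ⟨j, hj⟩ := card_dvd_of_le hSE
      rw [h.card_E] at hj ⊢
      rcases j with _ | _ | j
      · omega
      · omega
      · exfalso; nlinarith
    intro e he
    exact (hS ▸ he : e ∈ S).2
  let T : Finset (E × E × E) := Finset.univ.filter fun t =>
    t.1 ≠ 1 ∧ t.2.1 ∉ ({1, t.1} : Finset E) ∧ t.2.2 ∉ ({1, t.1, t.2.1, t.1 * t.2.1} : Finset E)
  have hT : T.card ≤ 168 := by
    have hE8 : Fintype.card E = 8 := by rw [← Nat.card_eq_fintype_card]; exact h.card_E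
    have hsq : ∀ e : E, e * e = 1 := fun e => Subtype.ext (d.E_two e e.2)
    let T' : Finset (Σ _ : E, Σ _ : E, E) :=
      (Finset.univ.erase (1 : E)).sigma fun p => (Finset.univ \ {1, p}).sigma fun q =>
        Finset.univ \ {1, p, q, p * q}
    have hle : T.card ≤ T'.card := by
      refine Finset.card_le_card_of_injOn (fun t => ⟨t.1, t.2.1, t.2.2⟩) (fun t ht => ?_) ?_
      · obtain ⟨-, h1, h2, h3⟩ := Finset.mem_filter.mp ht
        simp only [T', Finset.coe_sigma, Set.mem_sigma_iff, Finset.mem_coe, Finset.mem_sdiff,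
          Finset.mem_erase, Finset.mem_univ, true_and, and_true]
        exact ⟨h1, h2, h3⟩
      · intro t _ t' _ e
        simpa [Prod.ext_iff] using e
    refine hle.trans ?_
    rw [Finset.card_sigma]
    refine (Finset.sum_le_card_nsmul _ _ 24 fun p hp => ?_).trans ?_
    · have hp1 : p ≠ 1 := (Finset.mem_erase.mp hp).1
      rw [Finset.card_sigma]
      refine (Finset.sum_le_card_nsmul _ _ 4 fun q hq => ?_).trans ?_
      · simp only [Finset.mem_sdiff, Finset.mem_univ, true_and, Finset.mem_insert,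
          Finset.mem_singleton, not_or] at hq
        have hpq : p * q ≠ 1 := fun e => hq.2 (by
          rw [eq_inv_of_mul_eq_one_right e, inv_eq_of_mul_eq_one_right (hsq p)])
        rw [Finset.card_sdiff_of_subset (Finset.subset_univ _), Finset.card_univ, hE8,
          Finset.card_insert_of_notMem (by simp [Ne.symm hp1, Ne.symm hq.1, Ne.symm hpq]),
          Finset.card_insert_of_notMem (by simp [Ne.symm hq.2, hq.1]),
          Finset.card_pair (by simp [hp1])]
      · rw [Finset.card_sdiff_of_subset (Finset.subset_univ _), Finset.card_univ, hE8,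
          Finset.card_pair (Ne.symm hp1)]
        norm_num
    · rw [Finset.card_erase_of_mem (Finset.mem_univ _), Finset.card_univ, hE8]
      norm_num
  let F : C ⧸ Z.subgroupOf C → E × E × E := Quotient.lift f fun g g' hgg => by
    have h1 := (mem_centAt'.mp
      (d.centAt_of_trivTop (mem_subgroupOf.mp (QuotientGroup.leftRel_apply.mp hgg)))).2
    simp only [f, Prod.mk.injEq, Subtype.mk.injEq]
    refine ⟨?_, ?_, ?_⟩ <;>
      [have h2 := h1 a ha; have h2 := h1 b hb; have h2 := h1 c hc] <;>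
      (push_cast at h2; conv_lhs => rw [← h2]
       group)
  have hF : Function.Injective F := by
    intro p q hpq
    induction p using QuotientGroup.induction_on with | _ g =>
    induction q using QuotientGroup.induction_on with | _ g' =>
    refine QuotientGroup.eq.mpr (mem_subgroupOf.mpr ?_)
    have hpq' : f g = f g' := hpq
    simp only [f, Prod.mk.injEq, Subtype.mk.injEq] at hpq'
    obtain ⟨e1, e2, e3⟩ := hpq'
    have key : ∀ e : G, (g : G) * e * (g : G)⁻¹ = g' * e * (g' : G)⁻¹ →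
        (g : G)⁻¹ * g' * e * ((g : G)⁻¹ * g')⁻¹ = e := fun e he => by
      calc (g : G)⁻¹ * g' * e * ((g : G)⁻¹ * g')⁻¹ = (g : G)⁻¹ * (g' * e * (g' : G)⁻¹) * g := by
            group
        _ = e := by rw [← he]; group
    push_cast
    exact hgen _ (C.mul_mem (C.inv_mem g.2) g'.2) (key a e1) (key b e2) (key c e3)
  haveI : Fintype (C ⧸ Z.subgroupOf C) := Fintype.ofFinite _
  have himg : (Finset.univ.image F) ⊆ T := by
    intro t ht
    obtain ⟨p, -, rfl⟩ := Finset.mem_image.mp ht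
    induction p using QuotientGroup.induction_on with | _ g =>
    have hne : ∀ {p q : G}, p ≠ q → (g : G) * p * (g : G)⁻¹ ≠ g * q * (g : G)⁻¹ := fun hpq e =>
      hpq (mul_left_cancel (mul_right_cancel e))
    have hne1 : ∀ {p : G}, p ≠ 1 → (g : G) * p * (g : G)⁻¹ ≠ 1 := fun hp e =>
      hp (conj_eq_one_iff.mp e)
    simp only [T, Finset.mem_filter, Finset.mem_univ, true_and, Finset.mem_insert,
      Finset.mem_singleton, not_or]
    refine ⟨fun e => hne1 ha1 (congrArg Subtype.val e),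
      ⟨fun e => hne1 hb1 (congrArg Subtype.val e), fun e => hne (Ne.symm hab) (congrArg Subtype.val e)⟩,
      fun e => hne1 hcn.1 (congrArg Subtype.val e), fun e => hne hcn.2.1 (congrArg Subtype.val e),
      fun e => hne hcn.2.2.1 (congrArg Subtype.val e), fun e => hne hcn.2.2.2 ?_⟩
    have h1 : (g : G) * c * (g : G)⁻¹ = g * a * (g : G)⁻¹ * (g * b * (g : G)⁻¹) :=
      congrArg Subtype.val e
    rw [h1, conj_mul]
  have hcard : T.card ≤ (Finset.univ.image F).card := by
    rw [Finset.card_image_of_injective _ hF, Finset.card_univ, ← Nat.card_eq_fintype_card,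
      ← Subgroup.index, hidx]
    exact hT
  have hmem : ((⟨a', ha'⟩ : E), (⟨b', hb'⟩ : E), (⟨c', hc'⟩ : E)) ∈ Finset.univ.image F := by
    rw [Finset.eq_of_subset_of_card_le himg hcard]
    simp only [T, Finset.mem_filter, Finset.mem_univ, true_and, Finset.mem_insert,
      Finset.mem_singleton, not_or, ne_eq, Subtype.ext_iff, OneMemClass.coe_one, Subgroup.coe_mul]
    exact ⟨ha1', ⟨hb1', Ne.symm hab'⟩, hcn'⟩
  obtain ⟨p, -, hp⟩ := Finset.mem_image.mp hmem
  induction p using QuotientGroup.induction_on with | _ g =>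
  have hp' : f g = _ := hp
  simp only [f, Prod.mk.injEq, Subtype.mk.injEq] at hp'
  exact ⟨g, g.2, hp'.1, hp'.2.1, hp'.2.2⟩

/-- A pair of distinct non-trivial elements of `E` goes to any other. -/
theorem residue_exists_pair {a b a' b' : G} (ha : a ∈ E) (hb : b ∈ E) (ha' : a' ∈ E) (hb' : b' ∈ E)
    (ha1 : a ≠ 1) (hb1 : b ≠ 1) (hab : a ≠ b) (ha1' : a' ≠ 1) (hb1' : b' ≠ 1) (hab' : a' ≠ b') :
    ∃ g ∈ classGroup x E R, g * a * g⁻¹ = a' ∧ g * b * g⁻¹ = b' := by
  classical
  have hout : ∀ p q : G, ∃ c ∈ E, c ≠ 1 ∧ c ≠ p ∧ c ≠ q ∧ c ≠ p * q := by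
    intro p q
    by_contra hc
    push Not at hc
    have h1 := Set.ncard_le_ncard (s := (E : Set G)) (t := ({1, p, q, p * q} : Set G))
      (fun c hcE => by
        simp only [Set.mem_insert_iff, Set.mem_singleton_iff]
        by_contra hn
        push Not at hn
        exact hn.2.2.2 (hc c hcE hn.1 hn.2.1 hn.2.2.1)) (Set.toFinite _)
    have h2 : (E : Set G).ncard = 8 := h.card_E
    have h3 : ({1, p, q, p * q} : Set G).ncard ≤ 4 :=
      (Set.ncard_insert_le _ _).trans (Nat.add_le_add_right ((Set.ncard_insert_le _ _).trans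
        (Nat.add_le_add_right ((Set.ncard_insert_le _ _).trans_eq (by rw [Set.ncard_singleton])) _))
          _)
    omega
  obtain ⟨c, hc, hcn⟩ := hout a b
  obtain ⟨c', hc', hcn'⟩ := hout a' b'
  obtain ⟨g, hg, h1, h2, -⟩ := residue_exists_triple h ha hb hc ha' hb' hc' ha1 hb1 hab hcn ha1' hb1'
    hab' hcn'
  exact ⟨g, hg, h1, h2⟩

/-- What is fixed with `a` and `b` lies in the group they generate. -/
theorem residue_mem_of_fixed {a b e : G} (ha : a ∈ E) (hb : b ∈ E) (he : e ∈ E)
    (ha1 : a ≠ 1) (hb1 : b ≠ 1) (hab : a ≠ b)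
    (hfix : ∀ g ∈ classGroup x E R, g * a * g⁻¹ = a → g * b * g⁻¹ = b → g * e * g⁻¹ = e) :
    e = 1 ∨ e = a ∨ e = b ∨ e = a * b := by
  have d := h.data
  by_contra hne
  push Not at hne
  have haa := d.E_two a ha
  have hea : e * a ≠ 1 ∧ e * a ≠ a ∧ e * a ≠ b ∧ e * a ≠ a * b := by
    have hsw : b * a = a * b := by
      have h1 := d.E_two _ (E.mul_mem ha hb)
      calc b * a = (a * a) * (b * a) * (b * b) := by rw [haa, d.E_two b hb, one_mul, mul_one]
        _ = a * (a * b * (a * b)) * b := by group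
        _ = a * b := by rw [h1, mul_one]
    refine ⟨fun e1 => hne.2.1 ?_, fun e1 => hne.1 ?_, fun e1 => hne.2.2.2 ?_, fun e1 => hne.2.2.1 ?_⟩
    · calc e = e * a * a := by rw [mul_assoc, haa, mul_one]
        _ = a := by rw [e1, one_mul]
    · exact mul_eq_right.mp e1
    · calc e = e * a * a := by rw [mul_assoc, haa, mul_one]
        _ = a * b := by rw [e1, hsw]
    · calc e = e * a * a := by rw [mul_assoc, haa, mul_one]
        _ = a * (b * a) := by rw [e1]; group
        _ = b := by rw [hsw, ← mul_assoc, haa, one_mul]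
  obtain ⟨g, hg, hga, hgb, hge⟩ :=
    residue_exists_triple h ha hb he ha hb (E.mul_mem he ha) ha1 hb1 hab hne ha1 hb1 hab hea
  rw [hfix g hg hga hgb] at hge
  exact ha1 (mul_eq_left.mp hge.symm)

/-- What is fixed with `a` is `1` or `a`. -/
theorem residue_eq_of_fixed {a e : G} (ha : a ∈ E) (he : e ∈ E) (ha1 : a ≠ 1)
    (hfix : ∀ g ∈ classGroup x E R, g * a * g⁻¹ = a → g * e * g⁻¹ = e) : e = 1 ∨ e = a := by
  classical
  have d := h.data
  by_contra hne
  push Not at hne
  obtain ⟨b, hb, hbn⟩ : ∃ b ∈ E, b ∉ ({1, a, e, a * e} : Set G) := by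
    by_contra hc
    push Not at hc
    have h1 := Set.ncard_le_ncard (s := (E : Set G)) (t := ({1, a, e, a * e} : Set G)) hc
      (Set.toFinite _)
    have h2 : (E : Set G).ncard = 8 := h.card_E
    have h3 : ({1, a, e, a * e} : Set G).ncard ≤ 4 :=
      (Set.ncard_insert_le _ _).trans (Nat.add_le_add_right ((Set.ncard_insert_le _ _).trans
        (Nat.add_le_add_right ((Set.ncard_insert_le _ _).trans_eq (by rw [Set.ncard_singleton])) _))
          _)
    omega
  simp only [Set.mem_insert_iff, Set.mem_singleton_iff, not_or] at hbn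
  rcases residue_mem_of_fixed h ha hb he ha1 hbn.1 (Ne.symm hbn.2.1)
    (fun g hg hga _ => hfix g hg hga) with e1 | e1 | e1 | e1
  · exact hne.1 e1
  · exact hne.2 e1
  · exact hbn.2.2.1 e1.symm
  · refine hbn.2.2.2 ?_
    rw [e1, ← mul_assoc, d.E_two a ha, one_mul]

end Cfsg.Agent.H6.Asch
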