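import Cfsg.Agent.H6.Asch.ResidueShapeTwo

/-!
The residue for a line of shape two in several layers with `Q` in the second centre: the Frattini
part is inverted by `u` and centralised by `⁅R, A⁆`, the centraliser `L` of the second centre in
`⁅R, A⁆` is abelian, and `⁅R, A⁆ = Q L`.
-/

set_option autoImplicit false
set_option linter.style.haveILetI false
set_option linter.unusedSectionVars false

namespace Cfsg.Agent.H6.Asch

open Subgroup MulAction
open Cfsg.Agent.H14.Asch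
open Cfsg.Agent.H26.Asch (classGroup ClassData ClassResidue)
open Cfsg.Agent.H51.Asch (nxt nxt_le norm_nxt sq_mem_nxt comm_mem_nxt inf_norm)
open scoped commutatorElement

universe u v

variable {G : Type u} [Group G] [Finite G] {Ω : Type v} [MulAction G Ω]
  {u : G} {x : Ω} {E Q R N A : Subgroup G} (h : ClassResidue u x E R ⁅R, A⁆ N A)
  (hd : ShapeData R Q E A u) (hs : Squaring Q E) (hQE : ¬ Q ≤ E) (hmulti : u ∉ hd.zTwo)
  (hQX : Q ≤ hd.zTwo)
include h hd hs hQE hmulti hQX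

/-- The Frattini part is inverted by `u`. -/
theorem layers_inv {y : G} (hy : y ∈ nxt R R) : u * y * u = y⁻¹ := by
  obtain ⟨m, -, rfl⟩ := hd.exists_comm_of_le_zTwo hs hQX hmulti y hy
  exact hd.comm_comm_u

/-- The Frattini part is abelian. -/
theorem layers_nxt_comm {y z : G} (hy : y ∈ nxt R R) (hz : z ∈ nxt R R) : Commute y z := by
  have h1 := layers_inv h hd hs hQE hmulti hQX ((nxt R R).mul_mem hy hz)
  have hy' := layers_inv h hd hs hQE hmulti hQX hy
  have hz' := layers_inv h hd hs hQE hmulti hQX hz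
  have e : u * (y * z) * u = u * y * u * (u * z * u) := by
    calc u * (y * z) * u = u * y * (u * u) * z * u := by rw [hd.sq_u, mul_one]; group
      _ = _ := by group
  rw [e, hy', hz', mul_inv_rev] at h1
  have h2 := congrArg (·⁻¹) h1
  simp only [mul_inv_rev, inv_inv] at h2
  exact h2.symm

/-- An involution `k u` with `k` in the Frattini part times `Q` has `k` in the Frattini part. -/
theorem layers_mem_nxt {k : G} (hk : k ∈ nxt R R ⊔ Q) (h2 : k * u * (k * u) = 1) :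
    k ∈ nxt R R := by
  have hΦR : nxt R R ≤ R := nxt_le le_normalizer
  rw [sup_comm] at hk
  obtain ⟨q, hq, y, hy, rfl⟩ :=
    (Coprime.mem_sup_iff (hΦR.trans (hd.M_le_normalizer_Q hQX))).mp hk
  have hyu := layers_inv h hd hs hQE hmulti hQX hy
  have hc : Commute y q := hd.commute_nxt (hQX hq) hy
  have e : q * y * u * (q * y * u) = q * q := by
    calc q * y * u * (q * y * u) = q * y * (u * q) * y * u := by group
      _ = q * y * (q * u) * y * u := by rw [(hd.commute q hq).eq]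
      _ = q * (y * q) * (u * y * u) := by group
      _ = q * (q * y) * y⁻¹ := by rw [hc.eq, hyu]
      _ = q * q := by group
  rw [e] at h2
  exact (nxt R R).mul_mem (H72.Asch.E_le_nxt hd hQE (hd.omega q hq h2)) hy

/-- The classes are involutions. -/
theorem layers_class_sq (g : G) : g * u * g⁻¹ * u * u * (g * u * g⁻¹ * u * u) = 1 := by
  rw [mul_assoc _ u u, hd.sq_u, mul_one, conj_mul, hd.sq_u, mul_one, mul_inv_cancel]

/-- A class in the Frattini part times `Q` is trivial modulo `N`. -/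
theorem layers_class_mem_N {g : G} (hk : g * u * g⁻¹ * u ∈ nxt R R ⊔ Q) :
    g * u * g⁻¹ * u ∈ N :=
  hd.nxt_le_of_sq h.data.sq_mem
    (layers_mem_nxt h hd hs hQE hmulti hQX hk (layers_class_sq h hd hs hQE hmulti hQX g))

/-- An `A`-invariant subgroup containing the classes, the Frattini part and `Q` is `⁅R, A⁆`. -/
theorem layers_eq_top {S : Subgroup G} (hWS : nxt R R ⊔ Q ≤ S) (hSK : S ≤ ⁅R, A⁆)
    (hAS : A ≤ normalizer (S : Set G))
    (hcl : ∀ g ∈ classGroup x E R, g * u * g⁻¹ * u ∈ S) : S = ⁅R, A⁆ := by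
  by_contra hne
  obtain ⟨k, hk, hkS⟩ := SetLike.exists_of_lt (lt_of_le_of_ne hSK hne)
  have hu := hd.u_notMem_commutator (Or.inl hs)
  have h1 := (H72.Asch.card_mul_le_section hd hSK hd.commutator_le hAS hd.normA_commutator hu
    hk hkS).1
  obtain ⟨h2, -, -⟩ := H72.Asch.layers_of_le hd hs hQE hmulti (hQX := hQX)
  have h3 : nxt R R ⊔ hd.zTwo ≤ nxt R R ⊔ Q :=
    sup_le le_sup_left (H72.Asch.zTwo_le_of_Q_le hd hs hQE hmulti (hQX := hQX))
  have h4 : Nat.card E * Nat.card S ≤ Nat.card E * Nat.card (nxt R R ⊔ Q : Subgroup G) :=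
    h1.trans (h2.trans (Nat.mul_le_mul_left _ (card_le_of_le h3)))
  have hSW : S = nxt R R ⊔ Q :=
    (eq_of_le_of_card_ge hWS (Nat.le_of_mul_le_mul_left h4 Nat.card_pos)).symm
  obtain ⟨k₀, hk₀, hk₀N⟩ := h.data.exists_ne_top
  obtain ⟨g, hg, hgk⟩ := h.orbit k₀ hk₀
  refine hk₀N ?_
  have h5 := N.mul_mem (N.inv_mem hgk)
    (layers_class_mem_N h hd hs hQE hmulti hQX (hSW ▸ hcl g hg))
  rwa [show (g * u * g⁻¹ * u * k₀⁻¹)⁻¹ * (g * u * g⁻¹ * u) = k₀ by group] at h5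

/-- `⁅R, A⁆` centralises the Frattini part. -/
theorem layers_K_nxt {k y : G} (hk : k ∈ ⁅R, A⁆) (hy : y ∈ nxt R R) : Commute k y := by
  set S : Subgroup G := ⁅R, A⁆ ⊓ centralizer (nxt R R : Set G) with hS
  have hΦK : nxt R R ≤ ⁅R, A⁆ := hd.nxt_le_commutator
  have hW : nxt R R ⊔ Q ≤ S := sup_le
    (le_inf hΦK fun a ha => mem_centralizer_iff.mpr fun b hb =>
      (layers_nxt_comm h hd hs hQE hmulti hQX hb ha).eq)
    (le_inf hd.Q_le_commutator fun q hq => mem_centralizer_iff.mpr fun b hb =>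
      (hd.commute_nxt (hQX hq) hb).eq)
  have hAS : A ≤ normalizer (S : Set G) := inf_norm hd.normA_commutator
    (le_normalizer_iff.mpr fun a ha c hc => mem_centralizer_iff.mpr fun b hb => by
      have hb' := (mem_normalizer_iff.mp (norm_nxt hd.normM hd.normM (inv_mem ha)) b).mp hb
      have h1 := commute_conj (show Commute _ c from mem_centralizer_iff.mp hc _ hb') a
      rw [show a * (a⁻¹ * b * a⁻¹⁻¹) * a⁻¹ = b by group] at h1
      exact h1.eq)
  have hcl : ∀ g ∈ classGroup x E R, g * u * g⁻¹ * u ∈ S := by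
    intro g hg
    refine mem_inf.mpr ⟨h.data.conj_mul_mem g hg, mem_centralizer_iff.mpr fun b hb => ?_⟩
    have hgR := (mem_inf.mp hg).2
    have hb' := (mem_normalizer_iff.mp (norm_nxt le_rfl le_rfl (inv_mem hgR)) b).mp hb
    rw [inv_inv] at hb'
    have hv : g * u * g⁻¹ * b * (g * u * g⁻¹) = b⁻¹ := by
      calc g * u * g⁻¹ * b * (g * u * g⁻¹) = g * (u * (g⁻¹ * b * g) * u) * g⁻¹ := by group
        _ = g * (g⁻¹ * b * g)⁻¹ * g⁻¹ := by rw [layers_inv h hd hs hQE hmulti hQX hb']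
        _ = b⁻¹ := by group
    have hub := layers_inv h hd hs hQE hmulti hQX hb
    set v := g * u * g⁻¹ with hvdef
    have hvv : v * v = 1 := by rw [hvdef, conj_mul, hd.sq_u, mul_one, mul_inv_cancel]
    calc b * (v * u) = v * (v * b * v) * v * v * u := by
          rw [show v * (v * b * v) * v * v * u = (v * v) * b * (v * v) * (v * u) by group, hvv,
            one_mul, mul_one]
      _ = v * b⁻¹ * (v * v) * u := by rw [hv]; group
      _ = v * (u * b * u) * u := by rw [hvv, mul_one, hub]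
      _ = v * u * b * (u * u) := by group
      _ = v * u * b := by rw [hd.sq_u, mul_one]
  have hSK := layers_eq_top h hd hs hQE hmulti hQX hW inf_le_left hAS hcl
  exact (mem_centralizer_iff.mp (mem_inf.mp (hSK ▸ hk : k ∈ S)).2 y hy).symm

/-- The involutions of the Frattini part lie in `E`. -/
theorem layers_omega {y : G} (hy : y ∈ nxt R R) (h2 : y * y = 1) : y ∈ E := by
  refine H72.Asch.inf_le_E hd hs hQE hmulti (hQX := hQX) (mem_inf.mpr ⟨hy,
    hd.mem_Q_of_commute (hd.u_notMem_commutator (Or.inl hs)) (hd.nxt_le_commutator hy) ?_⟩)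
  have hyu := layers_inv h hd hs hQE hmulti hQX hy
  rw [inv_eq_of_mul_eq_one_right h2] at hyu
  calc y * u = u * y * u * u := by rw [hyu]
    _ = u * y := by rw [mul_assoc _ u u, hd.sq_u, mul_one]

/-- Commutators of `⁅R, A⁆` lie in `E`. -/
theorem layers_comm_mem {a b : G} (ha : a ∈ ⁅R, A⁆) (hb : b ∈ ⁅R, A⁆) : ⁅a, b⁆ ∈ E := by
  have haR := hd.commutator_le ha
  have hbR := hd.commutator_le hb
  have hcN : ⁅a, b⁆ ∈ nxt R R := comm_mem_nxt haR hbR
  refine layers_omega h hd hs hQE hmulti hQX hcN ?_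
  have hca : Commute a ⁅a, b⁆ := layers_K_nxt h hd hs hQE hmulti hQX ha hcN
  have e : ⁅a * a, b⁆ = a * ⁅a, b⁆ * a⁻¹ * ⁅a, b⁆ := by
    simp only [commutatorElement_def]; group
  rw [hca.eq, mul_inv_cancel_right] at e
  rw [← e, commutatorElement_eq_one_iff_commute.mpr
    ((layers_K_nxt h hd hs hQE hmulti hQX hb (sq_mem_nxt haR)).symm)]

/-- Every element of `⁅R, A⁆` is inverted by `u` modulo `E`. -/
theorem layers_twist {k : G} (hk : k ∈ ⁅R, A⁆) : k * u * (k * u) ∈ E := by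
  have hcE : ∀ {e r : G}, e ∈ E → r ∈ R → Commute e r := fun he hr => hd.central _ he _ hr
  have huK : ∀ {a}, a ∈ ⁅R, A⁆ → u * a * u ∈ ⁅R, A⁆ := fun {a} ha => by
    have h1 := (mem_normalizer_iff.mp (hd.normM_commutator hd.u_mem) a).mp ha
    rwa [hd.inv_u] at h1
  have hexp : ∀ {a}, a * u * (a * u) = a * (u * a * u) := fun {a} => by group
  let S : Subgroup G :=
    { carrier := {a | a ∈ ⁅R, A⁆ ∧ a * u * (a * u) ∈ E}
      one_mem' := ⟨one_mem _, by rw [one_mul, hd.sq_u]; exact E.one_mem⟩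
      mul_mem' := fun {a b} ha hb => ⟨mul_mem ha.1 hb.1, by
        have h1 := layers_comm_mem h hd hs hQE hmulti hQX hb.1 (huK ha.1)
        have e : a * b * u * (a * b * u) =
            a * (⁅b, u * a * u⁆ * (u * a * u)) * (b * (u * b * u)) := by
          calc a * b * u * (a * b * u) = a * b * (u * a * (u * u) * b * u) := by
                rw [hd.sq_u, mul_one]; group
            _ = _ := by rw [commutatorElement_def]; group
        have haR := hd.commutator_le ha.1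
        rw [e, ← mul_assoc a, ← (hcE h1 haR).eq, mul_assoc ⁅b, u * a * u⁆, ← hexp, ← hexp]
        exact E.mul_mem (E.mul_mem h1 ha.2) hb.2⟩
      inv_mem' := fun {a} ha => ⟨inv_mem ha.1, by
        have h1 := hcE ha.2 (hd.commutator_le (huK ha.1))
        have h2 : a⁻¹ * u * (a⁻¹ * u) = (u * a * u * a)⁻¹ := by
          rw [mul_inv_rev, mul_inv_rev, mul_inv_rev, hd.inv_u]; group
        rw [h2]
        refine E.inv_mem ?_
        have h3 := (hcE ha.2 (hd.commutator_le ha.1)).eq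
        have e : u * a * u * a = a⁻¹ * (a * u * (a * u)) * a := by group
        rw [e, mul_assoc, h3, inv_mul_cancel_left]
        exact ha.2⟩ }
  have hW : nxt R R ⊔ Q ≤ S := sup_le
    (fun y hy => ⟨hd.nxt_le_commutator hy, by
      rw [hexp, layers_inv h hd hs hQE hmulti hQX hy, mul_inv_cancel]; exact E.one_mem⟩)
    (fun q hq => ⟨hd.Q_le_commutator hq, by
      rw [(hd.commute q hq).symm.mul_mul_mul_comm, hd.sq_u, mul_one]; exact hd.sq_mem q hq⟩)
  have hAS : A ≤ normalizer (S : Set G) := le_normalizer_iff.mpr fun a ha b hb =>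
    ⟨(mem_normalizer_iff.mp (hd.normA_commutator ha) b).mp hb.1, by
      rw [show a * b * a⁻¹ * u * (a * b * a⁻¹ * u) =
        a * (b * (a⁻¹ * u * a) * (b * (a⁻¹ * u * a))) * a⁻¹ by group,
        show a⁻¹ * u * a = u by rw [mul_assoc, ← (hd.commute_A ha).eq, inv_mul_cancel_left]]
      exact (mem_normalizer_iff.mp (hd.normE ha) _).mp hb.2⟩
  have hcl : ∀ g ∈ classGroup x E R, g * u * g⁻¹ * u ∈ S := fun g hg =>
    ⟨h.data.conj_mul_mem g hg, by
      rw [layers_class_sq h hd hs hQE hmulti hQX g]; exact E.one_mem⟩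
  have hSK := layers_eq_top h hd hs hQE hmulti hQX hW (fun a ha => ha.1) hAS hcl
  exact (hSK ▸ hk : k ∈ S).2

/-- Squares are commutators with `u` modulo `E`. -/
theorem layers_comm_u {k : G} (hk : k ∈ ⁅R, A⁆) : ∃ e ∈ E, ⁅k, u⁆ = e * (k * k) := by
  have ht := layers_twist h hd hs hQE hmulti hQX hk
  refine ⟨_, ht, ?_⟩
  set e := k * u * (k * u) with he
  have hce : Commute e k := hd.central e ht k (hd.commutator_le hk)
  have h2 : u * k⁻¹ * u = e⁻¹ * k := by
    rw [he, mul_inv_rev, mul_inv_rev, hd.inv_u]; group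
  rw [hd.inv_E ht] at h2
  rw [commutatorElement_def, hd.inv_u, show k * u * k⁻¹ * u = k * (u * k⁻¹ * u) by group, h2,
    ← mul_assoc, ← hce.eq, mul_assoc]

/-- The squares of the bottom layer are commutators with `u`. -/
theorem layers_bottom_sq {y : G} (hy : y ∈ nxt R R ⊓ hd.zTwo) : y * y = ⁅y, u⁆ ∧ y * y ∈ E := by
  have hinv := layers_inv h hd hs hQE hmulti hQX (mem_inf.mp hy).1
  have e : ⁅y, u⁆ = y * y := by
    rw [commutatorElement_def, hd.inv_u]
    calc y * u * y⁻¹ * u = y * u * (u * y * u) * u := by rw [hinv]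
      _ = y * (u * u) * y * (u * u) := by group
      _ = y * y := by rw [hd.sq_u, mul_one, mul_one]
  exact ⟨e.symm, e ▸ hd.comm_u_zTwo (mem_inf.mp hy).2⟩

/-- Squaring maps the bottom layer onto `E`. -/
theorem layers_bottom_onto {e : G} (he : e ∈ E) : ∃ y ∈ nxt R R ⊓ hd.zTwo, y * y = e := by
  by_cases he1 : e = 1
  · exact ⟨1, one_mem _, by rw [he1, one_mul]⟩
  have hΦQ : ¬ nxt R R ≤ Q := fun hle => hmulti ⟨hd.u_mem, fun r hr =>
    hd.comm_u_mem_E (hle (comm_mem_nxt hr hd.u_mem))⟩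
  obtain ⟨y, hy, hyQ, hyc⟩ := exists_mem_layer hd.two (nxt_le le_normalizer)
    (norm_nxt le_normalizer le_normalizer) hΦQ
  have hΦR : nxt R R ≤ R := nxt_le le_normalizer
  have hyF : y ∈ nxt R R ⊓ hd.zTwo := mem_inf.mpr ⟨hy, ⟨hΦR hy, fun r hr => by
    refine H72.Asch.inf_le_E hd hs hQE hmulti (hQX := hQX) (mem_inf.mpr ⟨?_, hyc r hr⟩)
    exact (nxt R R).mul_mem ((mem_normalizer_iff.mp (norm_nxt le_normalizer le_normalizer hr) y).mp
      hy) ((nxt R R).inv_mem hy)⟩⟩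
  have hy1 : y * y ≠ 1 := fun e1 =>
    hyQ (hd.le_E (layers_omega h hd hs hQE hmulti hQX hy e1))
  obtain ⟨a, ha, hae⟩ :=
    hd.trans _ (layers_bottom_sq h hd hs hQE hmulti hQX hyF).2 hy1 e he he1
  refine ⟨a * y * a⁻¹, (mem_normalizer_iff.mp (inf_norm (norm_nxt hd.normM hd.normM)
    hd.normA_zTwo ha) y).mp hyF, ?_⟩
  rw [conj_mul, hae]

/-- An element of `⁅R, A⁆` with square in `E` lies in the Frattini part times `Q`. -/
theorem layers_mem_of_sq {k : G} (hk : k ∈ ⁅R, A⁆) (h2 : k * k ∈ E) : k ∈ nxt R R ⊔ Q := by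
  obtain ⟨e, he, hke⟩ := layers_comm_u h hd hs hQE hmulti hQX hk
  obtain ⟨y, hy, hye⟩ := layers_bottom_onto h hd hs hQE hmulti hQX (hke ▸ E.mul_mem he h2)
  have hy' := mem_inf.mp hy
  have h1 : ⁅k, u⁆ = ⁅y, u⁆ := by rw [← (layers_bottom_sq h hd hs hQE hmulti hQX hy).1, hye]
  have h3 := H72.Asch.inv_mul_mem_Q hd (hd.u_notMem_commutator (Or.inl hs)) hk
    (hd.nxt_le_commutator hy'.1) h1
  have := mul_mem (mem_sup_left hy'.1 : y ∈ nxt R R ⊔ Q) (mem_sup_right h3)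
  rwa [mul_inv_cancel_left] at this

/-- A class outside `N` has order at least eight. -/
theorem layers_class_order {g : G} (hg : g ∈ classGroup x E R) (hN : g * u * g⁻¹ * u ∉ N) :
    (g * u * g⁻¹ * u) * (g * u * g⁻¹ * u) ∉ E := fun h2 =>
  hN (layers_class_mem_N h hd hs hQE hmulti hQX
    (layers_mem_of_sq h hd hs hQE hmulti hQX (h.data.conj_mul_mem g hg) h2))

omit hmulti hQX h in
/-- Commutation with an element of `Q` as a homomorphism. -/
theorem exists_ad {p : G} (hp : p ∈ Q) :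
    ∃ D : Subgroup G, D ≤ E ∧ (∀ e, e ∈ D ↔ ∃ r ∈ Q, ⁅p, r⁆ = e) ∧
      ∀ (_hpE : p ∉ E), Nat.card D = 4 ∨ Nat.card E ≠ 8 := by
  classical
  let D : Subgroup G :=
    { carrier := {e | ∃ r ∈ Q, ⁅p, r⁆ = e}
      one_mem' := ⟨1, Q.one_mem, commutatorElement_one_right p⟩
      mul_mem' := fun {a b} ha hb => by
        obtain ⟨r, hr, rfl⟩ := ha
        obtain ⟨r', hr', rfl⟩ := hb
        exact ⟨r * r', Q.mul_mem hr hr', hd.comm_mul_right (hd.le hr) (hd.comm_mem p hp r' hr')⟩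
      inv_mem' := fun {a} ha => by
        obtain ⟨r, hr, rfl⟩ := ha
        exact ⟨r, hr, (hd.inv_E (hd.comm_mem p hp r hr)).symm⟩ }
  have hDE : D ≤ E := by rintro _ ⟨r, hr, rfl⟩; exact hd.comm_mem p hp r hr
  refine ⟨D, hDE, fun e => Iff.rfl, fun hpE => ?_⟩
  by_cases hE8 : Nat.card E = 8
  swap
  · exact Or.inr hE8
  left
  have hne : D ≠ E := fun e => by
    obtain ⟨r, hr, hre⟩ : p * p ∈ D := e ▸ hd.sq_mem p hp
    refine hpE ?_
    have hexp : p * r * (p * r) = p * p * (r * r) * ⁅p, r⁆ := by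
      have hcm := hd.comm_mem p hp r hr
      have h1 : r * p = ⁅r, p⁆ * (p * r) := by rw [commutatorElement_def]; group
      have h2 : ⁅r, p⁆ = ⁅p, r⁆ := hd.comm_symm hcm
      calc p * r * (p * r) = p * (r * p) * r := by group
        _ = p * (⁅p, r⁆ * (p * r)) * r := by rw [h1, h2]
        _ = p * p * (r * r) * ⁅p, r⁆ := by
          rw [← mul_assoc p ⁅p, r⁆, ← (hd.central _ hcm p (hd.le hp)).eq,
            show p * p * (r * r) * ⁅p, r⁆ = (p * p * (r * r)) * ⁅p, r⁆ by group,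
            (hd.central _ hcm (p * p * (r * r))
              (R.mul_mem (R.mul_mem (hd.le hp) (hd.le hp))
                (R.mul_mem (hd.le hr) (hd.le hr)))).symm.eq]
          group
    rw [hre, mul_assoc (p * p),
      ← (hd.central _ (hd.sq_mem p hp) _ (R.mul_mem (hd.le hr) (hd.le hr))).eq,
      ← mul_assoc (p * p), hd.sq _ (hd.sq_mem p hp), one_mul] at hexp
    have h1 := hs.inj _ (Q.mul_mem hp hr) r hr hexp
    rwa [mul_inv_cancel_right] at h1
  obtain ⟨k, hk, l, hl, hk1, hl1, hkl⟩ := hs.rank p hp hpE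
  have h3 : 3 ≤ Nat.card D := by
    have hsub : ({1, ⁅p, k⁆, ⁅p, l⁆} : Set G) ⊆ (D : Set G) := by
      simp only [Set.insert_subset_iff, Set.singleton_subset_iff, SetLike.mem_coe]
      exact ⟨D.one_mem, ⟨k, hk, rfl⟩, ⟨l, hl, rfl⟩⟩
    have h4 := Set.ncard_le_ncard hsub (Set.toFinite _)
    rw [Set.ncard_insert_of_notMem (by simp [Ne.symm hk1, Ne.symm hl1]), Set.ncard_pair hkl] at h4
    exact h4
  obtain ⟨j, hj⟩ := card_dvd_of_le hDE
  rw [hE8] at hj
  have h8 : Nat.card D ≠ 8 := fun e => hne (eq_of_le_of_card_ge hDE (by omega))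
  rcases j with _ | _ | _ | j
  · omega
  · omega
  · omega
  · exfalso; nlinarith

omit hmulti hQX in
/-- The two commutator hyperplanes at `p r` and `r` meet in `⟨[p, r]⟩`. -/
theorem layers_meet {p r e : G} (hp : p ∈ Q) (hr : r ∈ Q) (hc : ⁅p, r⁆ ≠ 1)
    (h1 : ∃ t ∈ Q, ⁅r, t⁆ = e) (h2 : ∃ t ∈ Q, ⁅p * r, t⁆ = e) : e = 1 ∨ e = ⁅p, r⁆ := by
  classical
  by_contra hne
  push Not at hne
  have hcR : ∀ {a}, a ∈ Q → a ∈ R := fun ha => hd.le ha
  have hpE : p ∉ E := fun he => hc (commutatorElement_eq_one_iff_commute.mpr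
    (hd.central p he r (hcR hr)))
  have hrE : r ∉ E := fun he => hc (commutatorElement_eq_one_iff_commute.mpr
    (hd.central r he p (hcR hp)).symm)
  have hprE : p * r ∉ E := fun he => hc (by
    rw [show p = p * r * r⁻¹ by group, commutatorElement_eq_one_iff_commute]
    exact (hd.central _ he r (hcR hr)).mul_left (Commute.refl r).inv_left)
  obtain ⟨Dr, hDrE, hDr, hDr4⟩ := exists_ad hd hs hQE hr
  obtain ⟨Dpr, hDprE, hDpr, hDpr4⟩ := exists_ad hd hs hQE (Q.mul_mem hp hr)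
  obtain ⟨Dp, hDpE, hDp, hDp4⟩ := exists_ad hd hs hQE hp
  have h8 := h.card_E
  have hr4 := (hDr4 hrE).resolve_right (fun hh => hh h8)
  have hpr4 := (hDpr4 hprE).resolve_right (fun hh => hh h8)
  have hp4 := (hDp4 hpE).resolve_right (fun hh => hh h8)
  set c := ⁅p, r⁆ with hcdef
  have hcE : c ∈ E := hd.comm_mem p hp r hr
  have heE : e ∈ E := hDrE ((hDr e).mpr h1)
  have hcr : c ∈ Dr := (hDr c).mpr ⟨p, hp, hd.comm_symm hcE⟩
  have hcpr : c ∈ Dpr := (hDpr c).mpr ⟨r, hr, by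
    rw [hd.comm_mul_left (hcR hp) (hd.comm_mem r hr r hr), ← hcdef,
      show ⁅r, r⁆ = 1 from commutatorElement_eq_one_iff_commute.mpr (Commute.refl r), one_mul]⟩
  have hinf : 3 ≤ Nat.card (Dr ⊓ Dpr : Subgroup G) := by
    have hsub : ({1, c, e} : Set G) ⊆ ((Dr ⊓ Dpr : Subgroup G) : Set G) := by
      simp only [Set.insert_subset_iff, Set.singleton_subset_iff, SetLike.mem_coe]
      exact ⟨one_mem _, mem_inf.mpr ⟨hcr, hcpr⟩, mem_inf.mpr ⟨(hDr e).mpr h1, (hDpr e).mpr h2⟩⟩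
    have h4 := Set.ncard_le_ncard hsub (Set.toFinite _)
    rw [Set.ncard_insert_of_notMem (by simp [Ne.symm hc, Ne.symm hne.1]),
      Set.ncard_pair (Ne.symm hne.2)] at h4
    exact h4
  obtain ⟨j, hj⟩ := card_dvd_of_le (inf_le_left : Dr ⊓ Dpr ≤ Dr)
  rw [hr4] at hj
  have hinf4 : Nat.card (Dr ⊓ Dpr : Subgroup G) = 4 := by
    rcases j with _ | _ | j
    · omega
    · omega
    · exfalso; nlinarith
  have heq : Dpr = Dr := (eq_of_le_of_card_ge inf_le_right (by omega)).symm.trans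
    (eq_of_le_of_card_ge inf_le_left (by omega))
  have hple : Dp ≤ Dr := by
    intro z hz
    obtain ⟨t, ht, rfl⟩ := (hDp z).mp hz
    have h5 : ⁅p * r, t⁆ ∈ Dr := heq ▸ (hDpr _).mpr ⟨t, ht, rfl⟩
    have h6 : ⁅r, t⁆ ∈ Dr := (hDr _).mpr ⟨t, ht, rfl⟩
    rw [hd.comm_mul_left (hcR hp) (hd.comm_mem r hr t ht)] at h5
    have := Dr.mul_mem (Dr.inv_mem h6) h5
    rwa [inv_mul_cancel_left] at this
  have hpeq : Dp = Dr := eq_of_le_of_card_ge hple (by omega)
  have hsqn : ∀ {a}, a ∈ Q → a ∉ E → (∀ z, z ∈ Dr ↔ ∃ t ∈ Q, ⁅a, t⁆ = z) → a * a ∉ Dr := by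
    intro a ha haE hD hmem
    obtain ⟨t, ht, hta⟩ := (hD _).mp hmem
    refine haE ?_
    have hsqc : a * t * (a * t) = t * t := by
      have h1' : t * a = ⁅t, a⁆ * (a * t) := by rw [commutatorElement_def]; group
      have hm : ⁅a, t⁆ ∈ E := hd.comm_mem a ha t ht
      calc a * t * (a * t) = a * (t * a) * t := by group
        _ = a * (⁅a, t⁆ * (a * t)) * t := by rw [h1', hd.comm_symm hm]
        _ = ⁅a, t⁆ * (a * a * (t * t)) := by
          rw [← mul_assoc a ⁅a, t⁆, ← (hd.central _ hm a (hcR ha)).eq]; group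
        _ = t * t := by
          rw [hta, ← mul_assoc, hd.sq _ (hd.sq_mem a ha), one_mul]
    have h7 := hs.inj _ (Q.mul_mem ha ht) t ht hsqc
    rwa [mul_inv_cancel_right] at h7
  have hp2 := hsqn hp hpE (fun z => by rw [← hpeq]; exact hDp z)
  have hr2 := hsqn hr hrE hDr
  have hpr2 := hsqn (Q.mul_mem hp hr) hprE (fun z => by rw [← heq]; exact hDpr z)
  have hidx : (Dr.subgroupOf E).index = 2 := by
    have h1' := (Dr.subgroupOf E).card_mul_index
    rw [Nat.card_congr (subgroupOfEquivOfLe hDrE).toEquiv, hr4, h8] at h1'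
    omega
  have hmul : p * p * (r * r) ∈ Dr := by
    have h9 := mul_mem_iff_of_index_two hidx (a := ⟨_, hd.sq_mem p hp⟩) (b := ⟨_, hd.sq_mem r hr⟩)
    simp only [mem_subgroupOf, coe_mul] at h9
    tauto
  refine hpr2 ?_
  have h1' : r * p = ⁅r, p⁆ * (p * r) := by rw [commutatorElement_def]; group
  have e3 : p * r * (p * r) = c * (p * p * (r * r)) := by
    calc p * r * (p * r) = p * (r * p) * r := by group
      _ = p * (c * (p * r)) * r := by rw [h1', hd.comm_symm hcE, ← hcdef]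
      _ = _ := by rw [← mul_assoc p c, ← (hd.central _ hcE p (hcR hp)).eq]; group
  rw [e3]
  exact Dr.mul_mem hcr hmul

/-- A class moves each element of `Q` by a commutator from `Q`. -/
theorem layers_class_ad {g : G} (hg : g ∈ classGroup x E R) {q : G} (hq : q ∈ Q) :
    ∃ t ∈ Q, ⁅q, t⁆ = ⁅g * u * g⁻¹ * u, q⁆ := by
  classical
  set k := g * u * g⁻¹ * u with hkdef
  have hk : k ∈ ⁅R, A⁆ := h.data.conj_mul_mem g hg
  have hkR := hd.commutator_le hk
  have hqR := hd.le hq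
  by_cases hqE : q ∈ E
  · exact ⟨1, Q.one_mem, by
      rw [commutatorElement_one_right, eq_comm, commutatorElement_eq_one_iff_commute]
      exact (hd.central q hqE k hkR).symm⟩
  obtain ⟨hgR, hgE⟩ := residue_norm h hd hs hg
  set e := ⁅k, q⁆ with hedef
  have heE : e ∈ E := (hQX hq).2 k hkR
  -- over every `q'` an element of `gQg⁻¹`
  have hlift : ∀ q' ∈ Q, ∃ y ∈ nxt R R ⊓ hd.zTwo, y * y = ⁅k, q'⁆ ∧
      g⁻¹ * (y * q') * g ∈ Q := by
    intro q' hq'
    obtain ⟨y, hy, hye⟩ :=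
      layers_bottom_onto h hd hs hQE hmulti hQX ((hQX hq').2 k hkR)
    refine ⟨y, hy, hye, ?_⟩
    have hy' := mem_inf.mp hy
    have hz : y * q' ∈ hd.zTwo := mul_mem hy'.2 (hQX hq')
    have hyk : Commute k y := layers_K_nxt h hd hs hQE hmulti hQX hk hy'.1
    have hzv : Commute (y * q') (g * u * g⁻¹) := by
      have hv : g * u * g⁻¹ = k * u := by rw [hkdef, mul_assoc _ u u, hd.sq_u, mul_one]
      rw [hv]
      have hyu := layers_inv h hd hs hQE hmulti hQX hy'.1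
      have h1 : k * u * (y * q') = y * q' * (k * u) := by
        calc k * u * (y * q') = k * (u * y * u) * (u * q') := by
              rw [show k * (u * y * u) * (u * q') = k * (u * y) * (u * u) * q' by group, hd.sq_u,
                mul_one]
              group
          _ = k * y⁻¹ * (q' * u) := by rw [hyu, (hd.commute q' hq').eq]
          _ = y⁻¹ * (k * q') * u := by
              rw [hyk.inv_right.eq]; group
          _ = y⁻¹ * (⁅k, q'⁆ * q' * k) * u := by rw [commutatorElement_def]; group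
          _ = y * q' * (k * u) := by rw [← hye]; group
      exact h1.symm
    rcases H72.Asch.mem_cases_of_commute_conj hd hgR hz.1 hzv with h2 | h2
    · exact h2
    · exfalso
      have h3 : g⁻¹ * (y * q') * g ∈ hd.zTwo := by
        have := H72.Asch.conj_mem_zTwo hd (inv_mem hgR) (inv_mem hgE) hz
        rwa [inv_inv] at this
      have h4 := mul_mem (inv_mem h3) (hQX h2)
      rw [inv_mul_cancel_left] at h4
      exact hmulti h4
  obtain ⟨y, hy, hye, hzQ⟩ := hlift q hq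
  have hy' := mem_inf.mp hy
  obtain ⟨D, hDE, hD, hD4⟩ := exists_ad hd hs hQE hq
  suffices e ∈ D from (hD e).mp this
  have hqK : q ∈ ⁅R, A⁆ := hd.Q_le_commutator hq
  have hyK : y ∈ ⁅R, A⁆ := hd.nxt_le_commutator hy'.1
  have hsq : y * q * (y * q) = e * (q * q) := by
    rw [(layers_K_nxt h hd hs hQE hmulti hQX hqK hy'.1).mul_mul_mul_comm, hye]
  have hback : ∀ z : G, g⁻¹ * z * g ∈ E → z ∈ E := fun z hz => by
    have := (mem_normalizer_iff.mp hgE _).mp hz
    rwa [show g * (g⁻¹ * z * g) * g⁻¹ = z by group] at this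
  -- `e q²` is no commutator of `q`
  have hout1 : e * (q * q) ∉ D := by
    intro hmem
    obtain ⟨r, hr, hre⟩ := (hD _).mp hmem
    obtain ⟨y', hy₁, -, hz'Q⟩ := hlift r hr
    have hy'' := mem_inf.mp hy₁
    have hy'K : y' ∈ ⁅R, A⁆ := hd.nxt_le_commutator hy''.1
    have hrK : r ∈ ⁅R, A⁆ := hd.Q_le_commutator hr
    have hcen : ∀ {w k' : G}, w ∈ nxt R R → k' ∈ ⁅R, A⁆ → Commute k' w :=
      fun hw hk' => layers_K_nxt h hd hs hQE hmulti hQX hk' hw
    have hcc : ⁅y * q, y' * r⁆ = ⁅q, r⁆ := by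
      have c3 : Commute y (q * (y' * r) * q⁻¹) :=
        (hcen hy'.1 (mul_mem (mul_mem hqK (mul_mem hy'K hrK)) (inv_mem hqK))).symm
      calc ⁅y * q, y' * r⁆ = y * (q * (y' * r) * q⁻¹) * y⁻¹ * (y' * r)⁻¹ := by
            rw [commutatorElement_def]; group
        _ = q * (y' * r) * q⁻¹ * (y' * r)⁻¹ := by rw [c3.eq, mul_inv_cancel_right]
        _ = (q * y') * r * q⁻¹ * r⁻¹ * y'⁻¹ := by group
        _ = (y' * q) * r * q⁻¹ * r⁻¹ * y'⁻¹ := by rw [(hcen hy''.1 hqK).eq]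
        _ = y' * ⁅q, r⁆ * y'⁻¹ := by rw [commutatorElement_def]; group
        _ = ⁅q, r⁆ := hd.conj_E (hd.commutator_le hy'K) (hd.comm_mem q hq r hr)
    set p := g⁻¹ * (y * q) * g with hpdef
    set p' := g⁻¹ * (y' * r) * g with hp'def
    have hpp : ⁅p, p'⁆ = p * p := by
      rw [hpdef, hp'def, show g⁻¹ * (y * q) * g * (g⁻¹ * (y * q) * g) =
          g⁻¹ * (y * q * (y * q)) * g by group, hsq, ← hre, ← hcc]
      simp only [commutatorElement_def]; group
    obtain ⟨Dp, -, hDp, -⟩ := exists_ad hd hs hQE hzQ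
    have hpE : p ∉ E := fun hp => hqE (by
      have h1 := hback _ hp
      refine H72.Asch.inf_le_E hd hs hQE hmulti (hQX := hQX) (mem_inf.mpr ⟨?_, hq⟩)
      have h2 := (nxt R R).mul_mem ((nxt R R).inv_mem hy'.1) (H72.Asch.E_le_nxt hd hQE h1)
      rwa [inv_mul_cancel_left] at h2)
    refine hpE ?_
    have h1 : p' * p = ⁅p', p⁆ * (p * p') := by rw [commutatorElement_def]; group
    have hm : ⁅p, p'⁆ ∈ E := hd.comm_mem p hzQ p' hz'Q
    have h2 : p * p' * (p * p') = p' * p' := by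
      calc p * p' * (p * p') = p * (p' * p) * p' := by group
        _ = p * (⁅p, p'⁆ * (p * p')) * p' := by rw [h1, hd.comm_symm hm]
        _ = ⁅p, p'⁆ * (p * p * (p' * p')) := by
          rw [← mul_assoc p ⁅p, p'⁆, ← (hd.central _ hm p (hd.le hzQ)).eq]; group
        _ = p' * p' := by rw [hpp, ← mul_assoc, hd.sq _ (hd.sq_mem p hzQ), one_mul]
    have h3 := hs.inj _ (Q.mul_mem hzQ hz'Q) p' hz'Q h2
    rwa [mul_inv_cancel_right] at h3
  -- `q²` is no commutator of `q`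
  have hout2 : q * q ∉ D := by
    intro hmem
    obtain ⟨r, hr, hre⟩ := (hD _).mp hmem
    refine hqE ?_
    have h1 : r * q = ⁅r, q⁆ * (q * r) := by rw [commutatorElement_def]; group
    have hm : ⁅q, r⁆ ∈ E := hd.comm_mem q hq r hr
    have h2 : q * r * (q * r) = r * r := by
      calc q * r * (q * r) = q * (r * q) * r := by group
        _ = q * (⁅q, r⁆ * (q * r)) * r := by rw [h1, hd.comm_symm hm]
        _ = ⁅q, r⁆ * (q * q * (r * r)) := by
          rw [← mul_assoc q ⁅q, r⁆, ← (hd.central _ hm q hqR).eq]; group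
        _ = r * r := by rw [hre, ← mul_assoc, hd.sq _ (hd.sq_mem q hq), one_mul]
    have h3 := hs.inj _ (Q.mul_mem hq hr) r hr h2
    rwa [mul_inv_cancel_right] at h3
  have hidx : (D.subgroupOf E).index = 2 := by
    have h1 := (D.subgroupOf E).card_mul_index
    rw [Nat.card_congr (subgroupOfEquivOfLe hDE).toEquiv,
      (hD4 hqE).resolve_right (fun hh => hh h.card_E), h.card_E] at h1
    omega
  by_contra heD
  have h1 := mul_mem_iff_of_index_two hidx (a := ⟨e, heE⟩) (b := ⟨_, hd.sq_mem q hq⟩)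
  simp only [mem_subgroupOf, coe_mul] at h1
  exact hout1 (h1.mpr (by tauto))

omit hmulti hQX in
/-- The centraliser in `Q` of an element outside `E`. -/
theorem layers_cent_Q {p q : G} (hp : p ∈ Q) (hq : q ∈ Q) (hpE : p ∉ E) (hc : ⁅p, q⁆ = 1) :
    q ∈ E ∨ p⁻¹ * q ∈ E := by
  classical
  obtain ⟨D, hDE, hD, hD4⟩ := exists_ad hd hs hQE hp
  have hD4' := (hD4 hpE).resolve_right (fun hh => hh h.card_E)
  let f : Q →* D := MonoidHom.mk' (fun r => ⟨⁅p, (r : G)⁆, (hD _).mpr ⟨r, r.2, rfl⟩⟩) fun a b =>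
    Subtype.ext (hd.comm_mul_right (hd.le a.2) (hd.comm_mem p hp b b.2))
  have hf : f.range = ⊤ := MonoidHom.range_eq_top.mpr fun z => by
    obtain ⟨r, hr, hre⟩ := (hD z).mp z.2
    exact ⟨⟨r, hr⟩, Subtype.ext hre⟩
  have hker : Nat.card f.ker = 16 := by
    have h1 := f.ker.card_mul_index
    rw [Subgroup.index_ker, hf, Subgroup.card_top, hD4', hd.card_Q hs hQE, h.card_E] at h1
    omega
  have hmem : ∀ r : Q, r ∈ f.ker ↔ ⁅p, (r : G)⁆ = 1 := fun r => by
    rw [MonoidHom.mem_ker, Subtype.ext_iff]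
    rfl
  have hE : ∀ e ∈ E, ⁅p, e⁆ = 1 := fun e he => hd.comm_E (hd.le hp) he
  let g : Bool × E → f.ker := fun z => if z.1 then ⟨⟨p * z.2, Q.mul_mem hp (hd.le_E z.2.2)⟩,
      (hmem _).mpr (by
        show ⁅p, p * (z.2 : G)⁆ = 1
        rw [hd.comm_mul_right (hd.le hp) (by rw [hE _ z.2.2]; exact E.one_mem), hE _ z.2.2,
          mul_one, commutatorElement_eq_one_iff_commute])⟩
    else ⟨⟨z.2, hd.le_E z.2.2⟩, (hmem _).mpr (hE _ z.2.2)⟩
  have hg : Function.Injective g := by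
    rintro ⟨b, e⟩ ⟨b', e'⟩ hbe
    have h1 := congrArg (fun z : f.ker => ((z : Q) : G)) hbe
    cases b <;> cases b' <;> simp [g] at h1
    · rw [h1]
    · exact absurd (show p ∈ E by
        rw [show p = (e : G) * (e' : G)⁻¹ by rw [h1]; group]
        exact E.mul_mem e.2 (E.inv_mem e'.2)) hpE
    · exact absurd (show p ∈ E by
        rw [show p = (e' : G) * (e : G)⁻¹ by rw [← h1]; group]
        exact E.mul_mem e'.2 (E.inv_mem e.2)) hpE
    · rw [h1]
  have hsurj : Function.Surjective g := ((Nat.bijective_iff_injective_and_card g).mpr ⟨hg, by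
    rw [Nat.card_prod, Nat.card_eq_fintype_card (α := Bool), Fintype.card_bool, h.card_E,
      hker]⟩).2
  obtain ⟨⟨b, e⟩, he⟩ := hsurj ⟨⟨q, hq⟩, (hmem _).mpr hc⟩
  have h1 := congrArg (fun z : f.ker => ((z : Q) : G)) he
  cases b <;> simp [g] at h1
  · exact Or.inl (h1 ▸ e.2)
  · exact Or.inr (by rw [← h1, inv_mul_cancel_left]; exact e.2)

/-- A class corrected by an element of `Q` centralises `Q`. -/
theorem layers_exists_correct {g : G} (hg : g ∈ classGroup x E R) :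
    ∃ s ∈ Q, ∀ q ∈ Q, ⁅g * u * g⁻¹ * u * s, q⁆ = 1 := by
  classical
  set k := g * u * g⁻¹ * u with hkdef
  have hkR : k ∈ R := hd.commutator_le (h.data.conj_mul_mem g hg)
  have hqE : ∀ {a b}, a ∈ Q → b ∈ Q → ⁅a, b⁆ ∈ E := fun ha hb => hd.comm_mem _ ha _ hb
  have hmul : ∀ {s q}, s ∈ Q → q ∈ Q → ⁅k * s, q⁆ = ⁅q, s⁆ * ⁅k, q⁆ := fun {s q} hs' hq => by
    rw [hd.comm_mul_left hkR (hqE hs' hq), hd.comm_symm (hqE hq hs')]
  have hkE : ∀ {q}, q ∈ Q → ⁅k, q⁆ ∈ E := fun hq => (hQX hq).2 k hkR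
  have had : ∀ {s q}, s ∈ Q → q ∈ Q → ∃ t ∈ Q, ⁅q, t⁆ = ⁅k * s, q⁆ := fun {s q} hs' hq => by
    obtain ⟨t, ht, hte⟩ := layers_class_ad h hd hs hQE hmulti hQX hg hq
    exact ⟨s * t, Q.mul_mem hs' ht, by
      rw [hmul hs' hq, hd.comm_mul_right (hd.le hs') (hqE hq ht), hte]⟩
  have hlin : ∀ {s a b}, s ∈ Q → a ∈ Q → b ∈ Q →
      ⁅k * s, a * b⁆ = ⁅k * s, a⁆ * ⁅k * s, b⁆ := fun {s a b} hs' ha hb => by
    refine hd.comm_mul_right (hd.le ha) ?_
    rw [hmul hs' hb]
    exact E.mul_mem (hqE hb hs') (hkE hb)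
  obtain ⟨q₁, hq₁, hq₁E⟩ := hd.exists_notMem hQE
  obtain ⟨q₂, hq₂, -, -, hc, -, -⟩ := hs.rank q₁ hq₁ hq₁E
  have hq₂E : q₂ ∉ E := fun he => hc (hd.comm_E (hd.le hq₁) he)
  have hq12E : q₁ * q₂ ∉ E := fun he => hc (by
    have h1 := hd.comm_E (hd.le hq₁) he
    rwa [hd.comm_mul_right (hd.le hq₁) (hqE hq₁ hq₂),
      show ⁅q₁, q₁⁆ = 1 from commutatorElement_eq_one_iff_commute.mpr (Commute.refl q₁),
      one_mul] at h1)
  obtain ⟨t₁, ht₁, ht₁e⟩ := layers_class_ad h hd hs hQE hmulti hQX hg hq₁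
  have h11 : ⁅k * t₁, q₁⁆ = 1 := by rw [hmul ht₁ hq₁, ht₁e, hd.sq _ (hkE hq₁)]
  obtain ⟨s, hs', hs1, hs2⟩ : ∃ s ∈ Q, ⁅k * s, q₁⁆ = 1 ∧ ⁅k * s, q₂⁆ = 1 := by
    obtain ⟨t, ht, hte⟩ := had ht₁ hq₂
    obtain ⟨t', ht', hte'⟩ := had ht₁ (Q.mul_mem hq₁ hq₂)
    rw [hlin ht₁ hq₁ hq₂, h11, one_mul] at hte'
    rcases layers_meet h hd hs hQE hq₁ hq₂ hc ⟨t, ht, hte⟩ ⟨t', ht', hte'⟩ with e | e
    · exact ⟨t₁, ht₁, h11, e⟩
    · refine ⟨t₁ * q₁, Q.mul_mem ht₁ hq₁, ?_, ?_⟩ <;> rw [← mul_assoc]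
      · rw [hd.comm_mul_left (R.mul_mem hkR (hd.le ht₁)) (hqE hq₁ hq₁), h11, mul_one,
          commutatorElement_eq_one_iff_commute]
      · rw [hd.comm_mul_left (R.mul_mem hkR (hd.le ht₁)) (hqE hq₁ hq₂), e,
          hd.sq _ (hqE hq₁ hq₂)]
  refine ⟨s, hs', fun q hq => ?_⟩
  have hs12 : ⁅k * s, q₁ * q₂⁆ = 1 := by rw [hlin hs' hq₁ hq₂, hs1, hs2, one_mul]
  have htriv : ∀ {p}, p ∈ Q → p ∉ E → ⁅k * s, p⁆ = 1 → ⁅p, q⁆ = 1 → ⁅k * s, q⁆ = 1 := by
    intro p hp hpE hkp hpq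
    have hd0 : ∀ {e}, e ∈ E → ⁅k * s, e⁆ = 1 := fun he =>
      hd.comm_E (R.mul_mem hkR (hd.le hs')) he
    rcases layers_cent_Q h hd hs hQE hp hq hpE hpq with h1 | h1
    · exact hd0 h1
    · rw [show q = p * (p⁻¹ * q) by group, hlin hs' hp (hd.le_E h1), hkp, hd0 h1, one_mul]
  by_cases hc1 : ⁅q₁, q⁆ = 1
  · exact htriv hq₁ hq₁E hs1 hc1
  by_cases hc2 : ⁅q₂, q⁆ = 1
  · exact htriv hq₂ hq₂E hs2 hc2
  by_cases hc12 : ⁅q₁, q⁆ = ⁅q₂, q⁆
  · refine htriv (Q.mul_mem hq₁ hq₂) hq12E hs12 ?_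
    rw [hd.comm_mul_left (hd.le hq₁) (hqE hq₂ hq), hc12, hd.sq _ (hqE hq₂ hq)]
  obtain ⟨t, ht, hte⟩ := had hs' hq
  have hmeet : ∀ {p}, p ∈ Q → ⁅p, q⁆ ≠ 1 → ⁅k * s, p⁆ = 1 →
      ⁅k * s, q⁆ = 1 ∨ ⁅k * s, q⁆ = ⁅p, q⁆ := by
    intro p hp hpq hkp
    obtain ⟨t', ht', hte'⟩ := had hs' (Q.mul_mem hp hq)
    rw [hlin hs' hp hq, hkp, one_mul] at hte'
    exact layers_meet h hd hs hQE hp hq hpq ⟨t, ht, hte⟩ ⟨t', ht', hte'⟩
  rcases hmeet hq₁ hc1 hs1 with e | e
  · exact e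
  · exact (hmeet hq₂ hc2 hs2).resolve_right fun e' => hc12 (e.symm.trans e')

/-- `⁅R, A⁆ = Q L` for the centraliser `L` of the second centre. -/
theorem layers_split {k : G} (hk : k ∈ ⁅R, A⁆) :
    ∃ q ∈ Q, ∃ l ∈ ⁅R, A⁆ ⊓ centralizer (hd.zTwo : Set G), k = q * l := by
  set L := ⁅R, A⁆ ⊓ centralizer (hd.zTwo : Set G) with hL
  have hLQ : L ≤ normalizer (Q : Set G) := fun l hl =>
    hd.M_le_normalizer_Q hQX (hd.commutator_le (mem_inf.mp hl).1)
  have hAL : A ≤ normalizer (L : Set G) :=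
    inf_norm hd.normA_commutator hd.inf_centralizer_zTwo_normA
  have hW : nxt R R ⊔ Q ≤ Q ⊔ L := sup_le
    ((le_inf hd.nxt_le_commutator fun y hy => mem_centralizer_iff.mpr fun z hz =>
      (hd.commute_nxt hz hy).eq.symm).trans le_sup_right) le_sup_left
  have hAS : A ≤ normalizer ((Q ⊔ L : Subgroup G) : Set G) := le_normalizer_iff.mpr
    fun a ha c hc => by
      have hle : Q ⊔ L ≤ (Q ⊔ L).comap (MulAut.conj a).toMonoidHom := sup_le
        (fun q hq => mem_sup_left ((mem_normalizer_iff.mp (hd.normQ ha) q).mp hq))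
        fun l hl => mem_sup_right ((mem_normalizer_iff.mp (hAL ha) l).mp hl)
      exact hle hc
  have hcl : ∀ g ∈ classGroup x E R, g * u * g⁻¹ * u ∈ Q ⊔ L := by
    intro g hg
    obtain ⟨s, hs', hsq⟩ := layers_exists_correct h hd hs hQE hmulti hQX hg
    have hkK := h.data.conj_mul_mem g hg
    have hl : g * u * g⁻¹ * u * s ∈ L := by
      refine mem_inf.mpr ⟨mul_mem hkK (hd.Q_le_commutator hs'),
        mem_centralizer_iff.mpr fun z hz => ?_⟩
      have hKy : ∀ y ∈ nxt R R, Commute y (g * u * g⁻¹ * u * s) := fun y hy =>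
        (layers_K_nxt h hd hs hQE hmulti hQX (mul_mem hkK (hd.Q_le_commutator hs')) hy).symm
      have hle : nxt R R ⊔ Q ≤ centralizer {g * u * g⁻¹ * u * s} := sup_le
        (fun y hy => mem_centralizer_singleton_iff.mpr (hKy y hy).eq)
        (fun q hq => mem_centralizer_singleton_iff.mpr
          (commutatorElement_eq_one_iff_commute.mp (hsq q hq)).symm.eq)
      exact (mem_centralizer_singleton_iff.mp
        (hle ((H72.Asch.zTwo_le_of_Q_le hd hs hQE hmulti (hQX := hQX)) hz)))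
    have := mul_mem (mem_sup_right hl : _ ∈ Q ⊔ L) (mem_sup_left (inv_mem hs'))
    rwa [mul_inv_cancel_right] at this
  have hSK := layers_eq_top h hd hs hQE hmulti hQX hW
    (sup_le hd.Q_le_commutator inf_le_left) hAS hcl
  obtain ⟨q, hq, l, hl, e⟩ := (Coprime.mem_sup_iff hLQ).mp (hSK ▸ hk : k ∈ Q ⊔ L)
  exact ⟨q, hq, l, hl, e.symm⟩

end Cfsg.Agent.H6.Asch
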