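import Cfsg.Agent.H6.Asch.ResidueBase
import Cfsg.Agent.H72.Asch.ShapeTwoLayers
import Cfsg.Agent.H72.Asch.ShapeTwoOne

/-!
The residue does not occur for a line of shape two in one layer, nor in several layers with `Q`
outside the second centre: `classGroup` would permute the squares of `Q` linearly, so `Q` would be
abelian.
-/

set_option autoImplicit false
set_option linter.style.haveILetI false
set_option linter.unusedSectionVars false

namespace Cfsg.Agent.H6.Asch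

open Subgroup MulAction
open Cfsg.Agent.H14.Asch
open Cfsg.Agent.H26.Asch (classGroup ClassData ClassResidue)
open Cfsg.Agent.H51.Asch (nxt nxt_le norm_nxt sq_mem_nxt comm_mem_nxt)
open scoped commutatorElement

universe u v

variable {G : Type u} [Group G] [Finite G] {Ω : Type v} [MulAction G Ω]
  {u : G} {x : Ω} {E Q R N A : Subgroup G} (h : ClassResidue u x E R ⁅R, A⁆ N A)
  (hd : ShapeData R Q E A u) (hs : Squaring Q E) (hQE : ¬ Q ≤ E)
include h hd hs hQE

omit hQE in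
/-- The elements normalising `R` in `classGroup` normalise it and `E`. -/
theorem residue_norm {g : G} (hg : g ∈ classGroup x E R) :
    g ∈ normalizer (R : Set G) ∧ g ∈ normalizer (E : Set G) :=
  ⟨(mem_inf.mp hg).2, (mem_inf.mp (mem_inf.mp hg).1).2⟩

/-- **The key lemma**: `classGroup` does not permute the classes of `Q` modulo a group `W` of
involutions centralising `Q`. -/
theorem residue_false_of_mod {W : Subgroup G}
    (hW : ∀ w ∈ W, w ∈ R ∧ w * w = 1 ∧ ∀ q ∈ Q, Commute w q)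
    (hmem : ∀ g ∈ classGroup x E R, ∀ q ∈ Q, ∃ q' ∈ Q, ∃ w ∈ W, g * q * g⁻¹ = q' * w) :
    False := by
  obtain ⟨q, hq, hqE⟩ := hd.exists_notMem hQE
  obtain ⟨k, hk, -, -, hqk, -, -⟩ := hs.rank q hq hqE
  have hnc : ¬ Commute q k := fun hc => hqk (commutatorElement_eq_one_iff_commute.mpr hc)
  have hcE : ∀ {e r : G}, e ∈ E → r ∈ R → Commute e r := fun he hr => hd.central _ he _ hr
  have hqR := hd.le hq
  have hkR := hd.le hk
  have hkE : k ∉ E := fun hkE => hnc (hcE hkE hqR).symm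
  have ha : q * q ∈ E := hd.sq_mem q hq
  have hb : k * k ∈ E := hd.sq_mem k hk
  have he : q * k * (q * k) ∈ E := hd.sq_mem _ (Q.mul_mem hq hk)
  have ha1 : q * q ≠ 1 := fun e => hqE (hd.omega q hq e)
  have hb1 : k * k ≠ 1 := fun e => hkE (hd.omega k hk e)
  have hab : q * q ≠ k * k := fun e => by
    have h1 := hs.inj q hq k hk e
    exact hnc (by
      have := (hcE h1 hkR).symm
      rw [show q = q * k⁻¹ * k by group]
      exact this.symm.mul_left (Commute.refl k))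
  have hfix : ∀ g ∈ classGroup x E R, g * (q * q) * g⁻¹ = q * q → g * (k * k) * g⁻¹ = k * k →
      g * (q * k * (q * k)) * g⁻¹ = q * k * (q * k) := by
    intro g hg h1 h2
    obtain ⟨q', hq', w, hw, hgq⟩ := hmem g hg q hq
    obtain ⟨k', hk', w', hw', hgk⟩ := hmem g hg k hk
    obtain ⟨hwR, hw2, hwQ⟩ := hW w hw
    obtain ⟨hw'R, hw'2, hw'Q⟩ := hW w' hw'
    have hsq : ∀ {p r z : G}, p ∈ Q → r ∈ Q → z * z = 1 → (∀ s ∈ Q, Commute z s) →
        g * p * g⁻¹ = r * z → g * (p * p) * g⁻¹ = r * r := fun {p r z} _ hr hz hzQ e => by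
      rw [← conj_mul, e, (hzQ r hr).mul_mul_mul_comm, hz, mul_one]
    have e1 : q' * q⁻¹ ∈ E :=
      hs.inj q' hq' q hq (by rw [← hsq hq hq' hw2 hwQ hgq, h1])
    have e2 : k' * k⁻¹ ∈ E :=
      hs.inj k' hk' k hk (by rw [← hsq hk hk' hw'2 hw'Q hgk, h2])
    set d := q' * q⁻¹ with hdd
    set d' := k' * k⁻¹ with hdd'
    obtain ⟨hzR, hz2, hzQ⟩ := hW _ (W.mul_mem hw hw')
    have hexp : g * (q * k) * g⁻¹ = d * d' * (q * k) * (w * w') := by
      rw [← conj_mul, hgq, hgk, show q' = d * q by rw [hdd, inv_mul_cancel_right],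
        show k' = d' * k by rw [hdd', inv_mul_cancel_right]]
      calc d * q * w * (d' * k * w') = d * q * (w * d') * k * w' := by group
        _ = d * q * (d' * w) * k * w' := by rw [(hcE e2 hwR).eq]
        _ = d * (q * d') * (w * k) * w' := by group
        _ = d * (d' * q) * (k * w) * w' := by rw [(hcE e2 hqR).eq, (hwQ k hk).eq]
        _ = _ := by group
    have hdz : Commute (d * d') (q * k * (w * w')) :=
      hcE (E.mul_mem e1 e2) (R.mul_mem (R.mul_mem hqR hkR) hzR)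
    rw [← conj_mul, hexp,
      show d * d' * (q * k) * (w * w') = d * d' * (q * k * (w * w')) by group,
      hdz.symm.mul_mul_mul_comm, hd.sq _ (E.mul_mem e1 e2), one_mul,
      (hzQ _ (Q.mul_mem hq hk)).mul_mul_mul_comm, hz2, mul_one]
  rcases residue_mem_of_fixed h ha hb he ha1 hb1 hab hfix with e | e | e | e
  · have h1 := hd.omega _ (Q.mul_mem hq hk) e
    refine hnc ?_
    rw [show k = q⁻¹ * (q * k) by group]
    exact (Commute.refl q).inv_right.mul_right (hcE h1 hqR).symm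
  · have h1 := hs.inj _ (Q.mul_mem hq hk) q hq e
    refine hkE ?_
    rw [show k = q⁻¹ * (q * k * q⁻¹) * q by group,
      show q⁻¹ * (q * k * q⁻¹) * q = q⁻¹ * ((q * k * q⁻¹) * q) by group, (hcE h1 hqR).eq,
      inv_mul_cancel_left]
    exact h1
  · have h1 := hs.inj _ (Q.mul_mem hq hk) k hk e
    rw [mul_inv_cancel_right] at h1
    exact hqE h1
  · refine hnc ?_
    have h1 : q * (k * q) * k = q * (q * k) * k := by
      calc q * (k * q) * k = q * k * (q * k) := by group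
        _ = q * q * (k * k) := e
        _ = _ := by group
    exact (mul_left_cancel (mul_right_cancel h1)).symm

/-- `classGroup` does not normalise `Q`. -/
theorem residue_false_of_normal
    (hQ : ∀ g ∈ classGroup x E R, ∀ q ∈ Q, g * q * g⁻¹ ∈ Q) : False :=
  residue_false_of_mod h hd hs hQE (W := ⊥)
    (fun w hw => by
      rw [mem_bot.mp hw]
      exact ⟨R.one_mem, one_mul 1, fun q _ => Commute.one_left q⟩)
    fun g hg q hq => ⟨_, hQ g hg q hq, 1, one_mem _, (mul_one _).symm⟩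

/-- **Several layers, `Q` outside the second centre**: no residue. -/
theorem residue_false_layers (hmulti : u ∉ hd.zTwo) (hQX : ¬ Q ≤ hd.zTwo) : False := by
  refine residue_false_of_mod h hd hs hQE (W := hd.zTwo) (fun w hw =>
    ⟨hw.1, hd.sq_zTwo hs hQE hmulti hQX hw,
      fun q hq => (hd.Q_comm_zTwo hs hQE hmulti hQX hq hw).symm⟩) fun g hg q hq => ?_
  obtain ⟨hgR, hgE⟩ := residue_norm h hd hs hg
  have hp : g * q * g⁻¹ ∈ ⁅R, A⁆ := h.invariant g hg q (hd.Q_le_commutator hq)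
  set r := g⁻¹ * u * g with hr
  have hrR : r ∈ R := by
    have := (mem_normalizer_iff.mp (inv_mem hgR) u).mp hd.u_mem
    rwa [inv_inv] at this
  have h1 : ⁅r, q⁆ ∈ hd.zTwo := hd.comm_Q_mem_zTwo hs hQE hmulti hQX r hrR q hq
  have h2 : ⁅g * q * g⁻¹, u⁆ ∈ hd.zTwo := by
    rw [show ⁅g * q * g⁻¹, u⁆ = g * ⁅r, q⁆⁻¹ * g⁻¹ by
      rw [hr]; simp only [commutatorElement_def]; group]
    exact H72.Asch.conj_mem_zTwo hd hgR hgE (inv_mem h1)
  obtain ⟨z, hz, q', hq', e⟩ := hd.exists_mul_eq hs hQE hmulti hQX hp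
    (hd.mem_E_of_comm_u_mem_zTwo hs hQE hmulti hQX h2)
  exact ⟨q', hq', z, hz, e.trans (hd.Q_comm_zTwo hs hQE hmulti hQX hq' hz).symm.eq⟩

/-- **One layer**: no residue. -/
theorem residue_false_oneLayer (hlayer : u ∈ hd.zTwo) (hmove : ∃ g ∈ R, ¬ Commute g u) :
    False := by
  classical
  obtain ⟨C, hc, hcases⟩ := H72.Asch.exists_layerCompl hd hs hlayer hmove hQE
  have d := h.data
  have hCR := H72.Asch.compl_le hd hc hs
  have hKR : ⁅R, A⁆ ≤ R := hd.commutator_le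
  rcases hcases with hQC | hnd
  swap
  · -- classes in `u E`
    obtain ⟨k, hk, hkN⟩ := d.exists_ne_top
    obtain ⟨g, hg, hgk⟩ := h.orbit k hk
    obtain ⟨hgR, hgE⟩ := residue_norm h hd hs hg
    have hEN : E ≤ N := fun e he => by
      obtain ⟨q, hq, rfl⟩ := hd.exists_sq hQE he
      exact d.sq_mem q (hd.le hq)
    refine hkN ?_
    have h1 := N.mul_mem (N.inv_mem hgk) (hEN (H72.Asch.conj_mul_mem_E hd hc hs hQE hnd hgR hgE))
    rwa [show (g * u * g⁻¹ * u * k⁻¹)⁻¹ * (g * u * g⁻¹ * u) = k by group] at h1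
  -- `C` is the centre of `⁅R, A⁆`
  have hK : ∀ k ∈ ⁅R, A⁆, ∃ q ∈ Q, ∃ y ∈ C, k = q * y :=
    fun k hk => H72.Asch.exists_eq_mul hd hc hs hk
  have hcen : ∀ y ∈ C, ∀ k ∈ ⁅R, A⁆, Commute y k := fun y hy k hk => by
    obtain ⟨q, hq, z, hz, rfl⟩ := hK k hk
    exact (hQC q hq y hy).symm.mul_right (hc.comm y hy z hz)
  have hZ : ∀ z ∈ ⁅R, A⁆, (∀ k ∈ ⁅R, A⁆, Commute z k) → z ∈ C := by
    intro z hz hzc
    obtain ⟨q, hq, y, hy, rfl⟩ := hK z hz
    refine C.mul_mem ?_ hy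
    by_contra hqC
    obtain ⟨l, hl, -, -, hql, -, -⟩ := hs.rank q hq fun he => hqC (hc.le_E he)
    refine hql (commutatorElement_eq_one_iff_commute.mpr ?_)
    have h1 := (hzc l (hd.Q_le_commutator hl)).mul_left (hQC l hl y hy).symm.inv_left
    rwa [mul_inv_cancel_right] at h1
  have hCg : ∀ g ∈ classGroup x E R, ∀ y ∈ C, g * y * g⁻¹ ∈ C := fun g hg y hy =>
    hZ _ (h.invariant g hg y (hc.le hy)) fun k hk => by
      have hk' := h.invariant g⁻¹ (inv_mem hg) k hk
      rw [inv_inv] at hk'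
      have h1 := commute_conj (hcen y hy _ hk') g
      rwa [show g * (g⁻¹ * k * g) * g⁻¹ = k by group] at h1
  -- commutation with `u` commutes with `classGroup`
  have hμ : ∀ g ∈ classGroup x E R, ∀ y ∈ C, ⁅g * y * g⁻¹, u⁆ = g * ⁅y, u⁆ * g⁻¹ := by
    intro g hg y hy
    have hcl := d.conj_mul_mem g hg
    set k := g * u * g⁻¹ * u with hk
    have hgu : g * u * g⁻¹ = k * u := by rw [hk, mul_assoc _ u u, hd.sq_u, mul_one]
    have hgy := hCg g hg y hy
    rw [hd.conj_comm, hgu, hd.comm_mul_right (hKR hcl)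
        (hc.layer _ (hCR hgy) _ hd.u_mem),
      commutatorElement_eq_one_iff_commute.mpr (hcen _ hgy _ hcl), one_mul]
  have hEe : ∀ y ∈ C, ⁅y, u⁆ ∈ E := fun y hy => hc.layer y (hCR hy) u hd.u_mem
  have hyE : ∀ y ∈ C, ⁅y, u⁆ = 1 → y ∈ E := fun y hy e => H72.Asch.compl_mem_E hd hc hs hy e
  by_cases hκ : ∀ y ∈ C, y * y = 1
  · refine residue_false_of_mod h hd hs hQE (W := C) (fun w hw =>
      ⟨hCR hw, hκ w hw, fun q hq => (hQC q hq w hw).symm⟩) fun g hg q hq => ?_
    exact hK _ (h.invariant g hg q (hd.Q_le_commutator hq))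
  push Not at hκ
  obtain ⟨y₀, hy₀, hy₀2⟩ := hκ
  have hdich : ∀ y ∈ C, y * y = 1 ∨ y * y = ⁅y, u⁆ := by
    intro y hy
    by_cases ha1 : ⁅y, u⁆ = 1
    · exact Or.inl (hd.sq y (hyE y hy ha1))
    refine residue_eq_of_fixed h (hEe y hy) (hc.sq y (hCR hy)) ha1 fun g hg hga => ?_
    rw [← hμ g hg y hy] at hga
    have h1 := H72.Asch.compl_diff hd hc hs (hCg g hg y hy) hy hga
    rw [← conj_mul, show g * y * g⁻¹ = y * (y⁻¹ * (g * y * g⁻¹)) by group,
      ((hd.central _ h1 y (hCR hy)).symm).symm.mul_mul_mul_comm, hd.sq _ h1, mul_one]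
  have hall : ∀ y ∈ C, y * y = ⁅y, u⁆ := by
    intro y hy
    by_cases ha1 : ⁅y, u⁆ = 1
    · rw [ha1]; exact hd.sq y (hyE y hy ha1)
    have h0 : y₀ * y₀ = ⁅y₀, u⁆ := (hdich y₀ hy₀).resolve_left hy₀2
    obtain ⟨a, ha, hae⟩ := hd.trans _ (hEe y₀ hy₀) (fun e => hy₀2 (h0.trans e)) _ (hEe y hy) ha1
    rw [hd.conj_comm_u ha] at hae
    have hay : a * y₀ * a⁻¹ ∈ C := (mem_normalizer_iff.mp (hc.normA ha) y₀).mp hy₀
    have h1 := H72.Asch.compl_diff hd hc hs hy hay hae.symm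
    refine (hdich y hy).resolve_left fun e => hy₀2 ?_
    set c := (a * y₀ * a⁻¹)⁻¹ * y with hcdef
    have h2 : y = a * y₀ * a⁻¹ * c := by rw [hcdef, mul_inv_cancel_left]
    rw [h2, (hd.central _ h1 _ (hCR hay)).mul_mul_mul_comm, hd.sq _ h1, mul_one, conj_mul] at e
    exact conj_eq_one_iff.mp e
  refine residue_false_of_normal h hd hs hQE fun g hg q hq => ?_
  have hcl := d.conj_mul_mem g hg
  set k := g * u * g⁻¹ * u with hkdef
  obtain ⟨q₀, hq₀, y₁, hy₁, hk⟩ := hK k hcl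
  -- the class representative lies in `C`
  have hq₀E : q₀ ∈ E := by
    refine hd.omega q₀ hq₀ ?_
    have h1 : k * u * (k * u) = 1 := by
      rw [hkdef, mul_assoc _ u u, hd.sq_u, mul_one, conj_mul, hd.sq_u, mul_one, mul_inv_cancel]
    have hkey : k * u * (k * u) = q₀ * q₀ * (y₁ * u * (y₁ * u)) := by
      rw [hk, mul_assoc q₀ y₁ u]
      exact ((hQC q₀ hq₀ y₁ hy₁).mul_right (hd.commute q₀ hq₀)).symm.mul_mul_mul_comm _ _
    have h3 : y₁ * u * (y₁ * u) = 1 := by
      have h4 : ⁅y₁, u⁆ = y₁ * u * y₁⁻¹ * u := by rw [commutatorElement_def, hd.inv_u]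
      have h5 : y₁ * y₁ = y₁ * u * y₁⁻¹ * u := (hall y₁ hy₁).trans h4
      have h6 : u * y₁⁻¹ * u = y₁ := (mul_left_cancel (a := y₁) (by
        rw [h5]; group)).symm
      calc y₁ * u * (y₁ * u) = y₁ * u * (u * y₁⁻¹ * u) * u := by rw [h6]; group
        _ = y₁ * (u * u) * y₁⁻¹ * (u * u) := by group
        _ = 1 := by rw [hd.sq_u, mul_one, mul_one, mul_inv_cancel]
    rw [h1, h3, mul_one] at hkey
    exact hkey.symm
  have hkC : k ∈ C := hk ▸ C.mul_mem (hc.le_E hq₀E) hy₁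
  have hp := h.invariant g hg q (hd.Q_le_commutator hq)
  refine hd.mem_Q_of_commute (hd.u_notMem_commutator (Or.inl hs)) hp ?_
  have h1 := commute_conj (hd.commute q hq) g
  rw [show g * u * g⁻¹ = k * u by rw [hkdef, mul_assoc _ u u, hd.sq_u, mul_one]] at h1
  have h2 := (hcen k hkC _ hp).inv_left.symm.mul_right h1
  rwa [inv_mul_cancel_left] at h2

end Cfsg.Agent.H6.Asch
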