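import Cfsg.Agent.H6.Asch.Main
import Cfsg.Agent.H72.Asch.Torus

/-!
The criterion from the two remaining steps, the rank theorem and the local data: the lines of rank
two exist unconditionally.
-/

set_option autoImplicit false

namespace Cfsg.Agent.H6.Asch

open Subgroup MulAction
open Cfsg.Agent.H14.Asch
open Cfsg.Agent.H73.Asch (RankTwoBad Line2 RankOnePairs NoBad HasLines2 liftSet)

universe u v

variable {G : Type u} [Group G] [Finite G] {Ω : Type v} [MulAction G Ω] [Finite Ω] {D : Set G}

/-- **The criterion in a group generated by the members**, from the rank theorem and the local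
data. -/
theorem noBad_generated_of_two (h : Crit G Ω D) (hgen : closure D = ⊤)
    (hpairs : (∀ t : G, orderOf t = 2 → ∀ a b : Ω, a ≠ b → t • a = a → t • b = b →
      RankTwoBad Ω D t) → RankOnePairs (G := G) Ω)
    (hkill : RankOnePairs (G := G) Ω → ∀ (t : G) (x : Ω) (E Q : Subgroup G), Line2 D t x E Q →
      (∃ (y : Ω) (R K A : Subgroup G), Chain t x y E R K A) ∨ t ∉ commutator G) :
    NoBad Ω D :=
  noBad_generated h hgen (H72.Asch.hasLines2 h) hpairs hkill

/-- **The criterion**, from the rank theorem and the local data of the group generated by the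
members. -/
theorem noBad_of_two_steps (h : Crit G Ω D)
    (hpairs : Crit ↥(closure D) Ω (liftSet D) → HasLines2 Ω (liftSet D) →
      (∀ t : ↥(closure D), orderOf t = 2 → ∀ a b : Ω, a ≠ b → t • a = a → t • b = b →
        RankTwoBad Ω (liftSet D) t) → RankOnePairs (G := ↥(closure D)) Ω)
    (hkill : Crit ↥(closure D) Ω (liftSet D) → HasLines2 Ω (liftSet D) →
      RankOnePairs (G := ↥(closure D)) Ω → ∀ (t : ↥(closure D)) (x : Ω)
        (E Q : Subgroup ↥(closure D)), Line2 (liftSet D) t x E Q →
        (∃ (y : Ω) (R K A : Subgroup ↥(closure D)), Chain t x y E R K A) ∨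
          t ∉ commutator ↥(closure D)) :
    NoBad Ω D :=
  noBad_of_steps h (fun h' => H72.Asch.hasLines2 h') hpairs hkill

end Cfsg.Agent.H6.Asch
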