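import Cfsg.Agent.H6.Asch.Hom
import Cfsg.Agent.H6.Asch.Parity
import Cfsg.Agent.H14.Asch.Local
import Cfsg.Agent.Derange.Fixed

/-!
A Sylow two-subgroup `S` of `N(E)` at `x` containing a Sylow subgroup `P` of the centraliser of `u`
there: `S = (S ∩ C(E)) T` with `T` fixing a second fixed point of `u`, all involutions of `S`
centralise `E`, `T` is abelian, and `S` is a Sylow two-subgroup of `G`.
-/

set_option autoImplicit false
set_option linter.style.haveILetI false

namespace Cfsg.Agent.H6.Asch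

open Subgroup MulAction
open Cfsg.Agent.H39
open Cfsg.Agent.H14.Asch
open Cfsg.Agent.H73.Asch (Line2 RankOnePairs)
open scoped commutatorElement

universe u v

variable {G : Type u} [Group G] {Ω : Type v} [MulAction G Ω] {u : G} {x y : Ω}
  {E Q R K A : Subgroup G}

theorem mem_normAt {g : G} :
    g ∈ normAt x E ↔ g • x = x ∧ g ∈ normalizer (E : Set G) := by
  rw [normAt, mem_inf, mem_stabilizer_iff]

theorem smul_of_mem_normAt {g : G} (hg : g ∈ normAt x E) : g • x = x := (mem_normAt.mp hg).1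

theorem commute_of_mem_centAt {g e : G} (hg : g ∈ centAt x E) (he : e ∈ E) : Commute e g :=
  (mem_centAt.mp hg).2 e he

/-- The Sylow pair. -/
structure Pair (u : G) (x : Ω) (E S P : Subgroup G) : Prop where
  S_two : IsPGroup 2 S
  S_le : S ≤ normAt x E
  S_max : ∀ S' : Subgroup G, IsPGroup 2 S' → S' ≤ normAt x E → S ≤ S' → S' ≤ S
  P_le : P ≤ S
  P_commute : ∀ p ∈ P, Commute p u
  P_max : ∀ P' : Subgroup G, IsPGroup 2 P' → P' ≤ normAt x E ⊓ centralizer {u} → P ≤ P' → P' ≤ P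

namespace Chain

variable (hc : Chain u x y E R K A)
include hc

omit hc in
theorem exists_pair [Finite G] (hQ : IsPGroup 2 Q) (hQM : Q ≤ normAt x E ⊓ centralizer {u}) :
    ∃ S P : Subgroup G, Pair u x E S P ∧ Q ≤ P := by
  obtain ⟨P, ⟨hP, hPle, hQP⟩, hPm⟩ := ({P : Subgroup G | IsPGroup 2 P ∧
    P ≤ normAt x E ⊓ centralizer {u} ∧ Q ≤ P}).exists_max_image (fun P => Nat.card P)
    (Set.toFinite _) ⟨Q, hQ, hQM, le_rfl⟩
  obtain ⟨S, ⟨hS, hSle, hPS⟩, hSm⟩ := ({S : Subgroup G | IsPGroup 2 S ∧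
    S ≤ normAt x E ∧ P ≤ S}).exists_max_image (fun S => Nat.card S)
    (Set.toFinite _) ⟨P, hP, hPle.trans inf_le_left, le_rfl⟩
  refine ⟨S, P, ⟨hS, hSle, fun S' h1 h2 h3 => ?_, hPS, fun p hp =>
    mem_centralizer_singleton_iff.mp (mem_inf.mp (hPle hp)).2, fun P' h1 h2 h3 => ?_⟩, hQP⟩
  · exact (Subgroup.eq_of_le_of_card_ge h3 (hSm S' ⟨h1, h2, hPS.trans h3⟩)).ge
  · exact (Subgroup.eq_of_le_of_card_ge h3 (hPm P' ⟨h1, h2, hQP.trans h3⟩)).ge

variable {S P : Subgroup G} (hp : Pair u x E S P)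
include hp

theorem u_mem_P [Finite G] : u ∈ P := by
  haveI : Fact (Nat.Prime 2) := ⟨Nat.prime_two⟩
  have hu2 : IsPGroup 2 (zpowers u) := hc.R_two.to_le (zpowers_le.mpr hc.u_mem)
  have hnorm : P ≤ normalizer (zpowers u : Set G) := fun p hpp => by
    refine Subgroup.centralizer_le_normalizer _ (mem_centralizer_iff.mpr fun b hb => ?_)
    exact (commute_of_mem_zpowers (hp.P_commute p hpp) hb).eq.symm
  refine hp.P_max (P ⊔ zpowers u) ((hp.S_two.to_le hp.P_le).to_sup_of_normal_right' hu2 hnorm)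
    (sup_le (fun p hpp => mem_inf.mpr ⟨hp.S_le (hp.P_le hpp),
      mem_centralizer_singleton_iff.mpr (hp.P_commute p hpp).eq⟩) (zpowers_le.mpr (mem_inf.mpr
        ⟨centAt_le_normAt x E hc.u_centAt, mem_centralizer_singleton_iff.mpr rfl⟩)))
    le_sup_left (mem_sup_right (mem_zpowers u))

/-- `S = (S ∩ C(E)) P`. -/
theorem exists_mul [Finite G] {s : G} (hs : s ∈ S) :
    ∃ c ∈ S ⊓ centAt x E, ∃ p ∈ P, s = c * p := by
  haveI : Fact (Nat.Prime 2) := ⟨Nat.prime_two⟩
  set M := normAt x E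
  set H := M ⊓ centralizer ({u} : Set G)
  set C := (centAt x E).subgroupOf M with hCdef
  haveI : C.Normal := ⟨fun c hc m =>
    mem_subgroupOf.mpr (conj_mem_centAt m.2 (mem_subgroupOf.mp hc))⟩
  let f : H →* M ⧸ C := (QuotientGroup.mk' C).comp (Subgroup.inclusion inf_le_left)
  have hf : Function.Surjective f := by
    intro b
    induction b using QuotientGroup.induction_on with
    | _ g =>
      obtain ⟨c, hcC, hcu⟩ := hc.fused g g.2
      refine ⟨⟨c⁻¹ * g, mem_inf.mpr ⟨mul_mem (inv_mem (centAt_le_normAt x E hcC)) g.2,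
        mem_centralizer_singleton_iff.mpr ?_⟩⟩, ?_⟩
      · calc c⁻¹ * g * u = c⁻¹ * (g * u * (g : G)⁻¹) * g := by group
          _ = u * (c⁻¹ * g) := by rw [hcu]; group
      · refine QuotientGroup.eq.mpr (mem_subgroupOf.mpr ?_)
        show (c⁻¹ * (g : G))⁻¹ * g ∈ centAt x E
        rw [show (c⁻¹ * (g : G))⁻¹ * g = (g : G)⁻¹ * c * (g : G)⁻¹⁻¹ by group]
        exact conj_mem_centAt (inv_mem g.2) hcC
  have hPH : P ≤ H := fun p hpp => mem_inf.mpr ⟨hp.S_le (hp.P_le hpp),
    mem_centralizer_singleton_iff.mpr (hp.P_commute p hpp).eq⟩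
  let P' : Sylow 2 H :=
    { toSubgroup := P.subgroupOf H
      isPGroup' := (hp.S_two.to_le hp.P_le).comap_subtype
      is_maximal' := fun {P'} hP' hle => by
        refine le_antisymm (fun c hcP => mem_subgroupOf.mpr ?_) hle
        refine hp.P_max (P'.map H.subtype) (hP'.map _) (map_subtype_le _) ?_ ⟨c, hcP, rfl⟩
        exact fun r hr => ⟨⟨r, hPH hr⟩, hle (mem_subgroupOf.mpr hr), rfl⟩ }
  set S' := (S.subgroupOf M).map (QuotientGroup.mk' C)
  have hS' : IsPGroup 2 S' := (hp.S_two.comap_subtype).map _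
  have hle : (P'.mapSurjective hf : Subgroup (M ⧸ C)) ≤ S' := by
    rw [Sylow.coe_mapSurjective]
    rintro _ ⟨p, hpP, rfl⟩
    exact ⟨Subgroup.inclusion inf_le_left p, mem_subgroupOf.mpr (hp.P_le (mem_subgroupOf.mp hpP)),
      rfl⟩
  have hsS : QuotientGroup.mk' C ⟨s, hp.S_le hs⟩ ∈ (P'.mapSurjective hf : Subgroup (M ⧸ C)) := by
    rw [← (P'.mapSurjective hf).is_maximal' hS' hle]
    exact ⟨_, mem_subgroupOf.mpr hs, rfl⟩
  rw [Sylow.coe_mapSurjective] at hsS
  obtain ⟨p, hpP, hps⟩ := hsS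
  have hpP' : (p : G) ∈ P := mem_subgroupOf.mp hpP
  have hmem : (p : G)⁻¹ * s ∈ centAt x E := mem_subgroupOf.mp (QuotientGroup.eq.mp hps)
  refine ⟨s * (p : G)⁻¹, mem_inf.mpr ⟨mul_mem hs (inv_mem (hp.P_le hpP')), ?_⟩, p, hpP',
    by rw [inv_mul_cancel_right]⟩
  have := conj_mem_centAt (hp.S_le (hp.P_le hpP')) hmem
  rwa [show (p : G) * ((p : G)⁻¹ * s) * (p : G)⁻¹ = s * (p : G)⁻¹ by group] at this

variable {D : Set G} (hl : Line2 D u x E Q) (hQP : Q ≤ P)
include hl hQP

/-- `S = (S ∩ C(E)) T`, `T` the stabiliser of `y` in `P`. -/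
theorem exists_mul_stab [Finite G] {s : G} (hs : s ∈ S) :
    ∃ c ∈ S ⊓ centAt x E, ∃ t ∈ P ⊓ stabilizer G y, s = c * t := by
  obtain ⟨c, hcS, p, hpP, rfl⟩ := hc.exists_mul hp hs
  have hpx : p • x = x := smul_of_mem_normAt (hp.S_le (hp.P_le hpP))
  obtain ⟨g, hg, hgy⟩ := hl.trans y (p • y) hc.fix'
    (by rw [← mul_smul, ← (hp.P_commute p hpP).eq, mul_smul, hc.fix']) hc.ne
    fun e => hc.ne (MulAction.injective p (e.trans hpx.symm))
  have hgS : g ∈ S ⊓ centAt x E := mem_inf.mpr ⟨hp.P_le (hQP hg),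
    mem_centAt.mpr ⟨line2_smul hl hg, fun e he => (hl.central e he g hg).eq⟩⟩
  refine ⟨c * g, mul_mem hcS hgS, g⁻¹ * p, mem_inf.mpr ⟨mul_mem (inv_mem (hQP hg)) hpP, ?_⟩,
    by group⟩
  rw [mem_stabilizer_iff, mul_smul, ← hgy, inv_smul_smul]

omit hQP in
theorem eq_of_mul_self [Finite G] (hP : RankOnePairs (G := G) Ω) {t : G}
    (ht : t ∈ P ⊓ stabilizer G y) (h2 : t * t = 1) : t ∈ zpowers u := by
  obtain ⟨htP, hty⟩ := mem_inf.mp ht
  by_cases h1 : t = 1
  · rw [h1]; exact one_mem _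
  · rw [← hP u t x y hl.bad.1 (orderOf_eq_two_of_mul_self h2 h1) (hp.P_commute t htP).symm
      hc.ne.symm hl.fix hc.fix' (smul_of_mem_normAt (hp.S_le (hp.P_le htP)))
      (mem_stabilizer_iff.mp hty)]
    exact mem_zpowers u

omit hl hQP in
theorem mem_zpowers_of_centAt [Finite G] {t : G} (ht : t ∈ P ⊓ stabilizer G y)
    (htC : t ∈ centAt x E) : t ∈ zpowers u := by
  obtain ⟨htP, hty⟩ := mem_inf.mp ht
  obtain ⟨n, hn⟩ := IsPGroup.iff_orderOf.mp hp.S_two ⟨t, hp.P_le htP⟩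
  exact hc.pair t htC (hp.P_commute t htP) (mem_stabilizer_iff.mp hty)
    ⟨n, by rwa [← Subgroup.orderOf_coe] at hn⟩

/-- All involutions of `S` centralise `E`. -/
theorem mem_centAt_of_mul_self [Finite G] (hP : RankOnePairs (G := G) Ω) {v : G} (hv : v ∈ S)
    (hv2 : v * v = 1) : v ∈ centAt x E := by
  obtain ⟨c, hcS, t, ht, rfl⟩ := hc.exists_mul_stab hp hl hQP hv
  have hcC := (mem_inf.mp hcS).2
  have htM : t ∈ normAt x E := hp.S_le (hp.P_le (mem_inf.mp ht).1)
  have htu : Commute t u := hp.P_commute t (mem_inf.mp ht).1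
  have hu2 := mul_self_of_orderOf_eq_two hl.bad.1
  have htt : t * t ∈ centAt x E := by
    have : t * t = (c * (t * c * t⁻¹))⁻¹ := by
      refine eq_inv_of_mul_eq_one_right ?_
      rw [show c * (t * c * t⁻¹) * (t * t) = c * t * (c * t) by group, hv2]
    rw [this]
    exact inv_mem (mul_mem hcC (conj_mem_centAt htM hcC))
  by_cases htC : t ∈ centAt x E
  · exact mul_mem hcC htC
  exfalso
  obtain ⟨χ, hinv, hχu, -⟩ := hc.exists_chi hl.bad.1
  have htu' := hc.mem_zpowers_of_centAt hp (mul_mem ht ht) htt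
  have htt' : t * t = u := by
    obtain ⟨i, (hi : u ^ i = t * t)⟩ := htu'
    rcases Int.even_or_odd i with hev | hod
    · obtain ⟨j, rfl⟩ := hev
      have h1 : t * t = 1 := by
        rw [← hi, zpow_add, ← (Commute.refl u).mul_zpow, hu2, one_zpow]
      exact absurd (zpowers_le.mpr hc.u_centAt (hc.eq_of_mul_self hp hl hP ht h1)) htC
    · obtain ⟨j, rfl⟩ := hod
      rw [← hi]
      show u ^ (2 * j + 1) = u
      rw [zpow_add_one, zpow_mul, zpow_two, hu2, one_zpow, one_mul]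
  have e : (⟨u, hc.u_centAt⟩ : centAt x E) =
      (conjHom x E htM ⟨c, hcC⟩)⁻¹ * (⟨c, hcC⟩ : centAt x E)⁻¹ := Subtype.ext (by
    show u = (t * c * t⁻¹)⁻¹ * c⁻¹
    rw [← htt', ← mul_inv_rev]
    refine eq_inv_of_mul_eq_one_right ?_
    rw [show c * (t * c * t⁻¹) * (t * t) = c * t * (c * t) by group, hv2])
  apply hχu
  rw [e, map_mul, map_inv, map_inv, hc.chi_conj hinv htM (mem_inf.mp ht).2 htu, inv_eq_of_mul_eq_one_right
    (two_mul_self _), two_mul_self]

omit hQP in
/-- `T` is abelian. -/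
theorem commute_stab [Finite G] (h : Crit G Ω D) {s t : G}
    (hs : s ∈ P ⊓ stabilizer G y) (ht : t ∈ P ⊓ stabilizer G y) : Commute s t := by
  classical
  haveI : Fact (Nat.Prime 2) := ⟨Nat.prime_two⟩
  set T := P ⊓ stabilizer G y with hT
  have hTS : T ≤ S := inf_le_left.trans hp.P_le
  set Z := (zpowers u).subgroupOf T with hZ
  have hZc : Z ≤ Subgroup.center T := fun z hz => Subgroup.mem_center_iff.mpr fun g => Subtype.ext
    (commute_of_mem_zpowers (hp.P_commute g (mem_inf.mp g.2).1) (mem_subgroupOf.mp hz)).eq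
  haveI : Z.Normal := ⟨fun z hz g => by
    rwa [(Subgroup.mem_center_iff.mp (hZc hz) g), mul_inv_cancel_right]⟩
  have hcentAt : ∀ {g : G}, g ∈ zpowers u → g ∈ centAt x E := fun hg =>
    zpowers_le.mpr hc.u_centAt hg
  obtain ⟨hsemi, htwo⟩ := twoGroup_on_elementary (E := E) (O := core u x y E) (T := T)
    (fun e he => line2_mul_self hl h he)
    (fun e => by
      have h4 := hl.four_le
      rw [e, Subgroup.card_bot] at h4
      omega)
    (fun e he f hf => hl.central e he f (hl.E_le hf)) core_odd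
    (fun a ha => (mem_normAt.mp (core_normAt ha)).2)
    (fun a ha b hb ha1 hb1 => by
      obtain ⟨k, hk, hkab⟩ := hc.trans a ha b hb ha1 hb1
      obtain ⟨g, hg, hgk⟩ := hc.A_image k hk
      refine ⟨g, hg, ?_⟩
      calc g * a * g⁻¹ = g * (a * (g⁻¹ * k)) * k⁻¹ := by group
        _ = g * ((g⁻¹ * k) * a) * k⁻¹ := by rw [(commute_of_mem_centAt hgk ha).eq]
        _ = k * a * k⁻¹ := by group
        _ = b := hkab)
    (hp.S_two.to_le hTS) (fun g hg => (mem_normAt.mp (hp.S_le (hTS hg))).2)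
    (fun g hg => mem_normalizer_of_conj_mem fun a ha => conj_mem_core (hp.S_le (hTS hg))
      (mem_inf.mp hg).2 (hp.P_commute g (mem_inf.mp hg).1) ha)
  have hinC : ∀ {g : G}, g ∈ T → g ∈ centralizer (E : Set G) → g ∈ centAt x E := fun hg hgC =>
    mem_inf.mpr ⟨(hp.S_le (hTS hg)).1, hgC⟩
  set π := QuotientGroup.mk' Z with hπ
  have hcomm : ∀ a ∈ (⊤ : Subgroup (T ⧸ Z)), ∀ b ∈ (⊤ : Subgroup (T ⧸ Z)), a * b = b * a := by
    intro a _ b _
    induction a using QuotientGroup.induction_on with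
    | _ a =>
      induction b using QuotientGroup.induction_on with
      | _ b =>
        rw [← QuotientGroup.mk_mul, ← QuotientGroup.mk_mul, QuotientGroup.eq]
        refine mem_subgroupOf.mpr ?_
        have key : ∀ {a b : G}, a ∈ T → b ∈ T → ⁅a, b⁆ ∈ zpowers u := by
          intro a b ha hb
          have hab : ⁅a, b⁆ ∈ T := by
            rw [commutatorElement_def]
            exact mul_mem (mul_mem (mul_mem ha hb) (inv_mem ha)) (inv_mem hb)
          exact hc.mem_zpowers_of_centAt hp hab (hinC hab (hsemi a ha b hb))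
        have := key (inv_mem b.2) (inv_mem a.2)
        rw [commutatorElement_def, inv_inv, inv_inv] at this
        show ((a : G) * b)⁻¹ * (b * a) ∈ zpowers u
        rwa [mul_inv_rev, ← mul_assoc]
  have hTp : IsPGroup 2 T := hp.S_two.to_le hTS
  obtain ⟨h, -, hh⟩ := Derange.isCyclic_of_unique (q := 2) (A := (⊤ : Subgroup (T ⧸ Z)))
    (((hTp.of_surjective π (QuotientGroup.mk'_surjective Z))).to_subgroup ⊤) hcomm
    fun a _ b _ ha ha1 hb => by
      induction a using QuotientGroup.induction_on with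
      | _ a =>
        induction b using QuotientGroup.induction_on with
        | _ b =>
          rw [sq, ← QuotientGroup.mk_mul, QuotientGroup.eq_one_iff] at ha hb
          by_cases hb1 : (b : G) ∈ zpowers u
          · rw [(QuotientGroup.eq_one_iff b).mpr (mem_subgroupOf.mpr hb1)]
            exact one_mem _
          have hnot : ∀ {g : G}, g ∈ T → g ∉ zpowers u → g ∉ centAt x E := fun hg hgu hgC =>
            hgu (hc.mem_zpowers_of_centAt hp hg hgC)
          have ha1' : (a : G) ∉ zpowers u := fun e =>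
            ha1 ((QuotientGroup.eq_one_iff a).mpr (mem_subgroupOf.mpr e))
          have hwc := htwo a a.2 b b.2 (hcentAt (mem_subgroupOf.mp ha)).2
            (hcentAt (mem_subgroupOf.mp hb)).2 (fun e => hnot a.2 ha1' (hinC a.2 e))
            (fun e => hnot b.2 hb1 (hinC b.2 e))
          have hab : (a : G)⁻¹ * b ∈ T := mul_mem (inv_mem a.2) b.2
          have h1 := hc.mem_zpowers_of_centAt hp hab (hinC hab hwc)
          have e : (QuotientGroup.mk a : T ⧸ Z) = QuotientGroup.mk b :=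
            QuotientGroup.eq.mpr (mem_subgroupOf.mpr h1)
          rw [e]
          exact mem_zpowers _
  haveI : IsCyclic (T ⧸ Z) := ⟨⟨h, fun g => (hh ▸ mem_top g : g ∈ zpowers h)⟩⟩
  haveI := MonoidHom.isMulCommutative_of_isCyclic_of_ker_le_center π
    (by rwa [hπ, QuotientGroup.ker_mk'])
  exact congrArg Subtype.val ((IsMulCommutative.is_comm (M := T)).comm ⟨s, hs⟩ ⟨t, ht⟩)

/-- `S` is a Sylow two-subgroup of the stabiliser of `x`. -/
theorem S_maximal [Finite G] [Finite Ω] (h : Crit G Ω D) (hP : RankOnePairs (G := G) Ω)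
    {S' : Subgroup G} (hS' : IsPGroup 2 S') (hS'x : S' ≤ stabilizer G x) (hSS' : S ≤ S') :
    S' ≤ S := by
  haveI : Fact (Nat.Prime 2) := ⟨Nat.prime_two⟩
  by_contra hnot
  obtain ⟨g, hgS', hgS, hgn⟩ := exists_mem_normalizer_not_mem hS' (lt_of_le_not_ge hSS' hnot)
  have huS : u ∈ S := hp.P_le (hc.u_mem_P hp)
  have hES : E ≤ S := hl.E_le.trans (hQP.trans hp.P_le)
  have hu2 := mul_self_of_orderOf_eq_two hl.bad.1
  have hgu : g * u * g⁻¹ ∈ centAt x E := hc.mem_centAt_of_mul_self hp hl hQP hP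
    ((mem_normalizer_iff.mp hgn u).mp huS)
    (by rw [show g * u * g⁻¹ * (g * u * g⁻¹) = g * (u * u) * g⁻¹ by group, hu2]; group)
  set P₀ := S ⊓ centralizer ({u} : Set G)
  obtain ⟨l, -, hlE⟩ := h.exists_conj_members hl (P := P₀) (hp.S_two.to_le inf_le_left)
    (fun b hb => mem_centralizer_singleton_iff.mp (mem_inf.mp hb).2)
    (fun b hb => smul_of_mem_normAt (hp.S_le (mem_inf.mp hb).1))
  set W : Subgroup G := E.map (MulAut.conj l).toMonoidHom with hW
  have hmemW : ∀ {d : G}, d ∈ D → d ∈ P₀ → d ∈ W := fun {d} hd hdP =>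
    ⟨l⁻¹ * d * l, hlE d hd hdP, by simp [mul_assoc]⟩
  have hEW : E ≤ W := fun e he => by
    by_cases he1 : e = 1
    · rw [he1]; exact one_mem _
    · exact hmemW (line2_member hl he he1).1 (mem_inf.mpr ⟨hES he,
        mem_centralizer_singleton_iff.mpr (line2_member hl he he1).2.1.eq⟩)
  have hWE : W = E := (Subgroup.eq_of_le_of_card_ge hEW (card_map_conj E l).le).symm
  have hgE : g⁻¹ ∈ normalizer (E : Set G) := mem_normalizer_of_conj_mem fun e he => by
    by_cases he1 : e = 1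
    · rw [he1]; simp
    rw [← hWE]
    refine hmemW (h.conj_mem (line2_member hl he he1).1 _) (mem_inf.mpr ⟨?_, ?_⟩)
    · exact (mem_normalizer_iff.mp (inv_mem hgn) e).mp (hES he)
    · refine mem_centralizer_singleton_iff.mpr ?_
      rw [inv_inv]
      calc g⁻¹ * e * g * u = g⁻¹ * (e * (g * u * g⁻¹)) * g := by group
        _ = g⁻¹ * (g * u * g⁻¹ * e) * g := by rw [(commute_of_mem_centAt hgu he).eq]
        _ = u * (g⁻¹ * e * g) := by group
  have hgM : g ∈ normAt x E :=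
    mem_normAt.mpr ⟨mem_stabilizer_iff.mp (hS'x hgS'), by simpa using inv_mem hgE⟩
  exact hgS (hp.S_max (S ⊔ zpowers g) (hS'.to_le (sup_le hSS' (zpowers_le.mpr hgS')))
    (sup_le hp.S_le (zpowers_le.mpr hgM)) le_sup_left (mem_sup_right (mem_zpowers g)))

end Chain

end Cfsg.Agent.H6.Asch
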